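import Cfsg.Agent.Lib.FischerO2.Coord
import Cfsg.Agent.Lib.Classical.Forms
import Cfsg.Prelude.Def_Classical

/-!
The rows of scalars span a unitary space over the field with four elements; the number of isotropic
vectors of that space.
-/

set_option autoImplicit false
set_option linter.style.haveILetI false

namespace CfsgLib.FischerO2

open Cfsg CfsgLib.ThreeTransp CfsgLib.ThreeTransp.StarPairs

attribute [local instance] _root_.Classical.propDecidable

section Herm

variable {F : Type*} [Field F] [Fintype F] {m : ℕ}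

local notation "H" => hermForm m F 2

omit [Fintype F] in
theorem herm_add_left (u u' v : Fin m → F) : H (u + u') v = H u v + H u' v := by
  simp [hermForm, add_mul, Finset.sum_add_distrib]

omit [Fintype F] in
theorem herm_smul_left (c : F) (u v : Fin m → F) : H (c • u) v = c * H u v := by
  simp [hermForm, Finset.mul_sum, mul_assoc]

omit [Fintype F] in
theorem herm_zero_left (v : Fin m → F) : H 0 v = 0 := by simp [hermForm]

omit [Fintype F] in
theorem herm_smul_right (c : F) (u v : Fin m → F) : H u (c • v) = c ^ 2 * H u v := by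
  simp only [hermForm, Pi.smul_apply, smul_eq_mul, Finset.mul_sum]
  exact Finset.sum_congr rfl fun i _ => by ring

variable (hF : Fintype.card F = 4)
include hF

theorem F4.sq_sq (c : F) : (c ^ 2) ^ 2 = c := by
  rcases eq_or_ne c 0 with rfl | h
  · simp
  · calc (c ^ 2) ^ 2 = c ^ 3 * c := by ring
      _ = c := by rw [F4.cube hF h, one_mul]

theorem F4.add_sq (a b : F) : (a + b) ^ 2 = a ^ 2 + b ^ 2 := by
  haveI := F4.charTwo hF
  haveI : Fact (Nat.Prime 2) := ⟨Nat.prime_two⟩
  exact add_pow_char a b 2

theorem F4.sum_sq {ι : Type*} (s : Finset ι) (f : ι → F) : (∑ i ∈ s, f i) ^ 2 = ∑ i ∈ s, f i ^ 2 := by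
  classical
  induction s using Finset.induction_on with
  | empty => simp
  | insert a s ha ih => rw [Finset.sum_insert ha, Finset.sum_insert ha, F4.add_sq hF, ih]

theorem herm_swap (u v : Fin m → F) : H v u = H u v ^ 2 := by
  simp only [hermForm]
  rw [F4.sum_sq hF]
  exact Finset.sum_congr rfl fun i _ => by rw [mul_pow, F4.sq_sq hF, mul_comm]

theorem herm_add_right (u v v' : Fin m → F) : H u (v + v') = H u v + H u v' := by
  rw [herm_swap hF (v + v') u, herm_add_left, F4.add_sq hF, ← herm_swap hF, ← herm_swap hF]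

theorem herm_self_cases (v : Fin m → F) : H v v = 0 ∨ H v v = 1 := by
  have h := herm_swap hF v v
  by_cases h0 : H v v = 0
  · exact Or.inl h0
  · exact Or.inr (mul_left_cancel₀ h0 (by rw [mul_one]; exact (pow_two (H v v) ▸ h).symm))

end Herm

/-- The number of vectors of norm zero. -/
noncomputable def zeroNorm (m : ℕ) (F : Type*) [Field F] [Fintype F] : ℕ :=
  Nat.card {v : Fin m → F // hermForm m F 2 v v = 0}

section Count

variable {F : Type*} [Field F] [Fintype F] (hF : Fintype.card F = 4)
include hF

theorem zeroNorm_succ (m : ℕ) :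
    zeroNorm (m + 1) F = zeroNorm m F + 3 * (4 ^ m - zeroNorm m F) := by
  classical
  have h2 := F4.add_self hF
  have hsq : ∀ c : F, c * c ^ 2 = if c = 0 then 0 else 1 := fun c => by
    split
    · next h => simp [h]
    · next h => rw [← F4.cube hF h]; ring
  have hstep : ∀ (c : F) (v : Fin m → F), hermForm (m + 1) F 2 (Fin.cons c v) (Fin.cons c v) =
      (if c = 0 then 0 else 1) + hermForm m F 2 v v := fun c v => by
    simp [hermForm, Fin.sum_univ_succ, hsq]
  let ψ : {v : Fin (m + 1) → F // hermForm (m + 1) F 2 v v = 0} ≃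
      {v : Fin m → F // hermForm m F 2 v v = 0} ⊕
        ({c : F // c ≠ 0} × {v : Fin m → F // hermForm m F 2 v v ≠ 0}) :=
    { toFun := fun v =>
        if h : v.1 0 = 0 then Sum.inl ⟨Fin.tail v.1, by
          have := v.2
          rw [← Fin.cons_self_tail v.1, hstep, if_pos h, zero_add] at this
          exact this⟩
        else Sum.inr (⟨v.1 0, h⟩, ⟨Fin.tail v.1, fun h' => by
          have := v.2
          rw [← Fin.cons_self_tail v.1, hstep, if_neg h, h', add_zero] at this
          exact one_ne_zero this⟩)
      invFun := fun s => Sum.elim (fun v => ⟨Fin.cons 0 v.1, by rw [hstep, if_pos rfl, v.2, zero_add]⟩)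
        (fun p => ⟨Fin.cons p.1.1 p.2.1, by
          rw [hstep, if_neg p.1.2, (herm_self_cases hF p.2.1).resolve_left p.2.2, h2]⟩) s
      left_inv := fun v => by
        by_cases h : v.1 0 = 0
        · simp only [dif_pos h, Sum.elim_inl]
          refine Subtype.ext ?_
          show Fin.cons 0 (Fin.tail v.1) = v.1
          conv_rhs => rw [← Fin.cons_self_tail v.1, h]
        · simp only [dif_neg h, Sum.elim_inr]
          exact Subtype.ext (Fin.cons_self_tail v.1)
      right_inv := fun s => by
        rcases s with v | p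
        · simp
        · simp [p.1.2] }
  rw [zeroNorm, Nat.card_congr ψ, Nat.card_sum, Nat.card_prod]
  congr 1
  have h3 : Nat.card {c : F // c ≠ 0} = 3 := by
    rw [Nat.card_eq_fintype_card, Fintype.card_subtype_compl, hF, Fintype.card_subtype_eq]
  have h4 : Nat.card {v : Fin m → F // hermForm m F 2 v v ≠ 0} = 4 ^ m - zeroNorm m F := by
    rw [zeroNorm, Nat.card_eq_fintype_card, Nat.card_eq_fintype_card, Fintype.card_subtype_compl,
      Fintype.card_fun, Fintype.card_fin, hF]
  rw [h3, h4]

omit hF in
theorem zeroNorm_zero : zeroNorm 0 F = 1 := by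
  rw [zeroNorm, Nat.card_eq_one_iff_unique]
  exact ⟨⟨fun a b => Subtype.ext (funext fun i => i.elim0)⟩, ⟨⟨0, by simp [hermForm]⟩⟩⟩

theorem zeroNorm_lt {m : ℕ} (hm : 1 ≤ m) : zeroNorm m F < 4 ^ m := by
  classical
  haveI : NeZero m := ⟨by omega⟩
  rw [zeroNorm, Nat.card_eq_fintype_card, show 4 ^ m = Fintype.card (Fin m → F) by
    rw [Fintype.card_fun, Fintype.card_fin, hF]]
  refine Fintype.card_subtype_lt (x := (Pi.single 0 1 : Fin m → F)) ?_
  simp [hermForm, Pi.single_apply]

theorem zeroNorm_mono {a b : ℕ} (ha : 1 ≤ a) (hab : a < b) : zeroNorm a F < zeroNorm b F := by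
  have step : ∀ k, 1 ≤ k → zeroNorm k F < zeroNorm (k + 1) F := fun k hk => by
    have := zeroNorm_lt hF hk
    rw [zeroNorm_succ hF]
    omega
  induction b with
  | zero => omega
  | succ b ih =>
    rcases Nat.lt_succ_iff_lt_or_eq.mp hab with h | rfl
    · exact (ih h).trans (step b (by omega))
    · exact step _ ha

theorem zeroNorm_small : zeroNorm 2 F = 10 ∧ zeroNorm 3 F = 28 := by
  have h1 : zeroNorm 1 F = 1 := by
    rw [zeroNorm_succ hF, zeroNorm_zero]; norm_num
  have h2 : zeroNorm 2 F = 10 := by rw [zeroNorm_succ hF, h1]; norm_num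
  exact ⟨h2, by rw [zeroNorm_succ hF, h2]; norm_num⟩

end Count

/-! ### The space of rows -/

variable {G : Type*} [Group G] [Finite G] {D : Set G} {x e : G}
variable {F : Type*} [Field F] [Fintype F] {lab : G → F → G} {kap : G → G → F}

theorem Coord.kap_herm (K : Coord D x e lab kap) {w y : G} (hw : w ∈ perp2 D x e)
    (hy : y ∈ perp2 D x e) : kap y w = kap w y ^ 2 := by
  by_cases h : Commute w y
  · rw [(K.kap_eq_zero y hy w hw).mpr h.symm, (K.kap_eq_zero w hw y hy).mpr h]; simp
  · have h0 := K.kap_ne hw hy h
    refine mul_left_cancel₀ h0 ?_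
    rw [K.kap_swap hw hy h, ← F4.cube K.card h0]
    ring

/-- A unitary space realising the rows. -/
structure Space (D : Set G) (x e : G) (lab : G → F → G) (kap : G → G → F) (m : ℕ)
    (rv : G → Fin m → F) : Prop extends Coord D x e lab kap where
  herm_rv : ∀ w ∈ perp2 D x e, ∀ y ∈ perp2 D x e, hermForm m F 2 (rv w) (rv y) = kap w y
  span_rv : Submodule.span F (rv '' perp2 D x e) = ⊤

set_option maxHeartbeats 800000 in
theorem Coord.exists_space (K : Coord D x e lab kap) :
    ∃ (m : ℕ) (rv : G → Fin m → F), Space D x e lab kap m rv := by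
  classical
  have hF := K.card
  let P : Type _ := perp2 D x e
  haveI : Fintype P := Fintype.ofFinite _
  let r : P → (P → F) := fun y w => kap y w
  let L : (P → F) →ₗ[F] (P → F) :=
    { toFun := fun d => ∑ y, d y • r y
      map_add' := fun d d' => by simp [add_smul, Finset.sum_add_distrib]
      map_smul' := fun c d => by simp [Finset.smul_sum, mul_smul] }
  let V := LinearMap.range L
  choose co hco using fun v : V => LinearMap.mem_range.mp v.2
  -- the form
  let Hv : V → V → F := fun u v => ∑ w, co u w * ((v : P → F) w) ^ 2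
  have key : ∀ (u v : V) (d : P → F), L d = (v : P → F) →
      ∑ y, d y ^ 2 * (u : P → F) y = Hv u v := by
    intro u v d hd
    rw [← hco u]
    simp only [Hv, ← hd]
    simp only [L, LinearMap.coe_mk, AddHom.coe_mk, Finset.sum_apply, Pi.smul_apply, smul_eq_mul,
      F4.sum_sq hF, Finset.mul_sum]
    rw [Finset.sum_comm]
    refine Finset.sum_congr rfl fun w _ => Finset.sum_congr rfl fun y _ => ?_
    simp only [r]
    rw [mul_pow, ← K.kap_herm y.2 w.2]
    ring
  have hswap : ∀ u v : V, Hv v u = Hv u v ^ 2 := by
    intro u v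
    rw [← key v u (co u) (hco u)]
    simp only [Hv, F4.sum_sq hF, mul_pow, F4.sq_sq hF]
  let Bl : V → V →ₗ[F] F := fun v =>
    { toFun := fun u => Hv u v
      map_add' := fun u u' => by
        simp only [← key _ v (co v) (hco v), Submodule.coe_add, Pi.add_apply, mul_add,
          Finset.sum_add_distrib]
      map_smul' := fun c u => by
        simp only [← key _ v (co v) (hco v), Submodule.coe_smul, Pi.smul_apply, smul_eq_mul,
          RingHom.id_apply, Finset.mul_sum]
        exact Finset.sum_congr rfl fun y _ => by ring }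
  haveI := F4.charTwo hF
  haveI : Fact (Nat.Prime 2) := ⟨Nat.prime_two⟩
  let B : V →ₛₗ[frobenius F 2] V →ₗ[F] F :=
    { toFun := Bl
      map_add' := fun v v' => LinearMap.ext fun u => by
        show Hv u (v + v') = Hv u v + Hv u v'
        simp only [Hv, Submodule.coe_add, Pi.add_apply, F4.add_sq hF, mul_add, Finset.sum_add_distrib]
      map_smul' := fun c v => LinearMap.ext fun u => by
        show Hv u (c • v) = frobenius F 2 c * Hv u v
        simp only [Hv, frobenius_def, Submodule.coe_smul, Pi.smul_apply, smul_eq_mul, mul_pow,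
          Finset.mul_sum]
        exact Finset.sum_congr rfl fun y _ => by ring }
  have hLs : ∀ y : P, L (Pi.single y 1) = r y := fun y => by
    show ∑ z, (Pi.single y (1 : F) : P → F) z • r z = r y
    rw [Fintype.sum_eq_single y fun z hz => by simp [hz]]
    simp
  let rV : P → V := fun y => ⟨r y, Pi.single y 1, hLs y⟩
  have hrV : ∀ (u : V) (y : P), Hv u (rV y) = (u : P → F) y := by
    intro u y
    rw [← key u (rV y) (Pi.single y 1) (hLs y), Fintype.sum_eq_single y fun z hz => by simp [hz]]
    simp
  have hnd : ∀ v : V, (∀ u, B v u = 0) → v = 0 := by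
    intro v hv
    refine Subtype.ext (funext fun y => ?_)
    have h : Hv (rV y) v = 0 := hv (rV y)
    rw [hswap, hrV] at h
    simpa using h
  have hne : frobenius F 2 ≠ RingHom.id F := by
    intro h
    obtain ⟨c, hc⟩ : ∃ c : F, c ∉ ({0, 1} : Finset F) := by
      by_contra! hall
      have := (Finset.card_le_card (fun c _ => hall c : Finset.univ ⊆ ({0, 1} : Finset F))).trans
        (Finset.card_le_two)
      rw [Finset.card_univ, hF] at this
      omega
    simp only [Finset.mem_insert, Finset.mem_singleton, not_or] at hc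
    have := DFunLike.congr_fun h c
    simp only [frobenius_def, RingHom.id_apply] at this
    exact hc.2 (mul_left_cancel₀ hc.1 (by rw [mul_one, ← pow_two, this]))
  obtain ⟨b, hb⟩ := Forms.exists_orthonormal_basis (V := V) (frobenius F 2) hne
    (fun c => by simp only [frobenius_def]; exact F4.sq_sq hF c) B
    (fun u v => (frobenius_def (R := F) 2 _).trans (hswap v u).symm) hnd
  set f := b.equivFun with hf
  have hform : ∀ u v : V, hermForm _ F 2 (f u) (f v) = Hv u v := by
    intro u v
    show _ = B v u
    conv_rhs => rw [← b.sum_equivFun u, ← b.sum_equivFun v]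
    simp only [map_sum, map_smulₛₗ, LinearMap.sum_apply, LinearMap.smul_apply, map_smul,
      smul_eq_mul, hb, frobenius_def, RingHom.id_apply]
    show ∑ i, f u i * f v i ^ 2 = _
    refine Finset.sum_congr rfl fun j _ => ?_
    rw [Fintype.sum_eq_single j fun z hz => by simp [hz, Ne.symm hz]]
    simp [hf, mul_comm]
  refine ⟨_, fun g => if h : g ∈ perp2 D x e then f (rV ⟨g, h⟩) else 0,
    { toCoord := K, herm_rv := fun w hw y hy => ?_, span_rv := ?_ }⟩
  · rw [dif_pos hw, dif_pos hy, hform, hrV]
  · rw [eq_top_iff]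
    intro v _
    rw [← f.apply_symm_apply v]
    set u := f.symm v
    have hu : u = ∑ y, co u y • rV y := Subtype.ext (by
      rw [← hco u, Submodule.coe_sum]
      rfl)
    rw [hu, map_sum]
    refine Submodule.sum_mem _ fun y _ => ?_
    rw [map_smul]
    refine Submodule.smul_mem _ _ (Submodule.subset_span ⟨y, y.2, ?_⟩)
    show (dite _ _ _) = _
    rw [dif_pos (show (y : G) ∈ perp2 D x e from y.2)]

variable {m : ℕ} {rv : G → Fin m → F}

theorem Space.ext_rows (S : Space D x e lab kap m rv) {u v : Fin m → F}
    (h : ∀ y ∈ perp2 D x e, hermForm m F 2 u (rv y) = hermForm m F 2 v (rv y)) : u = v := by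
  have hF := S.card
  have : ∀ z : Fin m → F, hermForm m F 2 u z = hermForm m F 2 v z := by
    intro z
    have hz : z ∈ Submodule.span F (rv '' perp2 D x e) := S.span_rv ▸ Submodule.mem_top
    induction hz using Submodule.span_induction with
    | mem w hw => obtain ⟨y, hy, rfl⟩ := hw; exact h y hy
    | zero => simp [hermForm]
    | add a b _ _ ha hb => rw [herm_add_right hF, herm_add_right hF, ha, hb]
    | smul c a _ ha => rw [herm_smul_right, herm_smul_right, ha]
  funext i
  simpa [hermForm, Pi.single_apply] using this (Pi.single i 1)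

theorem Space.rv_self (S : Space D x e lab kap m rv) {w : G} (hw : w ∈ perp2 D x e) :
    hermForm m F 2 (rv w) (rv w) = 0 := by
  rw [S.herm_rv w hw w hw, (S.kap_eq_zero w hw w hw).mpr (Commute.refl w)]

theorem Space.rv_ne_zero (S : Space D x e lab kap m rv) {w : G} (hw : w ∈ perp2 D x e) :
    rv w ≠ 0 := by
  intro h0
  obtain ⟨v, hv, hvw⟩ := S.toChart.mate hw
  refine hvw ((S.kap_eq_zero w hw v hv).mp ?_).symm
  rw [← S.herm_rv w hw v hv, h0, herm_zero_left]

end CfsgLib.FischerO2
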