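import Mathlib

/-!
Two groups with trivial centre, each generated by a set on which conjugation is described by the
same table, are isomorphic.
-/

set_option autoImplicit false

namespace CfsgLib.FischerO2

variable {G H : Type*} [Group G] [Group H]

/-- The action by conjugation on a closed set. -/
def setAct {K : Type*} [Group K] (S : Set K) (hc : ∀ g : K, ∀ d ∈ S, g * d * g⁻¹ ∈ S) :
    K →* Equiv.Perm S where
  toFun g :=
    { toFun := fun d => ⟨g * d * g⁻¹, hc g d d.2⟩
      invFun := fun d => ⟨g⁻¹ * d * g⁻¹⁻¹, hc g⁻¹ d d.2⟩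
      left_inv := fun d => Subtype.ext (by group)
      right_inv := fun d => Subtype.ext (by group) }
  map_one' := Equiv.ext fun d => Subtype.ext (by simp)
  map_mul' g h := Equiv.ext fun d => Subtype.ext (by
    show g * h * d * (g * h)⁻¹ = g * (h * d * h⁻¹) * g⁻¹
    group)

theorem setAct_injective {K : Type*} [Group K] (S : Set K)
    (hc : ∀ g : K, ∀ d ∈ S, g * d * g⁻¹ ∈ S) (hg : Subgroup.closure S = ⊤)
    (hZ : Subgroup.center K = ⊥) : Function.Injective (setAct S hc) := by
  refine (injective_iff_map_eq_one _).mpr fun g hg1 => ?_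
  rw [← Subgroup.mem_bot, ← hZ, Subgroup.mem_center_iff]
  intro k
  have hk : k ∈ Subgroup.closure S := hg ▸ Subgroup.mem_top k
  have hle : Subgroup.closure S ≤ Subgroup.centralizer ({g} : Set K) := by
    refine (Subgroup.closure_le _).mpr fun d hd => Subgroup.mem_centralizer_singleton_iff.mpr ?_
    have h1 : g * d * g⁻¹ = d := congrArg (fun s : S => (s : K)) (Equiv.ext_iff.mp hg1 ⟨d, hd⟩)
    exact (mul_inv_eq_iff_eq_mul.mp h1).symm
  exact Subgroup.mem_centralizer_singleton_iff.mp (hle hk)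

/-- Without the centre of the first group being trivial there is still a map onto the second. -/
theorem hom_of_equiv {D : Set G} {E : Set H} (hcD : ∀ g : G, ∀ d ∈ D, g * d * g⁻¹ ∈ D)
    (hcE : ∀ g : H, ∀ d ∈ E, g * d * g⁻¹ ∈ E) (hgD : Subgroup.closure D = ⊤)
    (hgE : Subgroup.closure E = ⊤) (hZH : Subgroup.center H = ⊥)
    (φ : D ≃ E)
    (hφ : ∀ a b : D, ((φ ⟨(a : G) * b * (a : G)⁻¹, hcD _ _ b.2⟩ : E) : H) =
      (φ a : H) * φ b * (φ a : H)⁻¹) :
    ∃ f : G →* H, Function.Surjective f ∧ (Subgroup.center G = ⊥ → Function.Injective f) := by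
  set α := setAct D hcD
  set β := φ.symm.permCongrHom.toMonoidHom.comp (setAct E hcE) with hβ
  have hβi : Function.Injective β :=
    φ.symm.permCongrHom.injective.comp (setAct_injective E hcE hgE hZH)
  have himg : α '' D = β '' E := by
    have key : ∀ a : D, β (φ a) = α a := fun a => Equiv.ext fun b => by
      refine φ.injective (Subtype.ext ?_)
      show ((φ (φ.symm ((setAct E hcE (φ a)) (φ.symm.symm b))) : E) : H) = _
      rw [Equiv.apply_symm_apply, Equiv.symm_symm]
      exact (hφ a b).symm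
    ext p
    constructor
    · rintro ⟨a, ha, rfl⟩
      exact ⟨_, (φ ⟨a, ha⟩).2, key ⟨a, ha⟩⟩
    · rintro ⟨b, hb, rfl⟩
      refine ⟨(φ.symm ⟨b, hb⟩ : G), (φ.symm ⟨b, hb⟩).2, ?_⟩
      have := key (φ.symm ⟨b, hb⟩)
      rw [Equiv.apply_symm_apply] at this
      exact this.symm
  have hrange : α.range = β.range := by
    rw [MonoidHom.range_eq_map, MonoidHom.range_eq_map, ← hgD, ← hgE, MonoidHom.map_closure,
      MonoidHom.map_closure, himg]
  set g := ((MonoidHom.ofInjective hβi).symm.toMonoidHom.comp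
    (MulEquiv.subgroupCongr hrange).toMonoidHom).comp α.rangeRestrict with hg
  refine ⟨g, ?_, fun hZG p q hpq => ?_⟩
  · exact ((MonoidHom.ofInjective hβi).symm.surjective.comp
      (MulEquiv.subgroupCongr hrange).surjective).comp α.rangeRestrict_surjective
  · exact setAct_injective D hcD hgD hZG (congrArg Subtype.val ((MulEquiv.subgroupCongr hrange).injective
      ((MonoidHom.ofInjective hβi).symm.injective hpq)))

theorem iso_of_equiv {D : Set G} {E : Set H} (hcD : ∀ g : G, ∀ d ∈ D, g * d * g⁻¹ ∈ D)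
    (hcE : ∀ g : H, ∀ d ∈ E, g * d * g⁻¹ ∈ E) (hgD : Subgroup.closure D = ⊤)
    (hgE : Subgroup.closure E = ⊤) (hZG : Subgroup.center G = ⊥) (hZH : Subgroup.center H = ⊥)
    (φ : D ≃ E)
    (hφ : ∀ a b : D, ((φ ⟨(a : G) * b * (a : G)⁻¹, hcD _ _ b.2⟩ : E) : H) =
      (φ a : H) * φ b * (φ a : H)⁻¹) :
    Nonempty (G ≃* H) := by
  obtain ⟨f, hf, hi⟩ := hom_of_equiv hcD hcE hgD hgE hZH φ hφ
  exact ⟨MulEquiv.ofBijective f ⟨hi hZG, hf⟩⟩

end CfsgLib.FischerO2
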