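import Cfsg.Agent.Lib.FischerO2.Isom
import Cfsg.Agent.Lib.FischerO2.Recog
import Cfsg.Agent.Lib.Classical.UnitarySimple

/-!
A class whose members are the isotropic points of a unitary space is the class of transvections of
`PSU n 2`.
-/

set_option autoImplicit false
set_option linter.style.haveILetI false

namespace CfsgLib.FischerO2

open Cfsg CfsgLib.ThreeTransp CfsgLib.ThreeTransp.StarPairs
open CfsgLib.Classical.Herm (app IsT gen_top exists_T app_mul app_one h_app ext_app)

attribute [local instance] _root_.Classical.propDecidable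

section Transvections

variable {F : Type*} [Field F] [Fintype F] {n : ℕ} (hF : Fintype.card F = 4)
include hF

theorem exists_conjF : Nonempty (CfsgLib.ClassicalAut.Unitary.Conj F 2) := by
  haveI := F4.charTwo hF
  haveI : Fact (Nat.Prime 2) := ⟨Nat.prime_two⟩
  exact CfsgLib.ClassicalAut.Unitary.exists_conj (p := 2) (f := 1) (by norm_num)
    (by rw [Nat.card_eq_fintype_card, hF]; norm_num)

/-- An isotropic vector off the perp of a given one. -/
theorem exists_iso_vec (hn : 2 ≤ n) {v : Fin n → F} (hv : v ≠ 0) :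
    ∃ u : Fin n → F, hermForm n F 2 u u = 0 ∧ hermForm n F 2 u v ≠ 0 := by
  obtain ⟨i, hi⟩ := Function.ne_iff.mp hv
  haveI : Nontrivial (Fin n) := Fin.nontrivial_iff_two_le.mpr hn
  obtain ⟨j, hj⟩ := exists_ne i
  have val : ∀ (c : F) (w : Fin n → F),
      hermForm n F 2 (Pi.single i 1 + Pi.single j c) w = w i ^ 2 + c * w j ^ 2 := fun c w => by
    rw [herm_add_left]
    simp [hermForm, Pi.single_apply]
  have self : ∀ c : F, c ≠ 0 → hermForm n F 2 (Pi.single i 1 + Pi.single j c)
      (Pi.single i 1 + Pi.single j c) = 0 := fun c hc => by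
    rw [val]
    simp [Pi.single_apply, hj, hj.symm, ← pow_succ', F4.cube hF hc, F4.add_self hF]
  by_cases h1 : v i ^ 2 + 1 * v j ^ 2 = 0
  · obtain ⟨w, hw⟩ := F4.exists_omega hF
    obtain ⟨hw0, hw1⟩ := F4.root_ne hF hw
    refine ⟨Pi.single i 1 + Pi.single j w, self w hw0, fun h => ?_⟩
    rw [val] at h
    have h' : (w - 1) * v j ^ 2 = 0 := by linear_combination h - h1
    have hj0 : v j ^ 2 = 0 := (mul_eq_zero.mp h').resolve_left (sub_ne_zero.mpr hw1)
    rw [hj0, mul_zero, add_zero] at h1
    exact hi (pow_eq_zero_iff (by norm_num) |>.mp h1)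
  · exact ⟨Pi.single i 1 + Pi.single j 1, self 1 one_ne_zero, fun h => h1 (by rwa [val] at h)⟩

variable (K : CfsgLib.ClassicalAut.Unitary.Conj F 2)

theorem isT_one_add : (1 : F) + K.bar 1 = 0 := by rw [map_one, F4.add_self hF]

omit hF in
theorem isT_unique {g g' : SU n F 2} {v v' : Fin n → F} (hg : IsT K g v 1) (hg' : IsT K g' v' 1)
    {c : F} (hc : c ^ 3 = 1) (h : v' = c • v) : g = g' := by
  refine ext_app fun x => ?_
  rw [hg.2.2, hg'.2.2, h, herm_smul_right, smul_smul]
  congr 2
  linear_combination -hermForm n F 2 x v * hc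

omit hF in
theorem isT_conj {g : SU n F 2} {v : Fin n → F} (hg : IsT K g v 1) (h : SU n F 2) :
    IsT K (h * g * h⁻¹) (app h v) 1 := by
  refine ⟨by rw [h_app]; exact hg.1, hg.2.1, fun x => ?_⟩
  rw [app_mul, app_mul, hg.2.2, Classical.Herm.app_add, Classical.Herm.app_smul,
    Classical.Herm.app_inv']
  conv_rhs => rw [← Classical.Herm.app_inv' h x, h_app, Classical.Herm.app_inv']

theorem isT_sq {g : SU n F 2} {v : Fin n → F} (hg : IsT K g v 1) : g * g = 1 := by
  refine ext_app fun x => ?_
  rw [app_mul, app_one, hg.2.2, hg.2.2, herm_add_left, herm_smul_left, hg.1]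
  funext i
  simp only [Pi.add_apply, Pi.smul_apply, smul_eq_mul]
  linear_combination hermForm n F 2 x v * v i * F4.add_self hF (1 : F)

theorem isT_comm {g g' : SU n F 2} {v v' : Fin n → F} (hg : IsT K g v 1) (hg' : IsT K g' v' 1)
    (h : hermForm n F 2 v v' = 0) : Commute g g' := by
  have h' : hermForm n F 2 v' v = 0 := by rw [herm_swap hF, h]; ring
  refine ext_app fun x => ?_
  rw [app_mul, app_mul, hg.2.2, hg'.2.2, hg.2.2, hg'.2.2, herm_add_left, herm_add_left,
    herm_smul_left, herm_smul_left, h, h']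
  simp only [mul_zero, add_zero, one_mul]
  abel

/-- Transvections with the same image have proportional centres. -/
theorem isT_inj (hn : 2 ≤ n) {g g' : SU n F 2} {v v' : Fin n → F} (hg : IsT K g v 1)
    (hg' : IsT K g' v' 1) (hv : v ≠ 0) (hv' : v' ≠ 0)
    (h : QuotientGroup.mk' (Subgroup.center (SU n F 2)) g =
      QuotientGroup.mk' (Subgroup.center (SU n F 2)) g') :
    ∃ c : F, v' = c • v := by
  set z := g * g'
  have hg'i : g'⁻¹ = g' := inv_eq_of_mul_eq_one_right (isT_sq hF K hg')
  have hz : z ∈ Subgroup.center (SU n F 2) := by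
    have := QuotientGroup.eq.mp h.symm
    rw [hg'i] at this
    have h2 := (Subgroup.mem_center_iff.mp this) g'
    rw [show g' * (g' * g) = (g' * g') * g by group, isT_sq hF K hg', one_mul] at h2
    have e : z = g' * g := by
      show g * g' = g' * g
      calc g * g' = (g' * g * g') * g' := by rw [← h2]
        _ = g' * g * (g' * g') := by group
        _ = g' * g := by rw [isT_sq hF K hg', mul_one]
    exact e ▸ this
  have zx : ∀ x, app z x = x + hermForm n F 2 x v' • v' +
      (hermForm n F 2 x v + hermForm n F 2 x v' * hermForm n F 2 v' v) • v := fun x => by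
    rw [app_mul, hg'.2.2, hg.2.2, one_mul, one_mul, herm_add_left, herm_smul_left]
  by_cases hvv : hermForm n F 2 v' v = 0
  · obtain ⟨u, hu, huv⟩ := exists_iso_vec hF hn hv
    obtain ⟨t, ht⟩ := exists_T K hu (isT_one_add hF K)
    obtain ⟨i, hi⟩ := Function.ne_iff.mp (fun h0 : u = 0 => huv (by rw [h0, herm_zero_left]))
    have hxu : hermForm n F 2 (Pi.single i 1) u = u i ^ 2 := by
      simp [hermForm, Pi.single_apply]
    have hxu0 : hermForm n F 2 (Pi.single i 1) u ≠ 0 := by
      rw [hxu]; exact pow_ne_zero 2 hi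
    have hcomm := congrArg (fun k : SU n F 2 => app k (Pi.single i (1 : F)))
      (Subgroup.mem_center_iff.mp hz t)
    simp only [app_mul, ht.2.2, one_mul, Classical.Herm.app_add, Classical.Herm.app_smul] at hcomm
    have hcomm' := add_left_cancel hcomm
    obtain ⟨μ, hμ⟩ : ∃ μ : F, app z u = μ • u := ⟨(hermForm n F 2 (Pi.single i 1) u)⁻¹ *
      hermForm n F 2 (app z (Pi.single i 1)) u, by
      rw [mul_smul, hcomm', smul_smul, inv_mul_cancel₀ hxu0, one_smul]⟩
    rw [zx, hvv, mul_zero, add_zero] at hμ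
    by_cases hμ1 : μ = 1
    · subst hμ1
      rw [one_smul] at hμ
      have e : hermForm n F 2 u v' • v' + hermForm n F 2 u v • v = 0 := by
        rw [add_assoc] at hμ
        exact add_eq_left.mp hμ
      by_cases h0 : hermForm n F 2 u v' = 0
      · rw [h0, zero_smul, zero_add] at e
        exact absurd e (smul_ne_zero huv hv)
      · refine ⟨-((hermForm n F 2 u v') ⁻¹ * hermForm n F 2 u v), ?_⟩
        rw [neg_smul, mul_smul, eq_neg_iff_add_eq_zero]
        have := congrArg ((hermForm n F 2 u v')⁻¹ • ·) e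
        simpa [smul_add, smul_smul, inv_mul_cancel₀ h0] using this
    · exfalso
      apply huv
      have h1 := congrArg (fun q => hermForm n F 2 q v) hμ
      simp only [herm_add_left, herm_smul_left, hvv, hg.1, mul_zero, add_zero] at h1
      by_contra hne
      exact hμ1 (mul_right_cancel₀ hne (by rw [one_mul, ← h1]))
  · -- the two transvections commute
    have hc : g * g' = g' * g := by
      have h2 := Subgroup.mem_center_iff.mp hz g'
      calc g * g' = (g' * g') * (g * g') := by rw [isT_sq hF K hg', one_mul]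
        _ = g' * (g' * (g * g')) := by group
        _ = g' * ((g * g') * g') := by rw [h2]
        _ = g' * g * (g' * g') := by group
        _ = g' * g := by rw [isT_sq hF K hg', mul_one]
    have e := congrArg (fun k : SU n F 2 => app k v') hc
    simp only [app_mul, hg.2.2, hg'.2.2, hg'.1, mul_zero, zero_smul, add_zero, one_mul,
      herm_add_left, herm_smul_left, zero_add] at e
    have e' := add_eq_left.mp e.symm
    rw [smul_eq_zero] at e'
    rcases e' with e' | e'
    · rw [herm_swap hF v' v] at e'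
      rcases mul_eq_zero.mp e' with h' | h'
      · exact absurd h' hvv
      · exact absurd (pow_eq_zero_iff (n := 2) (by norm_num) |>.mp h') hvv
    · exact absurd e' hv'

/-- Commuting of the images is orthogonality of the centres. -/
theorem isT_comm_iff (hn : 2 ≤ n) {g g' : SU n F 2} {v v' : Fin n → F} (hg : IsT K g v 1)
    (hg' : IsT K g' v' 1) (hv : v ≠ 0) (hv' : v' ≠ 0) :
    Commute (QuotientGroup.mk' (Subgroup.center (SU n F 2)) g)
      (QuotientGroup.mk' (Subgroup.center (SU n F 2)) g') ↔ hermForm n F 2 v v' = 0 := by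
  refine ⟨fun h => ?_, fun h => (isT_comm hF K hg hg' h).map _⟩
  have hu := isT_conj K hg' g
  have hu0 : app g v' ≠ 0 := fun h0 => hv' (by
    rw [← Classical.Herm.app_inv g v', h0]; exact Matrix.mulVec_zero _)
  obtain ⟨c, hc⟩ := isT_inj hF K hn hg' hu hv' hu0 (by
    rw [map_mul, map_mul, map_inv, h.eq, mul_inv_cancel_right])
  rw [hg.2.2, one_mul] at hc
  by_contra hne
  have hne' : hermForm n F 2 v' v ≠ 0 := fun q => hne (by rw [herm_swap hF, q]; ring)
  have hvc : v = ((hermForm n F 2 v' v)⁻¹ * (c - 1)) • v' := by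
    rw [mul_smul, sub_smul, one_smul, ← hc, add_sub_cancel_left, smul_smul, inv_mul_cancel₀ hne',
      one_smul]
  exact hne (by rw [hvc, herm_smul_left, hg'.1, mul_zero])

end Transvections

/-- The group maps onto `PSU n 2`. -/
theorem exists_hom_psu {G : Type*} [Group G] [Finite G] {D : Set G} {F : Type*} [Field F] [Fintype F]
    (hF : Fintype.card F = 4) (U : Unit5 D) {n : ℕ} (hn : 4 ≤ n) {φ : G → Fin n → F}
    (P : IsPoints D n φ) :
    ¬ (∀ a b : PSU n F 2, Commute a b) ∧
      ∃ f : G →* PSU n F 2, Function.Surjective f ∧ (Subgroup.center G = ⊥ → Function.Injective f) := by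
  have L := U.toLines
  obtain ⟨K⟩ := exists_conjF hF
  haveI : Fact (Nat.Prime 2) := ⟨Nat.prime_two⟩
  haveI := F4.charTwo hF
  set π := QuotientGroup.mk' (Subgroup.center (SU n F 2))
  have hT : ∀ v : Fin n → F, ∃ g : SU n F 2, hermForm n F 2 v v = 0 → IsT K g v 1 := fun v => by
    by_cases hv : hermForm n F 2 v v = 0
    · obtain ⟨g, hg⟩ := exists_T K hv (isT_one_add hF K)
      exact ⟨g, fun _ => hg⟩
    · exact ⟨1, fun h => absurd h hv⟩
  choose T hT using hT
  have hTa : ∀ a ∈ D, IsT K (T (φ a)) (φ a) 1 := fun a ha => hT _ (P.iso a ha)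
  set E : Set (PSU n F 2) := (fun a => π (T (φ a))) '' D
  have memE : ∀ {g : SU n F 2} {v : Fin n → F}, IsT K g v 1 → v ≠ 0 →
      ∃ a ∈ D, π g = π (T (φ a)) ∧ ∃ c : F, c ≠ 0 ∧ v = c • φ a := by
    intro g v hg hv
    obtain ⟨a, ha, c, hc, hva⟩ := P.surj v hv hg.1
    exact ⟨a, ha, by rw [isT_unique K (hTa a ha) hg (F4.cube hF hc) hva], c, hc, hva⟩
  have hcomm : ∀ a ∈ D, ∀ b ∈ D, (Commute (π (T (φ a))) (π (T (φ b))) ↔ Commute a b) :=
    fun a ha b hb => by
      rw [P.comm a ha b hb]
      exact isT_comm_iff hF K (by omega) (hTa a ha) (hTa b hb) (P.ne_zero a ha) (P.ne_zero b hb)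
  have hinj : ∀ a ∈ D, ∀ b ∈ D, π (T (φ a)) = π (T (φ b)) → b = a := by
    intro a ha b hb h
    obtain ⟨c, hc⟩ := isT_inj hF K (by omega) (hTa a ha) (hTa b hb) (P.ne_zero a ha)
      (P.ne_zero b hb) h
    exact P.inj b hb a ha c hc
  have hcE : ∀ g : PSU n F 2, ∀ d ∈ E, g * d * g⁻¹ ∈ E := by
    rintro g _ ⟨a, ha, rfl⟩
    obtain ⟨h, rfl⟩ := QuotientGroup.mk'_surjective _ g
    have h1 := isT_conj K (hTa a ha) h
    have h0 : app h (φ a) ≠ 0 := fun h0 => P.ne_zero a ha (by
      rw [← Classical.Herm.app_inv h (φ a), h0]; exact Matrix.mulVec_zero _)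
    obtain ⟨b, hb, hbg, -⟩ := memE h1 h0
    refine ⟨b, hb, ?_⟩
    show π (T (φ b)) = π h * π (T (φ a)) * (π h)⁻¹
    rw [← hbg, map_mul, map_mul, map_inv]
  have hgE : Subgroup.closure E = ⊤ := by
    have htop := gen_top K (n := n) (by omega) (fun h => by omega)
    rw [eq_top_iff, ← MonoidHom.range_eq_top.mpr (QuotientGroup.mk'_surjective
      (Subgroup.center (SU n F 2))), MonoidHom.range_eq_map, ← htop, Classical.Herm.gen,
      MonoidHom.map_closure, Subgroup.closure_le]
    rintro _ ⟨g, ⟨v, -, c, hv, hc, hg⟩, rfl⟩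
    by_cases hzero : v = 0 ∨ c = 0
    · have : g = 1 := ext_app fun x => by
        rw [hg, app_one]
        rcases hzero with h | h <;> simp [h]
      rw [this, map_one]
      exact one_mem _
    push Not at hzero
    obtain ⟨hv0, hc0⟩ := hzero
    have hc1 : c = 1 := (F4.self_conj hF (by rw [← K.bar_apply]; exact hc)).resolve_left hc0
    obtain ⟨a, ha, hga, -⟩ := memE ⟨hv, isT_one_add hF K, hc1 ▸ hg⟩ hv0
    exact Subgroup.subset_closure ⟨a, ha, hga.symm⟩
  obtain ⟨x, e, C⟩ := U.exists_chart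
  have hnc : ¬ ∀ a b : PSU n F 2, Commute a b := fun h =>
    C.hxe ((hcomm x C.hx e C.he).mp (h _ _))
  haveI : IsSimpleGroup (PSU n F 2) :=
    Classical.Herm.isSimpleGroup K 2 (by omega) (fun h => by omega)
  have hZH : Subgroup.center (PSU n F 2) = ⊥ :=
    (Subgroup.Normal.eq_bot_or_eq_top (inferInstance : (Subgroup.center (PSU n F 2)).Normal)
      ).resolve_right fun h => hnc fun a b =>
        Subgroup.mem_center_iff.mp (h ▸ Subgroup.mem_top b) a
  refine ⟨hnc, ?_⟩
  let ψ : D → E := fun a => ⟨π (T (φ a)), a, a.2, rfl⟩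
  have hψ : Function.Bijective ψ := ⟨fun a b h => Subtype.ext (hinj _ a.2 _ b.2
    (congrArg Subtype.val h)).symm, fun ⟨_, a, ha, hq⟩ => ⟨⟨a, ha⟩, Subtype.ext hq⟩⟩
  refine hom_of_equiv L.closed hcE L.grp.2.2 hgE hZH (Equiv.ofBijective ψ hψ) fun a b => ?_
  show π (T (φ ((a : G) * b * (a : G)⁻¹))) = π (T (φ a)) * π (T (φ b)) * (π (T (φ a)))⁻¹
  rw [conj_eq L.set a.2]
  by_cases hab : Commute (a : G) b
  · rw [L.flip_fix a.2 hab, ((hcomm a a.2 b b.2).mpr hab).eq, mul_inv_cancel_right]
  set v := φ (a : G)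
  set w := φ (b : G)
  have hwv : hermForm n F 2 w v ≠ 0 := fun h =>
    hab ((P.comm b b.2 a a.2).mpr h).symm
  have h1 := isT_conj K (hTa b b.2) (T v)
  have hv' : app (T v) w ≠ 0 := fun h0 => P.ne_zero b b.2 (by
    show w = 0
    rw [← Classical.Herm.app_inv (T v) w, h0]; exact Matrix.mulVec_zero _)
  obtain ⟨z, hz, hzg, c, hc, hvz⟩ := memE h1 hv'
  have happ : app (T v) w = w + hermForm n F 2 w v • v := by rw [(hTa a a.2).2.2, one_mul]
  rw [happ] at hvz
  have Cab : Chart D (a : G) b := { toUnit5 := U, hx := a.2, he := b.2, hxe := hab }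
  have hperp : ∀ q ∈ D, hermForm n F 2 (φ q) (w + hermForm n F 2 w v • v) = 0 → Commute q z := by
    intro q hq h
    refine (P.comm q hq z hz).mpr ?_
    rw [hvz, herm_smul_right] at h
    exact (mul_eq_zero.mp h).resolve_left (pow_ne_zero 2 hc)
  have hzoff : z ∈ off D (a : G) := ⟨hz, fun h => hwv (by
    have h' : hermForm n F 2 (φ z) v = 0 := (P.comm z hz a a.2).mp h.symm
    have h3 := congrArg (fun q => hermForm n F 2 q v) hvz
    simp only [herm_add_left, herm_smul_left, P.iso a a.2, mul_zero, add_zero, h'] at h3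
    rwa [show hermForm n F 2 v v = 0 from P.iso a a.2, mul_zero, add_zero] at h3)⟩
  rcases Cab.off_perp hF hzoff fun q hq => (hperp q hq.1 (by
      rw [herm_add_right hF, herm_smul_right, (P.comm q hq.1 b b.2).mp hq.2.2.symm,
        (P.comm q hq.1 a a.2).mp hq.2.1.symm, mul_zero, add_zero])).symm with hzb | hzb
  · exfalso
    apply hwv
    subst hzb
    have h3 : hermForm n F 2 (w + hermForm n F 2 w v • v) w = 0 := by
      rw [hvz, herm_smul_left, P.iso _ b.2, mul_zero]
    rw [herm_add_left, herm_smul_left, P.iso _ b.2, zero_add, herm_swap hF w v] at h3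
    rcases mul_eq_zero.mp h3 with h' | h'
    · exact h'
    · exact pow_eq_zero_iff (n := 2) (by norm_num) |>.mp h'
  · rw [← hzb, ← hzg, map_mul, map_mul, map_inv]

end CfsgLib.FischerO2
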