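import Cfsg.Agent.Lib.FischerO2.Lines
import Cfsg.Agent.Lib.FischerO2.Recog
import Cfsg.Agent.Lib.Classical.SympTrans
import Cfsg.Agent.Lib.Classical.Forms

/-!
Lines of three points: the members correspond to the non-zero vectors of a symplectic space over
the field with two elements and the group is the symplectic group.
-/

set_option autoImplicit false
set_option linter.style.haveILetI false

namespace CfsgLib.FischerO2

attribute [local instance] _root_.Classical.propDecidable

open Cfsg CfsgLib.ThreeTransp CfsgLib.ThreeTransp.StarPairs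
open CfsgLib.Classical.SympTrans (app app_T T ext_app conj_T gen_univ f_self f_swap eq_zero_of_f)

variable {G : Type*} [Group G] [Finite G] {D : Set G}

/-- The hypothesis: three points on each line. -/
structure Symp (D : Set G) : Prop extends Lines D where
  three : ∀ x ∈ D, ∀ a ∈ nbr D x, (line D x a).ncard = 3

theorem Symp.mem_cases (S : Symp D) {x a c u : G} (hx : x ∈ D) (ha : a ∈ nbr D x)
    (hc : c ∈ line D x a) (hcx : c ≠ x) (hca : c ≠ a) (hu : u ∈ line D x a) :
    u = x ∨ u = a ∨ u = c := by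
  have h : ({x, a, c} : Set G) = line D x a :=
    Set.eq_of_subset_of_ncard_le
      (by rintro z (rfl | rfl | rfl); exacts [left_mem_line hx, right_mem_line ha.1, hc])
      (by rw [S.three x hx a ha, Set.ncard_eq_three.mpr
        ⟨x, a, c, ha.2.1.symm, hcx.symm, hca.symm, rfl⟩]) (Set.toFinite _)
  simpa using (h ▸ hu : u ∈ ({x, a, c} : Set G))

theorem Symp.eq_third (S : Symp D) {x a c u : G} (hx : x ∈ D) (ha : a ∈ nbr D x)
    (hc : c ∈ line D x a) (hcx : c ≠ x) (hca : c ≠ a) (hu : u ∈ line D x a) (hux : u ≠ x)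
    (hua : u ≠ a) : u = c :=
  ((S.mem_cases hx ha hc hcx hca hu).resolve_left hux).resolve_left hua

/-- No affine plane meets a common neighbour that does not commute with all of it. -/
theorem Symp.no_affine_of_exists (S : Symp D) {a b e x : G} (ha : a ∈ D) (hb : b ∈ D) (he : e ∈ D)
    (hab : ¬ Commute a b) (hea : ¬ Commute e a) (heb : ¬ Commute e b)
    (hec : ¬ Commute e (a * b * a)) (hx : x ∈ perp2 D a b) (hxe : ¬ Commute x e) : False := by
  have L := S.toLines
  set c := a * b * a with hc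
  obtain ⟨hxD, hax, hbx⟩ := hx
  have hxc : Commute x c := (hax.symm.mul_right hbx.symm).mul_right hax.symm
  have hna : a ∈ nbr D x := ⟨ha, fun h => hab (h ▸ hbx).symm, hax.symm⟩
  have hnb : b ∈ nbr D x := ⟨hb, fun h => hab (h ▸ hax), hbx.symm⟩
  have hnc : c ∈ nbr D x := nbr_flip_fix L.set L.closed hna hnb
  obtain ⟨a', ha', hea'⟩ := L.exists_foot hxD hna he
  obtain ⟨b', hb', heb'⟩ := L.exists_foot hxD hnb he
  obtain ⟨c', hc', hec'⟩ := L.exists_foot hxD hnc he
  have hne : ∀ {d d' : G}, ¬ Commute e d → Commute e d' → d' ≠ x ∧ d' ≠ d := fun h h' =>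
    ⟨fun q => hxe (q ▸ h').symm, fun q => h (q ▸ h')⟩
  obtain ⟨ha'x, ha'a⟩ := hne hea hea'
  obtain ⟨hb'x, hb'b⟩ := hne heb heb'
  obtain ⟨hc'x, hc'c⟩ := hne hec hec'
  have hla : line D x a' = line D x a :=
    L.line_eq hxD hna (left_mem_line hxD) ha' ha'x.symm
  have hxa' : Commute x a' := line_commute hxD ha hax.symm (left_mem_line hxD) ha'
  have hxb' : Commute x b' := line_commute hxD hb hbx.symm (left_mem_line hxD) hb'
  have hab' : ¬ Commute a b' := fun h => hab (L.commute_all hxD hnb (left_mem_line hxD) hb'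
    hb'x.symm ha hax h (right_mem_line hb))
  have ha'b : ¬ Commute a' b := fun h => hab
    (L.commute_all hxD hna (left_mem_line hxD) ha' ha'x.symm hb hbx h.symm (right_mem_line ha)).symm
  have ha'b' : ¬ Commute a' b' := fun h => hab' (L.commute_all hxD hna (left_mem_line hxD) ha'
    ha'x.symm hb'.1 hxb'.symm h.symm (right_mem_line ha)).symm
  -- the four products lie on the line of `c`
  have hal : a ∈ line D x a := right_mem_line ha
  have m1 : a' * b' * a' ∈ line D x c := L.move hxD hna ha' ha'x hnb hb'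
  have m2 : a' * b * a' ∈ line D x c := L.move hxD hna ha' ha'x hnb (right_mem_line hb)
  have m3 : a * b' * a ∈ line D x c := L.move hxD hna hal hna.2.1 hnb hb'
  have n1 : a' * b' * a' = c' := L.foot_unique hxD hnc he (fun h => hxe h.symm) m1 hc'
    ((hea'.mul_right heb').mul_right hea') hec'
  have n2 : a' * b * a' = c := by
    refine ((S.mem_cases hxD hnc hc' hc'x hc'c m2).resolve_left
      (L.flip_ne ha'.1 hxa'.symm hnb.2.1)).resolve_right fun h => ?_
    exact hb'b (mul_left_cancel (mul_right_cancel (n1.trans h.symm)))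
  have n3 : a * b' * a = c' := by
    refine ((S.mem_cases hxD hnc hc' hc'x hc'c m3).resolve_left
      (L.flip_ne ha hax hb'x)).resolve_left fun h => ?_
    exact hb'b (mul_left_cancel (mul_right_cancel h))
  have h := n1.trans n3.symm
  rw [L.braid ha'.1 hb'.1 ha'b', L.braid ha hb'.1 hab'] at h
  exact ha'a (mul_left_cancel (mul_right_cancel h))

/-- There are no affine planes. -/
theorem Symp.no_affine (S : Symp D) {a b e : G} (ha : a ∈ D) (hb : b ∈ D) (he : e ∈ D)
    (hab : ¬ Commute a b) (hea : ¬ Commute e a) (heb : ¬ Commute e b) :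
    Commute e (a * b * a) := by
  have L := S.toLines
  by_contra hec
  have hall : ∀ z ∈ perp2 D a b, Commute e z := fun z hz =>
    by_contra fun h => S.no_affine_of_exists ha hb he hab hea heb hec hz fun h' => h h'.symm
  -- every common neighbour of a non-commuting pair has a non-commuting mate among them
  have mate : ∀ z ∈ perp2 D a b, ∃ y ∈ perp2 D a b, ¬ Commute z y := by
    intro z hz
    have hza : a ≠ z := fun h => hab (h ▸ hz.2.2).symm
    obtain ⟨d, hd, had, hzd⟩ := L.exists_sep ha hz.1 hza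
    have hdn : d ∈ nbr D a := ⟨hd, fun h => hzd (h ▸ hz.2.1).symm, had⟩
    obtain ⟨v, hv, hbv⟩ := L.exists_foot ha hdn hb
    refine ⟨v, ⟨hv.1, line_commute ha hd had (left_mem_line ha) hv, hbv⟩, fun h => hzd ?_⟩
    exact L.commute_all ha hdn (left_mem_line ha) hv (fun q => hab (q ▸ hbv).symm) hz.1
      hz.2.1.symm h (right_mem_line hd)
  obtain ⟨x, hx⟩ := L.exists_common ha hb hab
  obtain ⟨hxD, hax, hbx⟩ := id hx
  by_cases hrank : ∃ z ∈ perp2 D a b, ∃ u ∈ perp2 D a b, z ≠ u ∧ Commute z u
  · obtain ⟨x, hx, u, hu, hxu, hcomm⟩ := hrank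
    obtain ⟨hxD, hax, hbx⟩ := id hx
    obtain ⟨y, hy, hxy⟩ := mate x hx
    have hau : a ∈ nbr D u := ⟨ha, fun h => hab (h ▸ hu.2.2).symm, hu.2.1.symm⟩
    obtain ⟨p, hp, hpu, hpa⟩ := L.exists_third hu.1 hau
    have hxp : Commute x p := L.commute_all hu.1 hau (left_mem_line hu.1) (right_mem_line ha)
      hau.2.1.symm hxD hcomm hax.symm hp
    have hbp : ¬ Commute b p := fun h => hpu (L.foot_unique hu.1 hau hb (fun q => hab
      ((L.commute_all hu.1 hau (left_mem_line hu.1) hp hpu.symm hb q h (right_mem_line ha))).symm)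
      hp (left_mem_line hu.1) h hu.2.2)
    have hpx : p ≠ x := fun h => hbp (h ▸ hbx)
    have hpn : p ∈ nbr D x := ⟨hp.1, hpx, hxp⟩
    have hnb : b ∈ nbr D x := ⟨hb, fun h => hab (h ▸ hax), hbx.symm⟩
    have hen : e ∈ nbr D x := ⟨he, fun h => hea (h ▸ hax).symm, (hall x hx).symm⟩
    obtain ⟨p', hp', hp'x, hp'p⟩ := L.exists_third hxD hpn
    have hpp' : Commute p p' := line_commute hxD hp.1 hxp (right_mem_line hp.1) hp'
    have hxp' : Commute x p' := line_commute hxD hp.1 hxp (left_mem_line hxD) hp'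
    -- the translation `t`
    have moved : ∀ q ∈ nbr D x, ¬ Commute p q → ∃ q' ∈ line D x q, q' ≠ x ∧ q' ≠ q ∧
        p * (p' * q * p') * p = q' := by
      intro q hq hpq
      have hp'q : ¬ Commute p' q := fun h => hpq (L.commute_all hxD hpn (left_mem_line hxD) hp'
        hp'x.symm hq.1 hq.2.2.symm h.symm (right_mem_line hp.1)).symm
      refine ⟨_, ?_, L.flip_ne hp.1 hxp.symm (L.flip_ne hp'.1 hxp'.symm hq.2.1), ?_, rfl⟩
      · have h1 := L.line_flip hp.1 (L.move hxD hpn hp' hp'x hq (right_mem_line hq.1))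
        rwa [L.flip_fix hp.1 hxp.symm, L.flip_flip hp.1] at h1
      · intro h
        have h1 : p' * q * p' = p * q * p := by
          conv_rhs => rw [← h]
          rw [L.flip_flip hp.1]
        rw [L.braid hp'.1 hq.1 hp'q, L.braid hp.1 hq.1 hpq] at h1
        exact hp'p (mul_left_cancel (mul_right_cancel h1))
    have hap : Commute a p := line_commute hu.1 ha hu.2.1.symm (right_mem_line ha) hp
    have hap' : Commute a p' :=
      L.commute_all hxD hpn (left_mem_line hxD) (right_mem_line hp.1) hpx.symm ha hax hap hp'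
    have hep : ¬ Commute p e := fun h => hea
      (L.commute_all hu.1 hau (left_mem_line hu.1) hp hpu.symm he (hall u hu) h.symm
        (right_mem_line ha))
    obtain ⟨b₂, hb₂, hb₂x, hb₂b, hb₂e⟩ := moved b hnb fun h => hbp h.symm
    obtain ⟨e₂, he₂, he₂x, he₂e, he₂eq⟩ := moved e hen hep
    set z := p * (p' * y * p') * p with hz
    have hzD : z ∈ D := L.cj_mem hp.1 (L.cj_mem hp'.1 hy.1)
    have conj2 : ∀ {q r : G}, Commute q r →
        Commute (p * (p' * q * p') * p) (p * (p' * r * p') * p) := fun h =>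
      (commute_conj_iff L.set hp.1 _ _).mpr ((commute_conj_iff L.set hp'.1 _ _).mpr h)
    have hzb : Commute b₂ z := hb₂e ▸ conj2 hy.2.2
    have hza : Commute a z := by
      have := conj2 hy.2.1
      rwa [L.flip_fix hp'.1 hap'.symm, L.flip_fix hp.1 hap.symm] at this
    have hze : Commute z e₂ := he₂eq ▸ conj2 (hall y hy).symm
    have hab₂ : ¬ Commute a b₂ := fun h => hab (L.commute_all hxD hnb (left_mem_line hxD) hb₂
      hb₂x.symm ha hax h (right_mem_line hb))
    have heb₂ : ¬ Commute e b₂ := fun h => heb (L.commute_all hxD hnb (left_mem_line hxD) hb₂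
      hb₂x.symm he hen.2.2.symm h (right_mem_line hb))
    have hec₂ : ¬ Commute e (a * b₂ * a) := by
      intro h
      have hna : a ∈ nbr D x := ⟨ha, fun q => hea (q ▸ hen.2.2.symm), hax.symm⟩
      have hm : a * b₂ * a ∈ line D x (a * b * a) := by
        have := L.line_flip ha hb₂
        rwa [L.flip_fix ha hax] at this
      exact hec (L.commute_all hxD (nbr_flip_fix L.set L.closed hna hnb) (left_mem_line hxD) hm
        (L.flip_ne ha hax hb₂x).symm he hen.2.2.symm h (right_mem_line (L.cj_mem ha hb)))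
    have hze' : Commute z e := by_contra fun h =>
      S.no_affine_of_exists ha hb₂.1 he hab₂ hea heb₂ hec₂ ⟨hzD, hza, hzb⟩ h
    have hzx : Commute z x := L.commute_all hxD hen (right_mem_line he) he₂ he₂e.symm hzD hze' hze
      (left_mem_line hxD)
    refine hxy ((commute_conj_iff L.set hp'.1 x y).mp
      ((commute_conj_iff L.set hp.1 _ _).mp ?_))
    rw [L.flip_fix hp'.1 hxp'.symm, L.flip_fix hp.1 hxp.symm]
    exact hzx.symm
  · push Not at hrank
    -- at least four common neighbours
    obtain ⟨y, hy, hxy⟩ := mate x hx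
    have hcd : ∀ {p q : G}, p ∈ perp2 D a b → q ∈ perp2 D a b → p ≠ q → ¬ Commute p q :=
      fun hp hq h => hrank _ hp _ hq h
    set c := a * b * a with hc
    have hcm : c ∈ perp2 D x y := ⟨L.cj_mem ha hb, (hax.symm.mul_right hbx.symm).mul_right hax.symm,
      (hy.2.1.symm.mul_right hy.2.2.symm).mul_right hy.2.1.symm⟩
    have hcb : c ≠ b := fun h => hab (commute_of_conj_eq L.set ha h)
    have hca : c ≠ a := fun h => hab (by
      have : b = a := by rw [← L.flip_flip ha b, ← hc, h, L.sq ha, one_mul]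
      exact this ▸ Commute.refl _)
    have hsub4 : ({a, b, c, e} : Set G) ⊆ perp2 D x y := by
      rintro q (rfl | rfl | rfl | rfl)
      exacts [⟨ha, hax.symm, hy.2.1.symm⟩, ⟨hb, hbx.symm, hy.2.2.symm⟩, hcm,
        ⟨he, (hall x hx).symm, (hall y hy).symm⟩]
    have hcard : 4 ≤ (perp2 D a b).ncard := by
      rw [L.perp2_ncard' ha hb hab hxD hy.1 hxy]
      refine le_trans (le_of_eq ?_) (Set.ncard_le_ncard hsub4 (Set.toFinite _))
      rw [Set.ncard_insert_of_notMem, Set.ncard_eq_three.mpr
        ⟨b, c, e, hcb.symm, fun h => heb (h ▸ Commute.refl _), fun h => hec (h ▸ Commute.refl _), rfl⟩]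
      simp only [Set.mem_insert_iff, Set.mem_singleton_iff, not_or]
      exact ⟨fun h => hab (h ▸ Commute.refl _), hca.symm, fun h => hea (h ▸ Commute.refl _)⟩
    obtain ⟨s, hs⟩ := Set.exists_ne_of_one_lt_ncard (s := perp2 D a b) (by omega) x
    -- the third points
    have hxs : ¬ Commute x s := hcd hx hs.1 hs.2.symm
    have hnax : a ∈ nbr D x := ⟨ha, fun h => hab (h ▸ hbx).symm, hax.symm⟩
    have hnbs : b ∈ nbr D s := ⟨hb, fun h => hab (h ▸ hs.1.2.1), hs.1.2.2.symm⟩
    obtain ⟨p₁, hp₁, hp₁x, hp₁a⟩ := L.exists_third hxD hnax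
    obtain ⟨p₂, hp₂, hp₂s, hp₂b⟩ := L.exists_third hs.1.1 hnbs
    have hbp₁ : ¬ Commute b p₁ := fun h => hab (L.commute_all hxD hnax (left_mem_line hxD) hp₁
      hp₁x.symm hb hbx h (right_mem_line ha)).symm
    have hap₂ : ¬ Commute a p₂ := fun h => hab (L.commute_all hs.1.1 hnbs (left_mem_line hs.1.1) hp₂
      hp₂s.symm ha hs.1.2.1 h (right_mem_line hb))
    have hsp₁ : ¬ Commute s p₁ := fun h => hxs (L.commute_all hxD hnax (right_mem_line ha) hp₁
      hp₁a.symm hs.1.1 hs.1.2.1.symm h (left_mem_line hxD)).symm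
    have hp₁₂ : Commute p₁ p₂ := by
      obtain ⟨t, ht, hpt⟩ := L.exists_foot hs.1.1 hnbs hp₁.1
      rcases S.mem_cases hs.1.1 hnbs hp₂ hp₂s hp₂b ht with rfl | rfl | rfl
      exacts [absurd hpt.symm hsp₁, absurd hpt.symm hbp₁, hpt]
    have hne12 : p₁ ≠ p₂ := fun h =>
      hap₂ (h ▸ line_commute hxD ha hax.symm (right_mem_line ha) hp₁)
    have hn12 : p₂ ∈ nbr D p₁ := ⟨hp₂.1, hne12.symm, hp₁₂⟩
    have hep₁ : ¬ Commute e p₁ := fun h => hea (L.commute_all hxD hnax (left_mem_line hxD) hp₁
      hp₁x.symm he (hall x hx) h (right_mem_line ha))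
    have hep₂ : ¬ Commute e p₂ := fun h => heb (L.commute_all hs.1.1 hnbs (left_mem_line hs.1.1) hp₂
      hp₂s.symm he (hall s hs.1) h (right_mem_line hb))
    obtain ⟨q, hq, heq⟩ := L.exists_foot hp₁.1 hn12 he
    have hq1 : q ≠ p₁ := fun h => hep₁ (h ▸ heq)
    have hq2 : q ≠ p₂ := fun h => hep₂ (h ▸ heq)
    have hqe : q ≠ e := fun h => hep₁
      (h ▸ line_commute hp₁.1 hp₂.1 hp₁₂ hq (left_mem_line hp₁.1))
    -- further common neighbours lie on the line through `e` and `q`
    have onl : ∀ r ∈ perp2 D a b, r ≠ x → r ≠ s → r ∈ line D e q := by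
      intro r hr hrx hrs
      have hrp₁ : ¬ Commute r p₁ := fun h => hcd hr hx hrx (L.commute_all hxD hnax
        (right_mem_line ha) hp₁ hp₁a.symm hr.1 hr.2.1.symm h (left_mem_line hxD))
      have hrp₂ : ¬ Commute r p₂ := fun h => hcd hr hs.1 hrs (L.commute_all hs.1.1 hnbs
        (right_mem_line hb) hp₂ hp₂b.symm hr.1 hr.2.2.symm h (left_mem_line hs.1.1))
      obtain ⟨t, ht, hrt⟩ := L.exists_foot hp₁.1 hn12 hr.1
      have hrq : Commute r q := by
        rcases S.mem_cases hp₁.1 hn12 hq hq1 hq2 ht with rfl | rfl | rfl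
        exacts [absurd hrt hrp₁, absurd hrt hrp₂, hrt]
      have hrn : r ∈ nbr D e := ⟨hr.1, fun h => hea (h ▸ hr.2.1).symm, hall r hr⟩
      have hqn : q ∈ nbr D e := ⟨hq.1, hqe, heq⟩
      obtain ⟨g, hg, heg⟩ := exists_not_commute (class_of_primitive L.grp L.prim).1
        (class_of_primitive L.grp L.prim).2 he
      obtain ⟨r₀, hr₀, hgr⟩ := L.exists_foot he hrn hg
      obtain ⟨q₀, hq₀, hgq⟩ := L.exists_foot he hqn hg
      have hr₀e : r₀ ≠ e := fun h => heg (h ▸ hgr).symm
      have hq₀e : q₀ ≠ e := fun h => heg (h ▸ hgq).symm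
      have hrq₀ : Commute r q₀ :=
        L.commute_all he hqn (left_mem_line he) (right_mem_line hq.1) hqe.symm hr.1
          hrn.2.2.symm hrq hq₀
      have hcomm₀ : Commute q₀ r₀ :=
        L.commute_all he hrn (left_mem_line he) (right_mem_line hr.1) hrn.2.1.symm hq₀.1
          (line_commute he hq.1 heq (left_mem_line he) hq₀).symm hrq₀.symm hr₀
      have heq0 : q₀ = r₀ := by
        by_contra hne
        obtain ⟨k, hk1, hk2⟩ := L.exists_map_apair he hg heg ha hb hab
        have hmem : ∀ z, z ∈ perp2 D e g → k * z * k⁻¹ ∈ perp2 D a b := fun z hz => by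
          rw [← hk1, ← hk2, perp2_image L.closed]; exact ⟨z, hz, rfl⟩
        exact hrank _ (hmem q₀ ⟨hq₀.1, line_commute he hq.1 heq (left_mem_line he) hq₀, hgq⟩)
          _ (hmem r₀ ⟨hr₀.1, line_commute he hr.1 hrn.2.2 (left_mem_line he) hr₀, hgr⟩)
          (fun h => hne (conj_injective k h)) (commute_conj.mpr hcomm₀)
      have h1 : line D e q = line D e q₀ := (L.line_eq he hqn (left_mem_line he) hq₀ hq₀e.symm).symm
      have h2 : line D e r = line D e r₀ := (L.line_eq he hrn (left_mem_line he) hr₀ hr₀e.symm).symm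
      rw [h1, heq0, ← h2]
      exact right_mem_line hr.1
    have hfour : ({x, s} : Set G).ncard < (perp2 D a b).ncard := by
      rw [Set.ncard_pair hs.2.symm]; omega
    obtain ⟨r, hr, hrn⟩ := Set.exists_mem_notMem_of_ncard_lt_ncard hfour
    have hfive : ({x, s, r} : Set G).ncard < (perp2 D a b).ncard := by
      refine lt_of_le_of_lt ((Set.ncard_insert_le _ _).trans (Nat.succ_le_succ
        ((Set.ncard_insert_le _ _).trans (Nat.succ_le_succ (le_of_eq (Set.ncard_singleton r)))))) ?_
      omega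
    obtain ⟨r', hr', hrn'⟩ := Set.exists_mem_notMem_of_ncard_lt_ncard hfive
    simp only [Set.mem_insert_iff, Set.mem_singleton_iff, not_or] at hrn hrn'
    have l1 := onl r hr hrn.1 hrn.2
    have l2 := onl r' hr' hrn'.1 hrn'.2.1
    exact hcd hr hr' (Ne.symm hrn'.2.2) (line_commute he hq.1 heq l1 l2)

/-- The row of a member in the non-commuting relation. -/
noncomputable def row (a : D) : D → ZMod 2 := fun e => if Commute (a : G) (e : G) then 0 else 1

set_option maxHeartbeats 1000000 in
/-- The members are the non-zero vectors of a symplectic space, commuting being orthogonality. -/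
theorem Symp.iso_vec (S : Symp D) (hZ : Subgroup.center G = ⊥) :
    ∃ (m : ℕ) (vec : D → (Fin m ⊕ Fin m → ZMod 2)),
      (∀ a, vec a ≠ 0) ∧ (∀ v, v ≠ 0 → ∃ a, vec a = v) ∧
      (∀ a b : D, Commute (a : G) b ↔ sympForm m (ZMod 2) (vec a) (vec b) = 0) ∧
      (Function.Injective vec ∧ ∀ a b : D, ¬ Commute (a : G) b →
        vec ⟨(a : G) * b * (a : G)⁻¹, S.toLines.closed _ _ b.2⟩ = vec a + vec b) ∧
      Nonempty (G ≃* Matrix.symplecticGroup (Fin m) (ZMod 2)) := by
  have L := S.toLines
  have hrs : ∀ a b : D, row a b = row b a := fun a b => by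
    simp only [row, show (Commute (a : G) b ↔ Commute (b : G) a) from ⟨Commute.symm, Commute.symm⟩]
  have hself : ∀ a : D, row a a = 0 := fun a => if_pos (Commute.refl _)
  have hinj : ∀ a b : D, row a = row b → a = b := by
    intro a b h
    by_contra hne
    obtain ⟨z, hz, haz, hbz⟩ := L.exists_sep a.2 b.2 fun h' => hne (Subtype.ext h')
    have := congrFun h ⟨z, hz⟩
    simp [row, haz, hbz] at this
  have hne0 : ∀ a : D, row a ≠ 0 := by
    intro a h
    obtain ⟨hcls, hD2⟩ := class_of_primitive L.grp L.prim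
    obtain ⟨z, hz, hne⟩ := exists_not_commute hcls hD2 a.2
    have := congrFun h ⟨z, hz⟩
    simp [row, hne] at this
  have hcjD : ∀ a b : D, (a : G) * b * (a : G)⁻¹ ∈ D := fun a b => L.closed _ _ b.2
  have hflip : ∀ a b : D, ¬ Commute (a : G) b →
      row a + row b = row ⟨(a : G) * b * (a : G)⁻¹, hcjD a b⟩ := by
    intro a b hab
    funext y
    simp only [Pi.add_apply, row, conj_eq L.set a.2]
    by_cases hay : Commute (a : G) y
    · have hiff : Commute ((a : G) * b * a) y ↔ Commute (b : G) y := by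
        rw [L.commute_flip a.2, L.flip_fix a.2 hay]
      simp [hay, hiff]
    by_cases hby : Commute (b : G) y
    · have hiff : Commute ((a : G) * b * a) y ↔ Commute (a : G) y := by
        rw [L.braid a.2 b.2 hab, L.commute_flip b.2, L.flip_fix b.2 hby]
      simp [hby, hiff, hay]
    · have h := S.no_affine a.2 b.2 y.2 hab (fun h => hay h.symm) (fun h => hby h.symm)
      simp [hay, hby, h.symm, show (1 : ZMod 2) + 1 = 0 from rfl]
  have hsum : ∀ a b : D, a ≠ b → ∃ c : D, row a + row b = row c := by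
    intro a b hab
    by_cases hc : Commute (a : G) b
    · have hbn : (b : G) ∈ nbr D a := ⟨b.2, fun h => hab (Subtype.ext h).symm, hc⟩
      obtain ⟨c, hcl, hca, hcb⟩ := L.exists_third a.2 hbn
      refine ⟨⟨c, hcl.1⟩, funext fun y => ?_⟩
      obtain ⟨u, hu, hyu⟩ := L.exists_foot a.2 hbn y.2
      have two : ∀ p q, p ∈ line D (a : G) b → q ∈ line D (a : G) b → p ≠ q → Commute (y : G) p →
          Commute (y : G) q → ∀ r ∈ line D (a : G) b, Commute (y : G) r :=
        fun p q hp hq hpq h1 h2 r hr => L.commute_all a.2 hbn hp hq hpq y.2 h1 h2 hr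
      have hal : (a : G) ∈ line D (a : G) b := left_mem_line a.2
      have hbl : (b : G) ∈ line D (a : G) b := right_mem_line b.2
      have hne : (a : G) ≠ b := fun h => hab (Subtype.ext h)
      simp only [Pi.add_apply, row]
      by_cases h1 : Commute (a : G) y
      · by_cases h2 : Commute (b : G) y
        · simp [h1, h2, (two _ _ hal hbl hne h1.symm h2.symm c hcl).symm]
        · have h3 : ¬ Commute c y := fun h3 => h2
            (two _ _ hal hcl hca.symm h1.symm h3.symm b hbl).symm
          simp [h1, h2, h3]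
      · by_cases h2 : Commute (b : G) y
        · have h3 : ¬ Commute c y := fun h3 => h1
            (two _ _ hbl hcl hcb.symm h2.symm h3.symm a hal).symm
          simp [h1, h2, h3]
        · have h3 : Commute c y := by
            rcases S.mem_cases a.2 hbn hcl hca hcb hu with rfl | rfl | rfl
            exacts [absurd hyu.symm h1, absurd hyu.symm h2, hyu.symm]
          simp [h1, h2, h3, show (1 : ZMod 2) + 1 = 0 from rfl]
    · exact ⟨_, hflip a b hc⟩
  have h2z : ∀ u : D → ZMod 2, u + u = 0 := fun u => funext fun y =>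
    (by decide : ∀ c : ZMod 2, c + c = 0) (u y)
  let V : Submodule (ZMod 2) (D → ZMod 2) :=
    { carrier := {u | u = 0 ∨ ∃ a, row a = u}
      add_mem' := fun {u v} hu hv => by
        rcases hu with rfl | ⟨a, rfl⟩
        · simpa using hv
        rcases hv with rfl | ⟨b, rfl⟩
        · exact Or.inr ⟨a, by simp⟩
        rcases eq_or_ne a b with rfl | hne
        · exact Or.inl (h2z _)
        · exact Or.inr ((hsum a b hne).imp fun c h => h.symm)
      zero_mem' := Or.inl rfl
      smul_mem' := fun c u hu => by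
        rcases (by decide : ∀ c : ZMod 2, c = 0 ∨ c = 1) c with rfl | rfl
        · exact Or.inl (zero_smul _ _)
        · rwa [one_smul] }
  let evalAt : V → D → ZMod 2 := fun v => (v : D → ZMod 2)
  let ev : V → V → ZMod 2 := fun u v =>
    if h : ∃ b, row b = (v : D → ZMod 2) then evalAt u h.choose else 0
  have evrow : ∀ (u : V) (b : D) (v : V), row b = (v : D → ZMod 2) → ev u v = evalAt u b := by
    intro u b v hb
    simp only [ev, dif_pos (⟨b, hb⟩ : ∃ b, row b = (v : D → ZMod 2))]
    rw [hinj _ b ((Exists.choose_spec (⟨b, hb⟩ : ∃ b, row b = (v : D → ZMod 2))).trans hb.symm)]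
  have evzero : ∀ u : V, ev u 0 = 0 := fun u => by
    simp only [ev]
    rw [dif_neg]
    rintro ⟨b, hb⟩
    exact hne0 b hb
  have evsymm : ∀ u v : V, ev u v = ev v u := by
    intro u v
    rcases u.2 with hu | ⟨a, ha⟩
    · rw [show u = 0 from Subtype.ext hu, evzero]
      rcases v.2 with hv | ⟨b, hb⟩
      · rw [show v = 0 from Subtype.ext hv, evzero]
      · rw [evrow _ b v hb]; rfl
    rcases v.2 with hv | ⟨b, hb⟩
    · rw [show v = 0 from Subtype.ext hv, evzero, evrow _ a u ha]; rfl
    · rw [evrow _ b v hb, evrow _ a u ha]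
      show (u : D → ZMod 2) b = (v : D → ZMod 2) a
      rw [← ha, ← hb, hrs]
  have evadd : ∀ u u' v : V, ev (u + u') v = ev u v + ev u' v := by
    intro u u' v
    rcases v.2 with hv | ⟨b, hb⟩
    · rw [show v = 0 from Subtype.ext hv, evzero, evzero, evzero, add_zero]
    · rw [evrow _ b v hb, evrow _ b v hb, evrow _ b v hb]; rfl
  have evsmul : ∀ (c : ZMod 2) (u v : V), ev (c • u) v = c * ev u v := by
    intro c u v
    rcases v.2 with hv | ⟨b, hb⟩
    · rw [show v = 0 from Subtype.ext hv, evzero, evzero, mul_zero]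
    · rw [evrow _ b v hb, evrow _ b v hb]; rfl
  let B : LinearMap.BilinForm (ZMod 2) V := LinearMap.mk₂ (ZMod 2) ev evadd evsmul
    (fun u v v' => by rw [evsymm, evadd, evsymm v, evsymm v'])
    (fun c u v => by rw [evsymm, evsmul, evsymm v, smul_eq_mul])
  have hAlt : B.IsAlt := fun u => by
    show ev u u = 0
    rcases u.2 with hu | ⟨a, ha⟩
    · rw [show u = 0 from Subtype.ext hu, evzero]
    · rw [evrow _ a u ha]
      show (u : D → ZMod 2) a = 0
      rw [← ha, hself]
  have hnd : ∀ u : V, (∀ v, B u v = 0) → u = 0 := by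
    intro u hu
    refine Subtype.ext (funext fun b => ?_)
    have := hu ⟨row b, Or.inr ⟨b, rfl⟩⟩
    change ev u _ = 0 at this
    rwa [evrow _ b _ rfl] at this
  obtain ⟨m, bas, b1, b2, b3⟩ := Forms.exists_symplectic_basis_nondeg B hAlt hnd
  set f := bas.equivFun with hf
  let ω : (Fin m ⊕ Fin m → ZMod 2) → (Fin m ⊕ Fin m → ZMod 2) → ZMod 2 := sympForm m (ZMod 2)
  have hneg : ∀ c : ZMod 2, -c = c := by decide
  open CfsgLib.Classical.SympTrans in
  let B' : LinearMap.BilinForm (ZMod 2) V := LinearMap.mk₂ (ZMod 2) (fun u v => ω (f u) (f v))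
    (fun u u' v => by simp only [ω, map_add, f_add_left])
    (fun c u v => by simp only [ω, map_smul, f_smul_left, smul_eq_mul])
    (fun u v v' => by simp only [ω, map_add, f_add_right])
    (fun c u v => by simp only [ω, map_smul, f_smul_right, smul_eq_mul])
  have hBB' : B = B' := by
    refine bas.ext fun i => bas.ext fun j => ?_
    show ev (bas i) (bas j) = ω (f (bas i)) (f (bas j))
    have hfb : ∀ k, f (bas k) = Pi.single k 1 := fun k => by
      funext l
      simp [hf, Finsupp.single_apply, Pi.single_apply, eq_comm]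
    rw [hfb, hfb]
    rcases i with i | i <;> rcases j with j | j
    · exact (b2 i j).trans (by simp [ω, CfsgLib.Classical.SympTrans.f_inl])
    · refine (b1 i j).trans ?_
      simp [ω, CfsgLib.Classical.SympTrans.f_inr, Pi.single_apply, eq_comm, hneg]
    · rw [evsymm]
      refine (b1 j i).trans ?_
      simp [ω, CfsgLib.Classical.SympTrans.f_inl, Pi.single_apply, eq_comm]
    · exact (b3 i j).trans (by simp [ω, CfsgLib.Classical.SympTrans.f_inr])
  have hB : ∀ u v : V, B u v = ω (f u) (f v) := fun u v => by rw [hBB']; rfl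
  let vec : D → (Fin m ⊕ Fin m → ZMod 2) := fun a => f ⟨row a, Or.inr ⟨a, rfl⟩⟩
  have vec0 : ∀ a, vec a ≠ 0 := fun a h => hne0 a (congrArg Subtype.val (f.map_eq_zero_iff.mp h))
  refine ⟨m, vec, vec0, fun v hv => ?_, fun a b => ?_,
    ⟨fun a b h => hinj a b (congrArg Subtype.val (f.injective h)), fun a b hab => ?_⟩, ?_⟩
  · rcases (f.symm v).2 with h0 | ⟨a, ha⟩
    · exact absurd (by rw [← f.apply_symm_apply v, show f.symm v = 0 from Subtype.ext h0, map_zero]) hv
    · exact ⟨a, (congrArg f (Subtype.ext ha)).trans (f.apply_symm_apply v)⟩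
  · have hω : ω (vec a) (vec b) = row a b := by
      rw [← hB]; exact evrow _ b _ rfl
    show Commute (a : G) b ↔ ω (vec a) (vec b) = 0
    rw [hω]
    simp only [row]
    by_cases h : Commute (a : G) b <;> simp [h]
  · rw [← map_add]
    refine congrArg f (Subtype.ext ?_)
    exact (hflip a b hab).symm
  set E : Set (Matrix.symplecticGroup (Fin m) (ZMod 2)) := {g | ∃ v, v ≠ 0 ∧ g = T v 1}
  have hTinj : ∀ {v w : Fin m ⊕ Fin m → ZMod 2}, v ≠ 0 → w ≠ 0 → T v (1 : ZMod 2) = T w 1 → v = w := by
    intro v w hv hw h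
    obtain ⟨x, hx⟩ : ∃ x, ω x v ≠ 0 := by
      by_contra! hall
      exact hv (eq_zero_of_f v fun y => by rw [f_swap, show sympForm m (ZMod 2) y v = 0 from hall y, neg_zero])
    have h1 := congrArg (fun g => app g x) h
    simp only [app_T, one_mul, add_right_inj] at h1
    have e1 : ω x v = 1 := (by decide : ∀ c : ZMod 2, c ≠ 0 → c = 1) _ hx
    change ω x v • v = ω x w • w at h1
    rw [e1, one_smul] at h1
    rcases (by decide : ∀ c : ZMod 2, c = 0 ∨ c = 1) (ω x w) with h2 | h2
    · rw [h2, zero_smul] at h1; exact absurd h1 hv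
    · rwa [h2, one_smul] at h1
  have hinv : ∀ v : Fin m ⊕ Fin m → ZMod 2, (T v (1 : ZMod 2))⁻¹ = T v 1 := fun v =>
    inv_eq_of_mul_eq_one_right (by
      rw [CfsgLib.Classical.SympTrans.T_mul, show (1 : ZMod 2) + 1 = 0 from rfl,
        CfsgLib.Classical.SympTrans.T_zero])
  let φ : D → E := fun a => ⟨T (vec a) 1, vec a, vec0 a, rfl⟩
  have hφb : Function.Bijective φ := by
    refine ⟨fun a b h => hinj a b ?_, fun g => ?_⟩
    · have h1 := hTinj (vec0 a) (vec0 b) (congrArg Subtype.val h)
      exact congrArg Subtype.val (f.injective h1)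
    · obtain ⟨g, v, hv, rfl⟩ := g
      rcases (f.symm v).2 with h0 | ⟨a, ha⟩
      · exact absurd (by rw [← f.apply_symm_apply v, show f.symm v = 0 from Subtype.ext h0, map_zero]) hv
      · refine ⟨a, Subtype.ext ?_⟩
        show T (vec a) 1 = T v 1
        rw [show vec a = v from (congrArg f (Subtype.ext ha)).trans (f.apply_symm_apply v)]
  refine iso_of_equiv (E := E) L.closed ?_ L.grp.2.2 ?_ hZ ?_ (Equiv.ofBijective φ hφb) ?_
  · rintro g _ ⟨v, hv, rfl⟩
    exact ⟨app g v, CfsgLib.Classical.SympTrans.app_ne_zero g hv, conj_T g v 1⟩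
  · rw [eq_top_iff, ← gen_univ, CfsgLib.Classical.SympTrans.gen]
    refine (Subgroup.closure_le _).2 ?_
    rintro _ ⟨v, -, c, rfl⟩
    by_cases hv : v = 0
    · rw [hv, CfsgLib.Classical.SympTrans.T_zero']; exact one_mem _
    rcases (by decide : ∀ c : ZMod 2, c = 0 ∨ c = 1) c with rfl | rfl
    · rw [CfsgLib.Classical.SympTrans.T_zero]; exact one_mem _
    · exact Subgroup.subset_closure ⟨v, hv, rfl⟩
  · refine (Subgroup.eq_bot_iff_forall _).mpr fun g hg => ext_app fun v => ?_
    rw [CfsgLib.Classical.SympTrans.app_one]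
    by_cases hv : v = 0
    · rw [hv]; exact Matrix.mulVec_zero _
    · refine hTinj (CfsgLib.Classical.SympTrans.app_ne_zero g hv) hv ?_
      rw [← conj_T, ← Subgroup.mem_center_iff.mp hg, mul_inv_cancel_right]
  · intro a b
    show T (vec ⟨_, _⟩) 1 = T (vec a) 1 * T (vec b) 1 * (T (vec a) 1)⁻¹
    rw [conj_T, app_T, one_mul]
    congr 1
    have hω : ω (vec b) (vec a) = row b a := by
      rw [← hB]; exact evrow _ a _ rfl
    show vec ⟨_, _⟩ = vec b + ω (vec b) (vec a) • vec a
    rw [hω]
    by_cases hab : Commute (a : G) b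
    · rw [show row b a = 0 from if_pos hab.symm, zero_smul, add_zero]
      refine congrArg vec (Subtype.ext ?_)
      show (a : G) * b * (a : G)⁻¹ = b
      rw [hab.eq, mul_inv_cancel_right]
    · rw [show row b a = 1 from if_neg fun h => hab h.symm, one_smul, ← map_add]
      refine congrArg f (Subtype.ext ?_)
      show row _ = row b + row a
      rw [add_comm, hflip a b hab]

/-- The group is the symplectic group. -/
theorem Symp.iso (S : Symp D) (hZ : Subgroup.center G = ⊥) :
    ∃ n : ℕ, Nonempty (G ≃* Matrix.symplecticGroup (Fin n) (ZMod 2)) :=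
  let ⟨m, _, _, _, _, _, h⟩ := S.iso_vec hZ
  ⟨m, h⟩

end CfsgLib.FischerO2
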