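import Cfsg.Agent.Lib.FischerO2.Model
import Cfsg.Agent.Lib.FischerO2.Sympl
import Cfsg.Agent.Lib.ThreeTransp.Main

/-!
A primitive class of 3-transpositions whose neighbourhood of a member has a noncentral 2-core.
-/

set_option autoImplicit false
set_option linter.style.haveILetI false

namespace CfsgLib.FischerO2

open Cfsg CfsgLib.ThreeTransp CfsgLib.ThreeTransp.StarPairs

variable {G : Type*} [Group G] [Finite G] {D : Set G}

/-- The members next to `x` inside the group they generate. -/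
def nbrD (D : Set G) (x : G) : Set (Subgroup.closure (nbr D x)) := {u | (u : G) ∈ nbr D x}

theorem nbrD_class (hG : IsThreeTranspositionGroup D) (hprim : IsPrimitiveUnderConj D)
    (hw : ∃ a ∈ D, ∃ b ∈ D, a ≠ b ∧ Commute a b) {x : G} (hx : x ∈ D) :
    IsThreeTranspositionClass (nbrD D x) := by
  obtain ⟨hS, hc, -⟩ := id hG
  refine ⟨restrict_set (D := nbr D x) ⟨fun d hd => hS.1 d hd.1, fun d hd e he =>
    hS.2 d hd.1 e he.1⟩ _, ?_, Subgroup.closure_closure_coe_preimage⟩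
  obtain ⟨a, ha, b, hb, hab, hcm⟩ := hw
  obtain ⟨g, rfl⟩ := hprim.1 a ha x hx
  have hgb : g * b * g⁻¹ ∈ nbr D (g * a * g⁻¹) := nbr_conj hc g ⟨hb, hab.symm, hcm⟩
  refine ⟨⟨g * b * g⁻¹, Subgroup.subset_closure hgb⟩, hgb, Set.ext fun u => ⟨fun hu => ?_, fun hu => ?_⟩⟩
  · obtain ⟨k, hk, hkb⟩ := transitive_commute hG hprim ⟨a, ha, b, hb, hab, hcm⟩ hx hgb.1 hu.1 hgb.2.1
      hu.2.1 hgb.2.2 hu.2.2
    exact isConj_iff.mpr ⟨⟨k, hk⟩, Subtype.ext hkb⟩
  · obtain ⟨k, hk⟩ := isConj_iff.mp hu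
    rw [← hk]
    exact closure_conj hS (fun p hp => hp.1) (fun p hp q hq => nbr_flip_fix hS hc hp hq) k.2 _ hgb

/-- Lines exist when the 2-core is not central. -/
theorem lines_of_core (hG : IsThreeTranspositionGroup D) (hprim : IsPrimitiveUnderConj D)
    (hw : ∃ a ∈ D, ∃ b ∈ D, a ≠ b ∧ Commute a b) {x : G} (hx : x ∈ D)
    (h : ¬ pCore 2 (Subgroup.closure (nbr D x)) ≤ Subgroup.center (Subgroup.closure (nbr D x))) :
    Lines D := by
  have hcl := nbrD_class hG hprim hw hx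
  obtain ⟨d, hd, -⟩ := hcl.2.1
  obtain ⟨v, hv, hvd, hperp⟩ := exists_perpEq_ne hcl h hd
  refine { grp := hG, prim := hprim, wide := hw, third := ⟨x, hx, d, hd, v, hv,
    fun e => hvd (Subtype.ext e).symm, fun y hy => ?_⟩ }
  have h1 : ∀ a b : Subgroup.closure (nbr D x), Commute a b ↔ Commute (a : G) b := fun a b =>
    ⟨fun h => h.map (Subgroup.subtype _), fun h => Subtype.ext h.eq⟩
  have := hperp ⟨y, Subgroup.subset_closure hy⟩ hy
  simpa only [h1] using this

/-- The unitary case. -/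
theorem Unit5.iso (U : Unit5 D) (hZ : Subgroup.center G = ⊥) :
    ∃ (F : Type) (_ : Field F) (_ : Fintype F) (n : ℕ),
      Fintype.card F = 4 ∧ Nonempty (G ≃* PSU n F 2) := by
  haveI : Fact (Nat.Prime 2) := ⟨Nat.prime_two⟩
  letI : Fintype (GaloisField 2 2) := Fintype.ofFinite _
  have hF : Fintype.card (GaloisField 2 2) = 4 := by
    rw [← Nat.card_eq_fintype_card, GaloisField.card 2 2 (by norm_num)]; norm_num
  obtain ⟨x, e, C⟩ := U.exists_chart
  obtain ⟨lab, kap, m, rv, uv, T, hm⟩ := C.exists_tight hF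
  obtain ⟨φ, P⟩ := T.exists_points hm
  obtain ⟨-, f, hf, hi⟩ := exists_hom_psu hF U (n := m + 2) (by omega) P
  exact ⟨GaloisField 2 2, inferInstance, inferInstance, m + 2, hF,
    ⟨MulEquiv.ofBijective f ⟨hi hZ, hf⟩⟩⟩

/-- Lines have three points, or all have five. -/
theorem Lines.symp_or_unit (L : Lines D) : Symp D ∨ Unit5 D := by
  obtain ⟨x₀, hx₀, a₀, ha₀, -⟩ := L.third
  rcases L.line_ncard hx₀ ha₀ with h | h
  · exact Or.inl { toLines := L, three := fun x hx a ha => (L.line_ncard_eq hx ha hx₀ ha₀).trans h }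
  · exact Or.inr { toLines := L, five_pts := fun x hx a ha => (L.line_ncard_eq hx ha hx₀ ha₀).trans h }

end CfsgLib.FischerO2
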