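import Cfsg.Agent.Lib.FischerO2.Fibre

/-!
Labels of the fibres in the field with four elements, the scalars between non-commuting common
neighbours, translations and the linear relations between rows of scalars.
-/

set_option autoImplicit false
set_option linter.style.haveILetI false

namespace CfsgLib.FischerO2

open Cfsg CfsgLib.ThreeTransp CfsgLib.ThreeTransp.StarPairs

attribute [local instance] _root_.Classical.propDecidable

/-! ### The field with four elements -/

section Field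

variable {F : Type*} [Field F] [Fintype F] (hF : Fintype.card F = 4)
include hF

theorem F4.cube {c : F} (hc : c ≠ 0) : c ^ 3 = 1 := by
  have := FiniteField.pow_card_sub_one_eq_one c hc
  rwa [hF] at this

theorem F4.charTwo : CharP F 2 := by
  obtain ⟨p, hp⟩ := CharP.exists F
  haveI := hp
  obtain ⟨n, hpr, hn⟩ := FiniteField.card F p
  rw [hF] at hn
  have : p ∣ 2 := hpr.dvd_of_dvd_pow (show p ∣ 2 ^ 2 by
    norm_num; rw [hn]; exact dvd_pow_self p n.ne_zero)
  rwa [(Nat.prime_dvd_prime_iff_eq hpr Nat.prime_two).mp this] at hp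

theorem F4.add_self (c : F) : c + c = 0 := by
  haveI := F4.charTwo hF
  exact CharTwo.add_self_eq_zero c

theorem F4.cases {c : F} (hc0 : c ≠ 0) (hc1 : c ≠ 1) (z : F) :
    z = 0 ∨ z = 1 ∨ z = c ∨ z = c * c := by
  by_cases hz : z = 0
  · exact Or.inl hz
  refine Or.inr ?_
  have h1 := F4.cube hF hz
  have h2 := F4.cube hF hc0
  have : (z - 1) * (z - c) * (z - c * c) = 0 := by
    have hq : c * c + c + 1 = 0 := by
      rcases mul_eq_zero.mp (show (c - 1) * (c * c + c + 1) = 0 by linear_combination h2) with h | h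
      · exact absurd (sub_eq_zero.mp h) hc1
      · exact h
    linear_combination h1 - h2 + (c * z - z * z) * hq
  rcases mul_eq_zero.mp this with h | h
  · rcases mul_eq_zero.mp h with h | h
    · exact Or.inl (sub_eq_zero.mp h)
    · exact Or.inr (Or.inl (sub_eq_zero.mp h))
  · exact Or.inr (Or.inr (sub_eq_zero.mp h))

/-- A permutation of the non-zero elements which is trivial or fixed-point-free is a multiplication. -/
theorem F4.perm_mult {g : F → F} (h0 : ∀ a, a ≠ 0 → g a ≠ 0)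
    (hinj : ∀ a b, a ≠ 0 → b ≠ 0 → g a = g b → a = b)
    (h : (∀ a, a ≠ 0 → g a = a) ∨ ∀ a, a ≠ 0 → g a ≠ a) :
    ∃ c : F, c ≠ 0 ∧ ∀ a, a ≠ 0 → g a = c * a := by
  rcases h with h | h
  · exact ⟨1, one_ne_zero, fun a ha => by rw [one_mul, h a ha]⟩
  set c := g 1 with hc
  have hc0 : c ≠ 0 := h0 1 one_ne_zero
  have hc1 : c ≠ 1 := h 1 one_ne_zero
  have hcc0 : c * c ≠ 0 := mul_ne_zero hc0 hc0
  have h3 : c * (c * c) = 1 := by rw [← F4.cube hF hc0]; ring
  have hcc1 : c * c ≠ 1 := fun e => hc1 (by rw [← mul_one c, ← e, h3, e])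
  have hccc : c * c ≠ c := fun e => hc1 (mul_left_cancel₀ hc0 (e.trans (mul_one c).symm))
  have hgc : g c = c * c := by
    rcases F4.cases hF hc0 hc1 (g c) with e | e | e | e
    · exact absurd e (h0 c hc0)
    · exfalso
      rcases F4.cases hF hc0 hc1 (g (c * c)) with e' | e' | e' | e'
      · exact h0 _ hcc0 e'
      · exact hccc (hinj _ _ hcc0 hc0 (e'.trans e.symm))
      · exact hcc1 (hinj _ _ hcc0 one_ne_zero e')
      · exact h _ hcc0 e'
    · exact absurd e (h c hc0)
    · exact e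
  refine ⟨c, hc0, fun a ha => ?_⟩
  rcases F4.cases hF hc0 hc1 a with rfl | rfl | rfl | rfl
  · exact absurd rfl ha
  · rw [mul_one]
  · exact hgc
  · rw [h3]
    rcases F4.cases hF hc0 hc1 (g (c * c)) with e' | e' | e' | e'
    · exact absurd e' (h0 _ hcc0)
    · exact e'
    · exact absurd (hinj _ _ hcc0 one_ne_zero e') hcc1
    · exact absurd e' (h _ hcc0)

theorem F4.third {a b g : F} (ha : a ≠ 0) (hb : b ≠ 0) (hab : a ≠ b) (hg : g ≠ 0) (hga : g ≠ a)
    (hgb : g ≠ b) : g = a + b := by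
  have hc0 : b / a ≠ 0 := div_ne_zero hb ha
  have hc1 : b / a ≠ 1 := fun e => hab ((div_eq_one_iff_eq ha).mp e).symm
  have hb' : b = b / a * a := by field_simp
  have hg' : g = g / a * a := by field_simp
  have hab' : (a + b) / a ≠ 0 := div_ne_zero (fun e => hab (by
    have := F4.add_self hF b
    linear_combination e - this)) ha
  rcases F4.cases hF hc0 hc1 (g / a) with e | e | e | e
  · exact absurd (by rw [hg', e, zero_mul]) hg
  · exact absurd (by rw [hg', e, one_mul]) hga
  · exact absurd (by rw [hg', e, ← hb']) hgb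
  rcases F4.cases hF hc0 hc1 ((a + b) / a) with e' | e' | e' | e'
  · exact absurd e' hab'
  · exact absurd (by field_simp at e'; linear_combination e') hb
  · exact absurd (by field_simp at e'; linear_combination e') ha
  · rw [hg', e, ← e']; field_simp

end Field

/-! ### Labels -/

variable {G : Type*} [Group G] [Finite G] {D : Set G} {x e : G}
variable {F : Type*} [Field F] [Fintype F]

/-- Labels of the fibres and the scalars between them. -/
structure Coord (D : Set G) (x e : G) (lab : G → F → G) (kap : G → G → F) : Prop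
    extends Chart D x e where
  card : Fintype.card F = 4
  lab_zero : ∀ w ∈ perp2 D x e, lab w 0 = w
  lab_mem : ∀ w ∈ perp2 D x e, ∀ a, lab w a ∈ fib D x w
  lab_inj : ∀ w ∈ perp2 D x e, Function.Injective (lab w)
  lab_surj : ∀ w ∈ perp2 D x e, ∀ p ∈ fib D x w, ∃ a, lab w a = p
  kap_eq_zero : ∀ w ∈ perp2 D x e, ∀ v ∈ perp2 D x e, (kap w v = 0 ↔ Commute w v)
  kap_io : ∀ w ∈ perp2 D x e, ∀ v ∈ perp2 D x e, ¬ Commute w v → ∀ a,
    io w v (lab w a) = lab v (kap w v * a)

/-- A labelling of one fibre. -/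
structure IsLab (D : Set G) (x w : G) (l : F → G) : Prop where
  zero : l 0 = w
  mem : ∀ a, l a ∈ fib D x w
  inj : Function.Injective l
  surj : ∀ p ∈ fib D x w, ∃ a, l a = p

/-- Two labellings of a fibre with the same orientation. -/
def Rel (l m : F → G) : Prop := ∃ c : F, c ≠ 0 ∧ ∀ a, l a = m (c * a)

omit [Fintype F] in
theorem Rel.refl (l : F → G) : Rel l l := ⟨1, one_ne_zero, fun a => by rw [one_mul]⟩

omit [Fintype F] in
theorem Rel.symm {l m : F → G} (h : Rel l m) : Rel m l := by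
  obtain ⟨c, hc, h⟩ := h
  exact ⟨c⁻¹, inv_ne_zero hc, fun a => by rw [h, ← mul_assoc, mul_inv_cancel₀ hc, one_mul]⟩

omit [Fintype F] in
theorem Rel.trans {l m k : F → G} (h : Rel l m) (h' : Rel m k) : Rel l k := by
  obtain ⟨c, hc, h⟩ := h
  obtain ⟨d, hd, h'⟩ := h'
  exact ⟨d * c, mul_ne_zero hd hc, fun a => by rw [h, h', mul_assoc]⟩

omit [Fintype F] in
theorem Rel.comp {l m : F → G} (h : Rel l m) (f : G → G) : Rel (f ∘ l) (f ∘ m) :=
  h.imp fun c hc => ⟨hc.1, fun a => congrArg f (hc.2 a)⟩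

section Build

variable (C : Chart D x e)
include C

theorem Chart.exists_isLab (hF : Fintype.card F = 4) {w : G} (hw : w ∈ perp2 D x e) :
    ∃ l : F → G, IsLab D x w l := by
  haveI : Fintype (fib D x w) := Fintype.ofFinite _
  have hcard : Fintype.card F = Fintype.card (fib D x w) := by
    rw [hF, ← Nat.card_eq_fintype_card, Nat.card_coe_set_eq, C.fib_ncard hw]
  obtain ⟨σ⟩ : Nonempty (F ≃ fib D x w) := ⟨Fintype.equivOfCardEq hcard⟩
  set τ := σ.trans (Equiv.swap (σ 0) ⟨w, C.self_fib hw⟩)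
  refine ⟨fun a => τ a, ?_, fun a => (τ a).2, fun a b h => τ.injective (Subtype.ext h),
    fun p hp => ⟨τ.symm ⟨p, hp⟩, by simp⟩⟩
  simp [τ]

omit [Fintype F] in
theorem Chart.isLab_io {w v : G} (hw : w ∈ perp2 D x e) (hv : v ∈ perp2 D x e)
    (h : ¬ Commute w v) {l : F → G} (hl : IsLab D x w l) : IsLab D x v (io w v ∘ l) := by
  refine ⟨?_, fun a => C.io_mem hw hv h (hl.mem a), fun a b he => hl.inj ?_, fun p hp => ?_⟩
  · show io w v (l 0) = v
    rw [hl.zero, (C.io_swap hw hv h).1]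
  · rw [← C.io_io hw hv (l a), ← C.io_io hw hv (l b)]
    exact congrArg (io w v) he
  · obtain ⟨a, ha⟩ := hl.surj (io w v p) (by
      have := C.io_mem hv hw (fun h' => h h'.symm) hp
      rwa [C.io_comm hv hw fun h' => h h'.symm] at this)
    exact ⟨a, by show io w v (l a) = p; rw [ha, C.io_io hw hv]⟩

omit C in
theorem rel_of_agree (hF : Fintype.card F = 4) {w : G} {l m : F → G} (hl : IsLab D x w l)
    (hm : IsLab D x w m) (h : (∀ a, a ≠ 0 → l a = m a) ∨ ∀ a, a ≠ 0 → l a ≠ m a) : Rel l m := by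
  choose g hg using fun a => hm.surj (l a) (hl.mem a)
  have hg0 : ∀ a, a ≠ 0 → g a ≠ 0 := fun a ha e' => ha (hl.inj (by rw [← hg a, e', hm.zero, hl.zero]))
  obtain ⟨c, hc, hca⟩ := F4.perm_mult hF hg0
    (fun a b _ _ e' => hl.inj (by rw [← hg a, ← hg b, e']))
    (h.imp (fun h' a ha => hm.inj ((hg a).trans (h' a ha)))
      fun h' a ha e' => h' a ha (by rw [← hg a, e']))
  refine ⟨c, hc, fun a => ?_⟩
  rcases eq_or_ne a 0 with rfl | ha
  · rw [mul_zero, hm.zero, hl.zero]
  · rw [← hca a ha, hg a]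

theorem Chart.rel_tri (hF : Fintype.card F = 4) {z v v' : G} (hz : z ∈ perp2 D x e)
    (hv : v ∈ perp2 D x e) (hv' : v' ∈ perp2 D x e) (hzv : ¬ Commute z v) (hzv' : ¬ Commute z v')
    (hvv' : ¬ Commute v v') {l : F → G} (hl : IsLab D x z l) :
    Rel (io v v' ∘ io z v ∘ l) (io z v' ∘ l) := by
  refine rel_of_agree (D := D) (x := x) (w := v') hF
    (C.isLab_io hv hv' hvv' (C.isLab_io hz hv hzv hl)) (C.isLab_io hz hv' hzv' hl) ?_
  by_cases hu : Commute z (v * v' * v)
  · exact Or.inl fun a _ => C.tri_id hz hv hv' hvv' hu (hl.mem a)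
  · exact Or.inr fun a ha => C.tri_free hz hv hv' hzv hvv' hzv' hu (hl.mem a) fun e' =>
      ha (hl.inj (e'.trans hl.zero.symm))

theorem Chart.exists_coord (hF : Fintype.card F = 4) :
    ∃ (lab : G → F → G) (kap : G → G → F), Coord D x e lab kap := by
  have L := C.lines
  obtain ⟨p, hp⟩ := L.exists_common C.hx C.he C.hxe
  obtain ⟨l₀, hl₀⟩ := C.exists_isLab (F := F) hF hp
  have hz : ∀ v : G, ∃ z, v ∈ perp2 D x e → Commute p v →
      z ∈ perp2 D x e ∧ ¬ Commute z p ∧ ¬ Commute z v := fun v => by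
    by_cases h : v ∈ perp2 D x e ∧ Commute p v
    · obtain ⟨z, hz⟩ := C.mate₂ hp h.1 h.2
      exact ⟨z, fun _ _ => hz⟩
    · exact ⟨1, fun h1 h2 => absurd ⟨h1, h2⟩ h⟩
  choose zv hzv using hz
  set lab : G → F → G := fun v =>
    if v = p then l₀ else if Commute p v then io (zv v) v ∘ io p (zv v) ∘ l₀ else io p v ∘ l₀
    with hlab
  have labp : lab p = l₀ := by simp [hlab]
  have lab1 : ∀ {v}, ¬ Commute p v → lab v = io p v ∘ l₀ := fun {v} h => by
    have : v ≠ p := fun e' => h (e' ▸ Commute.refl _)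
    simp [hlab, this, h]
  have lab2 : ∀ {v}, v ≠ p → Commute p v → lab v = io (zv v) v ∘ io p (zv v) ∘ l₀ :=
    fun {v} h h' => by simp [hlab, h, h']
  have isl : ∀ v ∈ perp2 D x e, IsLab D x v (lab v) := by
    intro v hv
    by_cases h : v = p
    · rw [h, labp]; exact hl₀
    by_cases h' : Commute p v
    · obtain ⟨h1, h2, h3⟩ := hzv v hv h'
      rw [lab2 h h']
      exact C.isLab_io h1 hv h3 (C.isLab_io hp h1 (fun q => h2 q.symm) hl₀)
    · rw [lab1 h']; exact C.isLab_io hp hv h' hl₀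
  have via : ∀ v ∈ perp2 D x e, v ≠ p → ∀ z ∈ perp2 D x e, ¬ Commute z p → ¬ Commute z v →
      Rel (io z v ∘ io p z ∘ l₀) (lab v) := by
    intro v hv hvp z hz hzp hzv'
    by_cases h' : Commute p v
    · obtain ⟨h1, h2, h3⟩ := hzv v hv h'
      rw [lab2 hvp h']
      refine rel_of_agree (D := D) (x := x) (w := v) hF
        (C.isLab_io hz hv hzv' (C.isLab_io hp hz (fun q => hzp q.symm) hl₀))
        (C.isLab_io h1 hv h3 (C.isLab_io hp h1 (fun q => h2 q.symm) hl₀)) ?_
      have hn : v ∈ nbr D p := ⟨hv.1, hvp, h'⟩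
      obtain ⟨r, hr, hzr⟩ := L.exists_foot hp.1 hn hz.1
      obtain ⟨r', hr', hzr'⟩ := L.exists_foot hp.1 hn h1.1
      have hq := fun a (ha : a ≠ 0) => C.quad hp hv hz h1 (Ne.symm hvp) h' hr hr' hzp hzv' hzr h2 h3
        hzr' (hl₀.mem a) fun e' => ha (hl₀.inj (e'.trans hl₀.zero.symm))
      by_cases hrr : r = r'
      · exact Or.inl fun a ha => (hq a ha).1 hrr
      · exact Or.inr fun a ha => (hq a ha).2 hrr
    · rw [lab1 h']
      exact C.rel_tri hF hp hz hv (fun q => hzp q.symm) h' hzv' hl₀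
  have compat : ∀ v ∈ perp2 D x e, ∀ v' ∈ perp2 D x e, ¬ Commute v v' →
      Rel (io v v' ∘ lab v) (lab v') := by
    intro v hv v' hv' hvv'
    rcases eq_or_ne v p with rfl | hvp
    · rw [labp, lab1 hvv']; exact Rel.refl _
    rcases eq_or_ne v' p with rfl | hv'p
    · rw [labp, lab1 fun q => hvv' q.symm]
      refine ⟨1, one_ne_zero, fun a => ?_⟩
      rw [one_mul]
      show io v v' (io v' v (l₀ a)) = l₀ a
      rw [C.io_comm hv hv' hvv', C.io_io hp hv]
    by_cases h : Commute p v <;> by_cases h' : Commute p v'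
    · obtain ⟨z, hz, hzp, hzv', hzv''⟩ := C.mate₃ hp hv hv' h h' hvv'
      exact (((via v hv hvp z hz hzp hzv').symm.comp (io v v')).trans
        (C.rel_tri hF hz hv hv' hzv' hzv'' hvv' (C.isLab_io hp hz (fun q => hzp q.symm) hl₀))).trans
        (via v' hv' hv'p z hz hzp hzv'')
    · rw [lab1 h']
      refine ((via v hv hvp v' hv' (fun q => h' q.symm) fun q => hvv' q.symm).symm.comp
        (io v v')).trans ⟨1, one_ne_zero, fun a => ?_⟩
      show io v v' (io v' v (io p v' (l₀ a))) = io p v' (l₀ (1 * a))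
      rw [one_mul, C.io_comm hv hv' hvv', C.io_io hv' hv]
    · rw [lab1 h]
      exact via v' hv' hv'p v hv (fun q => h q.symm) hvv'
    · rw [lab1 h, lab1 h']
      exact C.rel_tri hF hp hv hv' h h' hvv' hl₀
  have hk : ∀ w v : G, ∃ c : F, ((w ∈ perp2 D x e ∧ v ∈ perp2 D x e) → (c = 0 ↔ Commute w v)) ∧
      ((w ∈ perp2 D x e ∧ v ∈ perp2 D x e ∧ ¬ Commute w v) →
        ∀ a, io w v (lab w a) = lab v (c * a)) := by
    intro w v
    by_cases h : w ∈ perp2 D x e ∧ v ∈ perp2 D x e ∧ ¬ Commute w v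
    · obtain ⟨c, hc, hca⟩ := compat w h.1 v h.2.1 h.2.2
      exact ⟨c, fun _ => ⟨fun e' => absurd e' hc, fun e' => absurd e' h.2.2⟩, fun _ => hca⟩
    · exact ⟨0, fun hh => ⟨fun _ => by_contra fun e' => h ⟨hh.1, hh.2, e'⟩, fun _ => rfl⟩,
        fun hh => absurd hh h⟩
  choose kap hk0 hk1 using hk
  exact ⟨lab, kap, {
    toChart := C
    card := hF
    lab_zero := fun w hw => (isl w hw).zero
    lab_mem := fun w hw => (isl w hw).mem
    lab_inj := fun w hw => (isl w hw).inj
    lab_surj := fun w hw => (isl w hw).surj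
    kap_eq_zero := fun w hw v hv => hk0 w v ⟨hw, hv⟩
    kap_io := fun w hw v hv h => hk1 w v ⟨hw, hv, h⟩ }⟩

end Build

/-! ### Formulas -/

/-- The translation of a member `a` in the fibre of `y`. -/
def tr (lab : G → F → G) (y : G) (γ : F) : G := lab y γ * y

variable {lab : G → F → G} {kap : G → G → F} (K : Coord D x e lab kap)
include K

theorem Coord.chart : Chart D x e := K.toChart

theorem Coord.kap_ne {w v : G} (hw : w ∈ perp2 D x e) (hv : v ∈ perp2 D x e) (h : ¬ Commute w v) :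
    kap w v ≠ 0 := fun e' => h ((K.kap_eq_zero w hw v hv).mp e')

theorem Coord.lab_comm {w y : G} (hw : w ∈ perp2 D x e) (hy : y ∈ D) (hxy : Commute x y) (a : F) :
    Commute (lab w a) y ↔ Commute w y :=
  K.chart.fib_comm_iff hw (K.lab_mem w hw a) hy hxy

theorem Coord.kap_swap {w v : G} (hw : w ∈ perp2 D x e) (hv : v ∈ perp2 D x e)
    (h : ¬ Commute w v) : kap w v * kap v w = 1 := by
  have h' : ¬ Commute v w := fun q => h q.symm
  have h1 := K.kap_io v hv w hw h' (kap w v)
  have h2 := K.kap_io w hw v hv h 1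
  rw [mul_one] at h2
  rw [← h2, K.chart.io_comm hv hw h', K.chart.io_io hw hv] at h1
  rw [mul_comm]
  exact (K.lab_inj w hw h1).symm

theorem Coord.kap_tri {p v z : G} (hp : p ∈ perp2 D x e) (hv : v ∈ perp2 D x e)
    (hz : z ∈ perp2 D x e) (hpv : ¬ Commute p v) (hvz : ¬ Commute v z) (hpz : ¬ Commute p z)
    (hu : Commute p (v * z * v)) : kap p v * kap v z = kap p z := by
  have h := K.chart.tri_id hp hv hz hvz hu (K.lab_mem p hp 1)
  rw [K.kap_io p hp v hv hpv, K.kap_io v hv z hz hvz, K.kap_io p hp z hz hpz, mul_one, mul_one] at h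
  rw [mul_comm]
  exact K.lab_inj z hz h

theorem Coord.third_nc {w v : G} (hw : w ∈ perp2 D x e) (hv : v ∈ perp2 D x e)
    (h : ¬ Commute w v) : ¬ Commute w (w * v * w) ∧ ¬ Commute v (w * v * w) := by
  have L := K.chart.lines
  constructor
  · intro h'
    have := (L.commute_flip hw.1).mp h'.symm
    rw [L.sq hw.1, one_mul] at this
    exact h this.symm
  · intro h'
    rw [L.braid hw.1 hv.1 h] at h'
    have := (L.commute_flip hv.1).mp h'.symm
    rw [L.sq hv.1, one_mul] at this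
    exact h this

/-- Conjugation inside the fibres over a line of three is addition of labels. -/
theorem Coord.lab_prod {w v : G} (hw : w ∈ perp2 D x e) (hv : v ∈ perp2 D x e)
    (h : ¬ Commute w v) (α β : F) :
    lab w α * lab v β * lab w α = lab (w * v * w) (kap w (w * v * w) * α + kap v (w * v * w) * β) := by
  have C := K.chart
  have L := C.lines
  have hF := K.card
  set u := w * v * w with hu'
  have hu := C.flip_mem hw hv
  obtain ⟨hwu, hvu⟩ := K.third_nc hw hv h
  set a := lab w α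
  set b := lab v β
  have ha := K.lab_mem w hw α
  have hb := K.lab_mem v hv β
  have hab : ¬ Commute a b := fun q => h
    ((C.fib_comm_iff hv hb hw.1 hw.2.1).mp
      ((C.fib_comm_iff hw ha hb.1.1 (C.fib_nbr hv hb).2.2).mp q).symm).symm
  have hbw : ¬ Commute w b := fun q => h ((C.fib_comm_iff hv hb hw.1 hw.2.1).mp q.symm).symm
  have hav : ¬ Commute a v := fun q => h ((C.fib_comm_iff hw ha hv.1 hv.2.1).mp q)
  obtain ⟨g, hg⟩ := K.lab_surj u hu (a * b * a) (C.fib_prod hw hv ha hb)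
  -- the origins
  have hwbw : w * b * w = lab u (kap v u * β) := by
    rw [← K.kap_io v hv u hu hvu β]
    show w * b * w = (v * u * v) * b * (v * u * v)
    rw [show v * u * v = w by rw [hu', L.braid hw.1 hv.1 h, L.flip_flip hv.1]]
  have hava : a * v * a = lab u (kap w u * α) := by
    rw [← K.kap_io w hw u hu hwu α]
    show a * v * a = (w * u * w) * a * (w * u * w)
    rw [show w * u * w = v by rw [hu', L.flip_flip hw.1], L.braid ha.1.1 hv.1 hav]
  rcases eq_or_ne α 0 with hα | hα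
  · rw [show a = w by rw [← K.lab_zero w hw, ← hα], hwbw, hα, mul_zero, zero_add]
  rcases eq_or_ne β 0 with hβ | hβ
  · rw [show b = v by rw [← K.lab_zero v hv, ← hβ], hava, hβ, mul_zero, add_zero]
  by_cases hrel : kap w v * α = β
  · have hb' : b = u * a * u := by
      have := K.kap_io w hw v hv h α
      rw [hrel] at this
      exact this.symm
    have hua : ¬ Commute u a := fun q => hwu ((C.fib_comm_iff hw ha hu.1 hu.2.1).mp q.symm)
    have ht : kap w v * kap v u = kap w u := K.kap_tri hw hv hu h hvu hwu (by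
      rw [show v * u * v = w by rw [hu', L.braid hw.1 hv.1 h, L.flip_flip hv.1]])
    rw [hb', mid L.set hu.1 ha.1.1 hua, ← hrel, ← mul_assoc, mul_comm (kap v u), ht,
      F4.add_self hF, K.lab_zero u hu]
  have hαu : kap w u * α ≠ 0 := mul_ne_zero (K.kap_ne hw hu hwu) hα
  have hβu : kap v u * β ≠ 0 := mul_ne_zero (K.kap_ne hv hu hvu) hβ
  have hne : kap w u * α ≠ kap v u * β := by
    intro q
    have ht : kap w v * kap v u = kap w u := K.kap_tri hw hv hu h hvu hwu (by
      rw [show v * u * v = w by rw [hu', L.braid hw.1 hv.1 h, L.flip_flip hv.1]])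
    rw [← ht, mul_comm (kap w v), mul_assoc] at q
    exact hrel (mul_left_cancel₀ (K.kap_ne hv hu hvu) q)
  have hne1 : a * b * a ≠ lab u (kap w u * α) := by
    rw [← hava]
    exact fun q => hβ (K.lab_inj v hv ((mul_left_cancel (mul_right_cancel q)).trans (K.lab_zero v hv).symm))
  have hne2 : a * b * a ≠ lab u (kap v u * β) := by
    rw [← hwbw, L.braid ha.1.1 hb.1.1 hab, L.braid hw.1 hb.1.1 hbw]
    exact fun q => hα (K.lab_inj w hw ((mul_left_cancel (mul_right_cancel q)).trans (K.lab_zero w hw).symm))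
  have hne0 : a * b * a ≠ u := by
    intro q
    refine hrel (K.lab_inj v hv ?_)
    rw [← K.kap_io w hw v hv h α]
    show u * a * u = b
    have hua : ¬ Commute u a := fun p => hwu ((C.fib_comm_iff hw ha hu.1 hu.2.1).mp p.symm)
    calc u * a * u = a * u * a := L.braid hu.1 ha.1.1 hua
      _ = a * (a * b * a) * a := by rw [q]
      _ = b := L.flip_flip ha.1.1 b
  rw [← hg] at hne0 hne1 hne2 ⊢
  exact congrArg (lab u) (F4.third hF hαu hβu hne (fun q => hne0 (by rw [q, K.lab_zero u hu]))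
    (fun q => hne1 (by rw [q])) fun q => hne2 (by rw [q]))

theorem Coord.tr_mul_self {y : G} (hy : y ∈ perp2 D x e) (γ : F) : tr lab y γ * tr lab y γ = 1 := by
  have L := K.chart.lines
  have hc := K.chart.fib_self_comm hy (K.lab_mem y hy γ)
  show lab y γ * y * (lab y γ * y) = 1
  calc lab y γ * y * (lab y γ * y) = lab y γ * (y * lab y γ) * y := by group
    _ = lab y γ * (lab y γ * y) * y := by rw [hc.eq]
    _ = (lab y γ * lab y γ) * (y * y) := by group
    _ = 1 := by rw [L.sq (K.lab_mem y hy γ).1.1, L.sq hy.1, one_mul]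

theorem Coord.tr_conj {y : G} (hy : y ∈ perp2 D x e) (γ : F) (q : G) :
    tr lab y γ * q * (tr lab y γ)⁻¹ = lab y γ * (y * q * y) * lab y γ := by
  rw [inv_eq_of_mul_eq_one_right (K.tr_mul_self hy γ)]
  show lab y γ * y * q * (lab y γ * y) = _
  rw [(K.chart.fib_self_comm hy (K.lab_mem y hy γ)).eq]
  conv_lhs => arg 1; rw [← (K.chart.fib_self_comm hy (K.lab_mem y hy γ)).eq]
  group

/-- A translation shifts the labels. -/
theorem Coord.tr_lab {y w : G} (hy : y ∈ perp2 D x e) (hw : w ∈ perp2 D x e) (γ α : F) :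
    tr lab y γ * lab w α * (tr lab y γ)⁻¹ = lab w (α + kap y w * γ) := by
  have C := K.chart
  have L := C.lines
  rw [K.tr_conj hy]
  set a := lab y γ
  set b := lab w α
  have ha := K.lab_mem y hy γ
  have hb := K.lab_mem w hw α
  by_cases h : Commute y w
  · have h1 : Commute y b := ((C.fib_comm_iff hw hb hy.1 hy.2.1).mpr h.symm).symm
    have h2 : Commute a b := (C.fib_comm_iff hy ha hb.1.1 (C.fib_nbr hw hb).2.2).mpr h1
    rw [L.flip_fix hy.1 h1, L.flip_fix ha.1.1 h2, (K.kap_eq_zero y hy w hw).mpr h, zero_mul, add_zero]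
  set u := y * w * y with hu'
  have hu := C.flip_mem hy hw
  obtain ⟨hyu, hwu⟩ := K.third_nc hy hw h
  have h1 : y * b * y = lab u (kap w u * α) := by
    rw [← K.kap_io w hw u hu hwu α]
    show y * b * y = (w * u * w) * b * (w * u * w)
    rw [show w * u * w = y by rw [hu', L.braid hy.1 hw.1 h, L.flip_flip hw.1]]
  have hyu' : y * u * y = w := L.flip_flip hy.1 w
  rw [h1, K.lab_prod hy hu hyu, hyu', ← mul_assoc]
  congr 1
  rw [mul_comm (kap u w) (kap w u), K.kap_swap hw hu hwu, one_mul, add_comm]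

/-- Rows are additive over lines of three. -/
theorem Coord.kap_hyp {w v y : G} (hw : w ∈ perp2 D x e) (hv : v ∈ perp2 D x e)
    (hy : y ∈ perp2 D x e) (h : ¬ Commute w v) :
    kap y (w * v * w) = kap w (w * v * w) * kap y w + kap v (w * v * w) * kap y v := by
  have C := K.chart
  have hu := C.flip_mem hw hv
  set t := tr lab y (1 : F)
  have h1 := K.tr_lab hy hu 1 0
  have h2 := K.tr_lab hy hw 1 0
  have h3 := K.tr_lab hy hv 1 0
  rw [zero_add, mul_one, K.lab_zero _ hu] at h1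
  rw [zero_add, mul_one, K.lab_zero _ hw] at h2
  rw [zero_add, mul_one, K.lab_zero _ hv] at h3
  rw [show t * (w * v * w) * t⁻¹ = (t * w * t⁻¹) * (t * v * t⁻¹) * (t * w * t⁻¹) by group, h2, h3,
    K.lab_prod hw hv h] at h1
  exact (K.lab_inj _ hu h1).symm

/-- Rows are additive over lines of five. -/
theorem Coord.kap_line {w v r : G} (hw : w ∈ perp2 D x e) (hv : v ∈ perp2 D x e) (hwv : w ≠ v)
    (hc : Commute w v) (hr : r ∈ line D w v) (hrw : r ≠ w) (hrv : r ≠ v) :
    ∃ A B : F, A ≠ 0 ∧ B ≠ 0 ∧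
      ∀ y ∈ perp2 D x e, kap y r = A * kap y w + B * kap y v := by
  have C := K.chart
  have L := C.lines
  have hn : v ∈ nbr D w := ⟨hv.1, hwv.symm, hc⟩
  have hrD := C.line_sub hw hv hc hr
  -- `Valid`
  set V : F → F → F → Prop := fun a b c => lab r c ∈ line D (lab w a) (lab v b)
  have hnb : ∀ a b, lab v b ∈ nbr D (lab w a) := fun a b =>
    ⟨(K.lab_mem v hv b).1.1, fun q => hwv (C.fib_unique hw hv (K.lab_mem w hw a) (q ▸ K.lab_mem v hv b)),
      (K.lab_comm hw (K.lab_mem v hv b).1.1 (C.fib_nbr hv (K.lab_mem v hv b)).2.2 a).mpr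
        ((K.lab_comm hv hw.1 hw.2.1 b).mpr hc.symm).symm⟩
  have uniq : ∀ {a b c c'}, V a b c → V a b c' → c = c' := fun {a b c c'} h h' =>
    K.lab_inj r hrD (C.line_fib hw hrD hrw.symm (K.lab_mem w hw a) (hnb a b) h h' (K.lab_mem r hrD c)
      (K.lab_mem r hrD c'))
  have shift : ∀ {a b c}, V a b c → ∀ y ∈ perp2 D x e, ∀ γ : F,
      V (a + kap y w * γ) (b + kap y v * γ) (c + kap y r * γ) := by
    intro a b c h y hy γ
    have := line_conj L.closed (tr lab y γ) h
    rwa [K.tr_lab hy hw, K.tr_lab hy hv, K.tr_lab hy hrD] at this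
  have h0 : V 0 0 0 := by
    show lab r 0 ∈ line D (lab w 0) (lab v 0)
    rw [K.lab_zero w hw, K.lab_zero v hv, K.lab_zero r hrD]
    exact hr
  have sep : ∀ w' ∈ perp2 D x e, ∀ v' ∈ perp2 D x e, w' ≠ v' → Commute w' v' →
      ∃ y ∈ perp2 D x e, Commute y w' ∧ ¬ Commute y v' := by
    intro w' hw' v' hv' hne hc'
    obtain ⟨d, hd, hdv⟩ : ∃ d ∈ perp2 D x w', ¬ Commute v' d := by
      by_contra! hall
      exact hne (C.fib_e hv' ⟨by
        rw [← L.line_eq C.hx (C.mem_nbr hw') (left_mem_line C.hx)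
          (⟨hv'.1, hall⟩ : v' ∈ line D x w') (C.mem_nbr hv').2.1.symm |>.symm]
        exact right_mem_line hw'.1, (C.mem_nbr hw').2.1⟩ hw'.2.2)
    have hdn : d ∈ nbr D x := ⟨hd.1, fun q => hdv (q ▸ hv'.2.1.symm), hd.2.1⟩
    obtain ⟨y, hy, hdy⟩ := C.exists_fib hdn
    exact ⟨y, hy, (C.fib_comm_iff hy hdy hw'.1 hw'.2.1).mp hd.2.2.symm,
      fun q => hdv ((C.fib_comm_iff hy hdy hv'.1 hv'.2.1).mpr q).symm⟩
  obtain ⟨y₁, hy₁, h11, h12⟩ := sep w hw v hv hwv hc
  obtain ⟨y₂, hy₂, h21, h22⟩ := sep v hv w hw hwv.symm hc.symm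
  have h13 : ¬ Commute y₁ r := fun q => h12
    (L.commute_all hw.1 hn (left_mem_line hw.1) hr hrw.symm hy₁.1 h11 q (right_mem_line hv.1))
  have h23 : ¬ Commute y₂ r := fun q => h22
    (L.commute_all hw.1 hn (right_mem_line hv.1) hr hrv.symm hy₂.1 h21 q (left_mem_line hw.1))
  have hk1 := K.kap_ne hy₁ hv h12
  have hk2 := K.kap_ne hy₂ hw h22
  refine ⟨kap y₂ r / kap y₂ w, kap y₁ r / kap y₁ v,
    div_ne_zero (K.kap_ne hy₂ hrD h23) hk2, div_ne_zero (K.kap_ne hy₁ hrD h13) hk1,
    fun y hy => ?_⟩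
  have hA := shift h0 y hy 1
  have hB := shift (shift h0 y₂ hy₂ (kap y w / kap y₂ w)) y₁ hy₁ (kap y v / kap y₁ v)
  simp only [zero_add, mul_one] at hA
  rw [(K.kap_eq_zero y₁ hy₁ w hw).mpr h11, (K.kap_eq_zero y₂ hy₂ v hv).mpr h21, zero_mul,
    zero_mul, zero_add, zero_add, zero_add, add_zero, zero_add, mul_div_cancel₀ _ hk1,
    mul_div_cancel₀ _ hk2] at hB
  rw [uniq hA hB]
  field_simp

end CfsgLib.FischerO2
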