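import Cfsg.Agent.Lib.FischerO2.Fibre

/-!
The common neighbours of a non-commuting pair again form a class with lines of five points, as soon
as two of them commute.
-/

set_option autoImplicit false
set_option linter.style.haveILetI false

namespace CfsgLib.FischerO2

open Cfsg CfsgLib.ThreeTransp CfsgLib.ThreeTransp.StarPairs

variable {G : Type*} [Group G] [Finite G] {D : Set G} {x e : G}

/-- The common neighbours inside the group they generate. -/
def subD (D : Set G) (x e : G) : Set (Subgroup.closure (perp2 D x e)) := {z | (z : G) ∈ perp2 D x e}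

variable (C : Chart D x e)
include C

theorem Chart.closure_conj_mem {g : G} (hg : g ∈ Subgroup.closure (perp2 D x e)) :
    ∀ w ∈ perp2 D x e, g * w * g⁻¹ ∈ perp2 D x e :=
  StarPairs.closure_conj C.lines.set (fun _ h => h.1) (fun _ ha _ hb => C.flip_mem ha hb) hg

/-- The group generated by the common neighbours is transitive on them. -/
theorem Chart.sub_transitive {w v : G} (hw : w ∈ perp2 D x e) (hv : v ∈ perp2 D x e) :
    ∃ k ∈ Subgroup.closure (perp2 D x e), k * w * k⁻¹ = v := by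
  have L := C.lines
  set K := Subgroup.closure (perp2 D x e)
  have hwn := C.mem_nbr hw
  have hvn := C.mem_nbr hv
  obtain ⟨g, hg, hgv⟩ := transitive_commute L.grp L.prim L.wide C.hx hw.1 hv.1 hwn.2.1 hvn.2.1
    hwn.2.2 hvn.2.2
  have key : ∀ u ∈ perp2 D x e, ∀ b ∈ fib D x u, ∀ u' ∈ perp2 D x e, g * b * g⁻¹ ∈ fib D x u' →
      ∃ k ∈ K, k * u * k⁻¹ = u' := by
    clear hgv
    have step : ∀ d ∈ nbr D x, ∀ u ∈ perp2 D x e, ∀ b ∈ fib D x u,
        ∃ u' ∈ perp2 D x e, d * b * d ∈ fib D x u' ∧ ∃ k ∈ K, k * u * k⁻¹ = u' := by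
      intro d hd u hu b hb
      obtain ⟨y, hy, hdy⟩ := C.exists_fib hd
      refine ⟨y * u * y, C.flip_mem hy hu, C.fib_prod hy hu hdy hb, y, Subgroup.subset_closure hy, ?_⟩
      rw [conj_eq L.set hy.1]
    induction hg using Subgroup.closure_induction'' with
    | mem d hd =>
      intro u hu b hb u' hu' h
      rw [conj_eq L.set hd.1] at h
      obtain ⟨u'', hu'', h', hk⟩ := step d hd u hu b hb
      exact (C.fib_unique hu' hu'' h h') ▸ hk
    | inv_mem d hd =>
      intro u hu b hb u' hu' h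
      rw [inv_eq_self L.set hd.1, conj_eq L.set hd.1] at h
      obtain ⟨u'', hu'', h', hk⟩ := step d hd u hu b hb
      exact (C.fib_unique hu' hu'' h h') ▸ hk
    | one =>
      intro u hu b hb u' hu' h
      rw [one_mul, inv_one, mul_one] at h
      exact ⟨1, K.one_mem, by rw [C.fib_unique hu hu' hb h]; group⟩
    | mul p q hp hq ihp ihq =>
      intro u hu b hb u' hu' h
      have hqc : ∀ y ∈ nbr D x, q * y * q⁻¹ ∈ nbr D x :=
        StarPairs.closure_conj L.set (fun _ h => h.1)
          (fun _ ha _ hb => nbr_flip_fix L.set L.closed ha hb) hq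
      obtain ⟨m, hm, hbm⟩ := C.exists_fib (hqc b (C.fib_nbr hu hb))
      obtain ⟨k, hk, hku⟩ := ihq u hu b hb m hm hbm
      obtain ⟨k', hk', hku'⟩ := ihp m hm _ hbm u' hu' (by
        rwa [show p * (q * b * q⁻¹) * p⁻¹ = p * q * b * (p * q)⁻¹ by group])
      exact ⟨k' * k, K.mul_mem hk' hk, by rw [← hku', ← hku]; group⟩
  exact key w hw w (C.self_fib hw) v hv (hgv.symm ▸ C.self_fib hv)

/-- Blocks in the common neighbours are trivial. -/
theorem Chart.sub_block (hrank : ∃ w ∈ perp2 D x e, ∃ v ∈ perp2 D x e, w ≠ v ∧ Commute w v)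
    {B : Set G} (hB : B ⊆ perp2 D x e)
    (hblock : ∀ g ∈ Subgroup.closure (perp2 D x e), ∀ b ∈ B, g * b * g⁻¹ ∈ B →
      ∀ b' ∈ B, g * b' * g⁻¹ ∈ B) :
    B.Subsingleton ∨ B = perp2 D x e := by
  have L := C.lines
  have fix : ∀ g ∈ perp2 D x e, ∀ b ∈ B, Commute g b → ∀ b' ∈ B, g * b' * g ∈ B := by
    intro g hg b hb hgb b' hb'
    have h := hblock g (Subgroup.subset_closure hg) b hb
    rw [conj_eq L.set hg.1, L.flip_fix hg.1 hgb] at h
    have := h hb b' hb'
    rwa [conj_eq L.set hg.1] at this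
  -- a neighbour of one of two commuting members lies in `B`
  have stepA : ∀ w ∈ B, ∀ v ∈ B, ∀ z ∈ perp2 D x e, Commute z w → ¬ Commute z v → z ∈ B := by
    intro w hw v hv z hz hzw hzv
    have h1 := fix z hz w hw hzw v hv
    have h2 := fix v (hB hv) v hv (Commute.refl v) _ h1
    rwa [L.braid hz.1 (hB hv).1 hzv, L.flip_flip (hB hv).1] at h2
  by_cases hpair : ∃ w ∈ B, ∃ v ∈ B, w ≠ v ∧ Commute w v
  · right
    refine Set.Subset.antisymm hB fun z hz => ?_
    have sep : ∀ w' ∈ perp2 D x e, ∀ v' ∈ perp2 D x e, w' ≠ v' → Commute w' v' →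
        ∃ y ∈ perp2 D x e, Commute y w' ∧ ¬ Commute y v' := by
      intro w' hw' v' hv' hne hc'
      obtain ⟨d, hd, hdv⟩ : ∃ d ∈ perp2 D x w', ¬ Commute v' d := by
        by_contra! hall
        refine hne (C.fib_e hv' ⟨?_, (C.mem_nbr hw').2.1⟩ hw'.2.2)
        rw [L.line_eq C.hx (C.mem_nbr hw') (left_mem_line C.hx)
          (⟨hv'.1, hall⟩ : v' ∈ line D x w') (C.mem_nbr hv').2.1.symm]
        exact right_mem_line hw'.1
      have hdn : d ∈ nbr D x := ⟨hd.1, fun q => hdv (q ▸ hv'.2.1.symm), hd.2.1⟩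
      obtain ⟨y, hy, hdy⟩ := C.exists_fib hdn
      exact ⟨y, hy, (C.fib_comm_iff hy hdy hw'.1 hw'.2.1).mp hd.2.2.symm,
        fun q => hdv ((C.fib_comm_iff hy hdy hv'.1 hv'.2.1).mpr q).symm⟩
    have stepB : ∀ w ∈ B, ∀ v ∈ B, w ≠ v → Commute w v → ∀ q ∈ line D w v, q ∈ B := by
      intro w hw v hv hne hc q hq
      rcases eq_or_ne q w with rfl | hqw
      · exact hw
      rcases eq_or_ne q v with rfl | hqv
      · exact hv
      obtain ⟨y, hy, hyw, hyv⟩ := sep w (hB hw) v (hB hv) hne hc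
      have hyB := stepA w hw v hv y hy hyw hyv
      have hn : v ∈ nbr D w := ⟨(hB hv).1, hne.symm, hc⟩
      refine stepA w hw y hyB q (C.line_sub (hB hw) (hB hv) hc hq)
        (line_commute (hB hw).1 (hB hv).1 hc hq (left_mem_line (hB hw).1)) fun h => hyv ?_
      exact L.commute_all (hB hw).1 hn (left_mem_line (hB hw).1) hq hqw.symm hy.1 hyw h.symm
        (right_mem_line (hB hv).1)
    have stepC : ∀ w ∈ B, ∀ v ∈ B, w ≠ v → Commute w v → ∀ y ∈ perp2 D x e, Commute y w → y ∈ B := by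
      intro w hw v hv hne hc y hy hyw
      rcases eq_or_ne y w with rfl | hne'
      · exact hw
      by_cases hyv : Commute y v
      swap
      · exact stepA w hw v hv y hy hyw hyv
      obtain ⟨r, hr, hry, hrw⟩ := C.mate₂ hy (hB hw) hyw
      have hn : v ∈ nbr D w := ⟨(hB hv).1, hne.symm, hc⟩
      obtain ⟨q, hq, hrq⟩ := L.exists_foot (hB hw).1 hn hr.1
      have hqB := stepB w hw v hv hne hc q hq
      have hrB := stepA q hqB w hw r hr hrq hrw
      exact stepA q hqB r hrB y hy (L.commute_all (hB hw).1 hn (left_mem_line (hB hw).1)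
        (right_mem_line (hB hv).1) hne hy.1 hyw hyv hq) fun h => hry h.symm
    obtain ⟨w, hw, v, hv, hne, hc⟩ := hpair
    have hn : v ∈ nbr D w := ⟨(hB hv).1, hne.symm, hc⟩
    obtain ⟨q, hq, hzq⟩ := L.exists_foot (hB hw).1 hn hz.1
    rcases eq_or_ne q w with rfl | hqw
    · exact stepC q hw v hv hne hc z hz hzq
    · exact stepC q (stepB w hw v hv hne hc q hq) w hw hqw
        (line_commute (hB hw).1 (hB hv).1 hc hq (left_mem_line (hB hw).1)) z hz hzq
  · left
    push Not at hpair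
    intro w hw v hv
    by_contra hne
    obtain ⟨p, hp, p', hp', hpne, hpc⟩ := hrank
    obtain ⟨k, hk, hkp⟩ := C.sub_transitive hp (hB hw)
    have hyD := C.closure_conj_mem hk p' hp'
    have hyw : Commute w (k * p' * k⁻¹) := by rw [← hkp]; exact commute_conj.mpr hpc
    have hyne : k * p' * k⁻¹ ≠ w := fun h => hpne (conj_injective k (hkp.trans h.symm))
    have hn : k * p' * k⁻¹ ∈ nbr D w := ⟨hyD.1, hyne, hyw⟩
    obtain ⟨q, hq, hqw, hqy⟩ := L.exists_third (hB hw).1 hn
    have hqD := C.line_sub (hB hw) hyD hyw hq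
    have all : ∀ u ∈ perp2 D x e, u ≠ w → Commute u w → Commute u v := fun u hu huw hc' =>
      by_contra fun h => hpair w hw u (stepA w hw v hv u hu hc' h) huw.symm hc'.symm
    exact hpair w hw v hv hne (L.commute_all (hB hw).1 hn hq (right_mem_line hyD.1) hqy (hB hv).1
      (all q hqD hqw (line_commute (hB hw).1 hyD.1 hyw hq (left_mem_line (hB hw).1))).symm
      (all _ hyD hyne hyw.symm).symm (left_mem_line (hB hw).1)).symm

/-- The common neighbours satisfy the hypotheses again. -/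
theorem Chart.sub_unit (hrank : ∃ w ∈ perp2 D x e, ∃ v ∈ perp2 D x e, w ≠ v ∧ Commute w v) :
    Unit5 (subD D x e) := by
  have L := C.lines
  set K := Subgroup.closure (perp2 D x e)
  have hD' : IsThreeTranspositionGroup (subD D x e) := by
    refine ⟨⟨fun d hd => ?_, fun d hd d' hd' => ?_⟩, fun g d hd => ?_,
      Subgroup.closure_closure_coe_preimage⟩
    · rw [← Subgroup.orderOf_coe]; exact L.set.1 _ hd.1
    · rcases L.set.2 _ hd.1 _ hd'.1 with h | h
      · exact Or.inl (Subtype.ext (by simpa using h))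
      · exact Or.inr (Subtype.ext (by simpa using h))
    · exact C.closure_conj_mem g.2 _ hd
  obtain ⟨w, hw, v, hv, hne, hc⟩ := id hrank
  have cc : ∀ a b : K, Commute a b ↔ Commute (a : G) b := fun a b =>
    ⟨fun h => h.map K.subtype, fun h => Subtype.ext h.eq⟩
  set w' : K := ⟨w, Subgroup.subset_closure hw⟩
  set v' : K := ⟨v, Subgroup.subset_closure hv⟩
  have hne' : w' ≠ v' := fun h => hne (congrArg Subtype.val h)
  have hprim : IsPrimitiveUnderConj (subD D x e) := by
    refine ⟨fun a ha b hb => ?_, ⟨w', hw, v', hv, hne'⟩, fun B hB hblock => ?_⟩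
    · obtain ⟨k, hk, h⟩ := C.sub_transitive ha hb
      exact ⟨⟨k, hk⟩, Subtype.ext h⟩
    · rcases C.sub_block hrank (B := Subtype.val '' B) (by rintro _ ⟨b, hb, rfl⟩; exact hB hb)
        (fun g hg b hb hgb b' hb' => by
          obtain ⟨b, hb, rfl⟩ := hb
          obtain ⟨b', hb', rfl⟩ := hb'
          obtain ⟨c, hc', hcg⟩ := hgb
          rcases hblock ⟨g, hg⟩ with h | h
          · refine ⟨⟨g, hg⟩ * b' * ⟨g, hg⟩⁻¹, ?_, rfl⟩
            rw [← h]
            exact ⟨b', hb', rfl⟩
          · exact absurd hc' (Set.disjoint_left.mp h ⟨b, hb, Subtype.ext hcg.symm⟩)) with h | h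
      · exact Or.inl fun a ha b hb => Subtype.ext (h ⟨a, ha, rfl⟩ ⟨b, hb, rfl⟩)
      · refine Or.inr (Set.Subset.antisymm hB fun z hz => ?_)
        obtain ⟨b, hb, hbz⟩ := (h.symm ▸ hz : (z : G) ∈ Subtype.val '' B)
        exact Subtype.ext hbz ▸ hb
  have lsub : ∀ a b : K, a ∈ subD D x e → b ∈ nbr (subD D x e) a → ∀ c ∈ line D (a : G) b,
      ∃ c' : K, (c' : G) = c ∧ c' ∈ line (subD D x e) a b := by
    intro a b ha hb c hcl
    have hbG : Commute (a : G) b := (cc a b).mp hb.2.2
    have hcD : c ∈ perp2 D x e := C.line_sub ha hb.1 hbG hcl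
    refine ⟨⟨c, Subgroup.subset_closure hcD⟩, rfl, hcD, fun y hy => (cc _ _).mpr ?_⟩
    exact hcl.2 y ⟨hy.1.1, (cc _ _).mp hy.2.1, (cc _ _).mp hy.2.2⟩
  have hvn : v' ∈ nbr (subD D x e) w' := ⟨hv, hne'.symm, (cc w' v').mpr hc⟩
  have hvG : v ∈ nbr D w := ⟨hv.1, hne.symm, hc⟩
  obtain ⟨c, hcl, hcw, hcv⟩ := L.exists_third hw.1 hvG
  have hcD := C.line_sub hw hv hc hcl
  set c' : K := ⟨c, Subgroup.subset_closure hcD⟩
  have hcn : c' ∈ nbr (subD D x e) w' := ⟨hcD, fun h => hcw (congrArg Subtype.val h),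
    (cc w' c').mpr (line_commute hw.1 hv.1 hc (left_mem_line hw.1) hcl)⟩
  have hlines : Lines (subD D x e) :=
    { grp := hD'
      prim := hprim
      wide := ⟨w', hw, v', hv, hne', (cc w' v').mpr hc⟩
      third := ⟨w', hw, v', hvn, c', hcn, fun h => hcv (congrArg Subtype.val h).symm, fun y hy => by
        rw [cc, cc]
        have hwy : Commute (y : G) w := ((cc w' y).mp hy.2.2).symm
        constructor <;> intro h
        · exact (L.commute_all hw.1 hvG (left_mem_line hw.1) (right_mem_line hv.1) hne hy.1.1 hwy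
            h.symm hcl).symm
        · exact (L.commute_all hw.1 hvG (left_mem_line hw.1) hcl hcw.symm hy.1.1 hwy h.symm
            (right_mem_line hv.1)).symm⟩ }
  refine { toLines := hlines, five_pts := fun a ha b hb => ?_ }
  have h5 : (line D (a : G) b).ncard = 5 :=
    C.five_pts a ha.1 b ⟨hb.1.1, fun h => hb.2.1 (Subtype.ext h), (cc a b).mp hb.2.2⟩
  have hle : 5 ≤ (line (subD D x e) a b).ncard := by
    rw [← h5, ← Set.ncard_image_of_injective (line (subD D x e) a b) Subtype.val_injective]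
    refine Set.ncard_le_ncard (fun c hc' => ?_) (Set.toFinite _)
    obtain ⟨c', h1, h2⟩ := lsub a b ha hb c hc'
    exact ⟨c', h2, h1⟩
  rcases hlines.line_ncard ha hb with h | h <;> omega

end CfsgLib.FischerO2
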