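import Cfsg.Agent.Lib.FischerO2.Feet
import Cfsg.Agent.Lib.FischerO2.Sub

/-!
Counting: above every vector of the row space lie two members not commuting with `x`, the row space
has as many isotropic points as there are common neighbours, and the size of the class is that of
the class of transvections of a unitary group.
-/

set_option autoImplicit false
set_option linter.style.haveILetI false

namespace CfsgLib.FischerO2

open Cfsg CfsgLib.ThreeTransp CfsgLib.ThreeTransp.StarPairs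

attribute [local instance] _root_.Classical.propDecidable

variable {G : Type*} [Group G] [Finite G] {D : Set G} {x e : G}
variable {F : Type*} [Field F] [Fintype F] {lab : G → F → G} {kap : G → G → F}
variable {m : ℕ} {rv : G → Fin m → F} {uv : G → Fin m → F}

theorem Chart.sep_perp (C : Chart D x e) {w v : G} (hw : w ∈ perp2 D x e) (hv : v ∈ perp2 D x e)
    (hne : w ≠ v) (hc : Commute w v) : ∃ y ∈ perp2 D x e, Commute y w ∧ ¬ Commute y v := by
  have L := C.lines
  obtain ⟨d, hd, hdv⟩ : ∃ d ∈ perp2 D x w, ¬ Commute v d := by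
    by_contra! hall
    refine hne (C.fib_e hv ⟨?_, (C.mem_nbr hw).2.1⟩ hw.2.2)
    rw [L.line_eq C.hx (C.mem_nbr hw) (left_mem_line C.hx)
      (⟨hv.1, hall⟩ : v ∈ line D x w) (C.mem_nbr hv).2.1.symm]
    exact right_mem_line hw.1
  have hdn : d ∈ nbr D x := ⟨hd.1, fun q => hdv (q ▸ hv.2.1.symm), hd.2.1⟩
  obtain ⟨y, hy, hdy⟩ := C.exists_fib hdn
  exact ⟨y, hy, (C.fib_comm_iff hy hdy hw.1 hw.2.1).mp hd.2.2.symm,
    fun q => hdv ((C.fib_comm_iff hy hdy hv.1 hv.2.1).mpr q).symm⟩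

/-! ### The neighbours of `x` -/

theorem Coord.lab_pair_inj (K : Coord D x e lab kap) {w v : G} {α β : F} (hw : w ∈ perp2 D x e)
    (hv : v ∈ perp2 D x e) (h : lab w α = lab v β) : w = v ∧ α = β := by
  have := K.chart.fib_unique hw hv (K.lab_mem w hw α) (h ▸ K.lab_mem v hv β)
  subst this
  exact ⟨rfl, K.lab_inj w hw h⟩

theorem Coord.nbr_sub_ncard (K : Coord D x e lab kap) (P : G → Prop)
    (hP : ∀ v ∈ perp2 D x e, ∀ α, P (lab v α) ↔ P v) :
    {p | p ∈ nbr D x ∧ P p}.ncard = 4 * {v | v ∈ perp2 D x e ∧ P v}.ncard := by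
  have C := K.chart
  have himg : {p | p ∈ nbr D x ∧ P p} =
      (fun q : G × F => lab q.1 q.2) '' ({v | v ∈ perp2 D x e ∧ P v} ×ˢ Set.univ) := by
    ext p
    constructor
    · rintro ⟨hp, hPp⟩
      obtain ⟨v, hv, hpv⟩ := C.exists_fib hp
      obtain ⟨α, rfl⟩ := K.lab_surj v hv p hpv
      exact ⟨(v, α), ⟨⟨hv, (hP v hv α).mp hPp⟩, Set.mem_univ _⟩, rfl⟩
    · rintro ⟨⟨v, α⟩, ⟨⟨hv, hPv⟩, -⟩, rfl⟩
      exact ⟨C.fib_nbr hv (K.lab_mem v hv α), (hP v hv α).mpr hPv⟩
  rw [himg, Set.InjOn.ncard_image, Set.ncard_prod, Set.ncard_univ, Nat.card_eq_fintype_card, K.card,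
    mul_comm]
  rintro ⟨v, α⟩ ⟨⟨hv, -⟩, -⟩ ⟨w, β⟩ ⟨⟨hw, -⟩, -⟩ h
  obtain ⟨h1, h2⟩ := K.lab_pair_inj hv hw h
  exact Prod.ext h1 h2

theorem Coord.nbr_ncard (K : Coord D x e lab kap) : (nbr D x).ncard = 4 * (perp2 D x e).ncard := by
  simpa using K.nbr_sub_ncard (fun _ => True) (fun _ _ _ => Iff.rfl)

theorem Lines.nbr_ncard_eq (L : Lines D) {a b : G} (ha : a ∈ D) (hb : b ∈ D) :
    (nbr D a).ncard = (nbr D b).ncard := by
  obtain ⟨g, rfl⟩ := L.prim.1 a ha b hb
  rw [nbr_image L.closed, Set.ncard_image_of_injective _ (conj_injective g)]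

theorem Lines.off_image (L : Lines D) (g a : G) :
    off D (g * a * g⁻¹) = (fun y => g * y * g⁻¹) '' off D a := by
  ext y
  constructor
  · intro hy
    refine ⟨g⁻¹ * y * g⁻¹⁻¹, ⟨L.closed _ y hy.1, fun h => hy.2 ?_⟩, by group⟩
    have := (commute_conj (g := g)).mpr h
    simpa [mul_assoc] using this
  · rintro ⟨z, hz, rfl⟩
    exact ⟨L.closed g z hz.1, fun h => hz.2 (commute_conj.mp h)⟩

theorem Lines.off_ncard_eq (L : Lines D) {a b : G} (ha : a ∈ D) (hb : b ∈ D) :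
    (off D a).ncard = (off D b).ncard := by
  obtain ⟨g, rfl⟩ := L.prim.1 a ha b hb
  rw [L.off_image, Set.ncard_image_of_injective _ (conj_injective g)]

/-- The members off `x` commuting with a common neighbour. -/
theorem Coord.off_comm_ncard (K : Coord D x e lab kap) {w : G} (hw : w ∈ perp2 D x e) :
    {g | g ∈ off D x ∧ Commute g w}.ncard =
      4 * {v | v ∈ perp2 D x e ∧ ¬ Commute w v}.ncard := by
  have C := K.chart
  have L := C.lines
  obtain ⟨e', he', hwe'⟩ := C.mate hw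
  obtain ⟨g, hg1, hg2⟩ :=
    L.exists_map_apair hw.1 he'.1 (fun h => hwe' h.symm) C.hx C.he C.hxe
  set w₀ := g * x * g⁻¹ with hw₀
  have hw₀D : w₀ ∈ perp2 D x e := by
    refine ⟨L.closed g x C.hx, ?_, ?_⟩
    · rw [← hg1, hw₀]; exact commute_conj.mpr hw.2.1.symm
    · rw [← hg2, hw₀]; exact commute_conj.mpr he'.2.1.symm
  have himg : {p | p ∈ nbr D x ∧ ¬ Commute w₀ p} =
      (fun y => g * y * g⁻¹) '' {p | p ∈ off D x ∧ Commute p w} := by
    ext p
    constructor
    · rintro ⟨hp, hpw⟩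
      rw [← hg1, nbr_image L.closed] at hp
      obtain ⟨q, hq, rfl⟩ := hp
      exact ⟨q, ⟨⟨hq.1, fun h => hpw (commute_conj.mpr h)⟩, hq.2.2.symm⟩, rfl⟩
    · rintro ⟨q, ⟨hq, hqw⟩, rfl⟩
      refine ⟨?_, fun h => hq.2 (commute_conj.mp h)⟩
      rw [← hg1, nbr_image L.closed]
      exact ⟨q, ⟨hq.1, fun h => hq.2 (h ▸ hw.2.1), hqw.symm⟩, rfl⟩
  have h1 := K.nbr_sub_ncard (fun p => ¬ Commute w₀ p) (fun v hv α => not_congr
    ⟨fun h => ((K.lab_comm hv hw₀D.1 hw₀D.2.1 α).mp h.symm).symm,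
      fun h => ((K.lab_comm hv hw₀D.1 hw₀D.2.1 α).mpr h.symm).symm⟩)
  rw [himg, Set.ncard_image_of_injective _ (conj_injective g)] at h1
  rw [h1]
  obtain ⟨k, hk, hkw⟩ := C.sub_transitive hw hw₀D
  have himg2 : {v | v ∈ perp2 D x e ∧ ¬ Commute w₀ v} =
      (fun y => k * y * k⁻¹) '' {v | v ∈ perp2 D x e ∧ ¬ Commute w v} := by
    ext v
    constructor
    · rintro ⟨hv, hvw⟩
      refine ⟨k⁻¹ * v * k⁻¹⁻¹, ⟨C.closure_conj_mem (inv_mem hk) v hv, fun h => hvw ?_⟩, by group⟩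
      have := (commute_conj (g := k)).mpr h
      rw [hkw] at this
      simpa [mul_assoc] using this
    · rintro ⟨q, ⟨hq, hqw⟩, rfl⟩
      exact ⟨C.closure_conj_mem hk q hq, fun h => hqw (commute_conj.mp (hkw.symm ▸ h))⟩
  rw [himg2, Set.ncard_image_of_injective _ (conj_injective k)]

/-! ### Rows -/

theorem Space.rv_inj (S : Space D x e lab kap m rv) {w v : G} (hw : w ∈ perp2 D x e)
    (hv : v ∈ perp2 D x e) {c : F} (h : rv v = c • rv w) : v = w := by
  by_contra hne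
  have h1 : ∀ y ∈ perp2 D x e, kap v y = c * kap w y := fun y hy => by
    rw [← S.herm_rv v hv y hy, h, herm_smul_left, S.herm_rv w hw y hy]
  by_cases hc : Commute w v
  · obtain ⟨y, hy, hyw, hyv⟩ := S.chart.sep_perp hw hv (Ne.symm hne) hc
    refine S.kap_ne hv hy (fun q => hyv q.symm) ?_
    rw [h1 y hy, (S.kap_eq_zero w hw y hy).mpr hyw.symm, mul_zero]
  · refine S.kap_ne hv hw (fun q => hc q.symm) ?_
    rw [h1 w hw, (S.kap_eq_zero w hw w hw).mpr (Commute.refl w), mul_zero]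

theorem Space.zero_count (S : Space D x e lab kap m rv) :
    3 * (perp2 D x e).ncard + 1 ≤ zeroNorm m F ∧
      (zeroNorm m F ≤ 3 * (perp2 D x e).ncard + 1 → ∀ u : Fin m → F, u ≠ 0 →
        hermForm m F 2 u u = 0 → ∃ w ∈ perp2 D x e, ∃ c : F, c ≠ 0 ∧ u = c • rv w) := by
  let T : Type _ := Option (perp2 D x e × {c : F // c ≠ 0})
  let ψ : T → {v : Fin m → F // hermForm m F 2 v v = 0} := fun t =>
    Option.elim t ⟨0, herm_zero_left 0⟩ fun p => ⟨p.2.1 • rv p.1, by
      rw [herm_smul_left, herm_smul_right, S.rv_self p.1.2, mul_zero, mul_zero]⟩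
  have hψ : Function.Injective ψ := by
    have hne : ∀ p : perp2 D x e × {c : F // c ≠ 0}, p.2.1 • rv p.1 ≠ 0 := fun p h =>
      S.rv_ne_zero p.1.2 ((smul_eq_zero.mp h).resolve_left p.2.2)
    rintro (_ | p) (_ | q) h
    · rfl
    · exact absurd (congrArg Subtype.val h).symm (hne q)
    · exact absurd (congrArg Subtype.val h) (hne p)
    · have h' : p.2.1 • rv p.1 = q.2.1 • rv q.1 := congrArg Subtype.val h
      have h1 : rv p.1 = (p.2.1⁻¹ * q.2.1) • rv q.1 := by
        rw [mul_smul, ← h', smul_smul, inv_mul_cancel₀ p.2.2, one_smul]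
      have hpq : p.1 = q.1 := Subtype.ext (S.rv_inj q.1.2 p.1.2 h1)
      rw [hpq] at h'
      exact congrArg some (Prod.ext hpq (Subtype.ext (smul_left_injective F (S.rv_ne_zero q.1.2) h')))
  haveI : Fintype (perp2 D x e) := Fintype.ofFinite _
  have hT : Nat.card T = 3 * (perp2 D x e).ncard + 1 := by
    rw [Finite.card_option, Nat.card_prod, Nat.card_coe_set_eq, mul_comm,
      show Nat.card {c : F // c ≠ 0} = 3 by
        rw [Nat.card_eq_fintype_card, Fintype.card_subtype_compl, S.card, Fintype.card_subtype_eq]]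
  refine ⟨hT ▸ Nat.card_le_card_of_injective ψ hψ, fun hle u hu0 hu => ?_⟩
  have hb := hψ.bijective_of_nat_card_le (by rw [hT]; exact hle)
  obtain ⟨t, ht⟩ := hb.2 ⟨u, hu⟩
  rcases t with _ | p
  · exact absurd (congrArg Subtype.val ht).symm hu0
  · exact ⟨p.1, p.1.2, p.2.1, p.2.2, (congrArg Subtype.val ht).symm⟩

/-! ### The members off `x` -/

variable (K : Feet D x e lab kap m rv uv)
include K

theorem Feet.coord : Coord D x e lab kap := K.toCoord

theorem Feet.fibre_ncard (u : Fin m → F) :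
    {g | g ∈ off D x ∧ uv g = u}.ncard = {g | g ∈ off D x ∧ uv g = 0}.ncard := by
  obtain ⟨k, hk, hku⟩ := K.exists_translation u
  have L := K.space.chart.lines
  have himg : {g | g ∈ off D x ∧ uv g = u} =
      (fun y => k * y * k⁻¹) '' {g | g ∈ off D x ∧ uv g = 0} := by
    ext g
    constructor
    · rintro ⟨hg, rfl⟩
      have hg' : k⁻¹ * g * k⁻¹⁻¹ ∈ off D x := off_conj L.closed hk.inv_left hg
      refine ⟨_, ⟨hg', ?_⟩, by group⟩
      have := hku _ hg'
      rw [show k * (k⁻¹ * g * k⁻¹⁻¹) * k⁻¹ = g by group] at this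
      simpa using this
    · rintro ⟨q, ⟨hq, hq0⟩, rfl⟩
      exact ⟨off_conj L.closed hk hq, by rw [hku q hq, hq0, zero_add]⟩
  rw [himg, Set.ncard_image_of_injective _ (conj_injective k)]

theorem Feet.off_ncard :
    (off D x).ncard = {g | g ∈ off D x ∧ uv g = 0}.ncard * 4 ^ m := by
  rw [Set.ncard_eq_toFinset_card (off D x) (Set.toFinite _),
    Finset.card_eq_sum_card_fiberwise (f := uv) (t := (Finset.univ : Finset (Fin m → F)))
      (fun g _ => by simp)]
  have h : ∀ u : Fin m → F, ({g ∈ (Set.toFinite (off D x)).toFinset | uv g = u}).card =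
      {g | g ∈ off D x ∧ uv g = 0}.ncard := fun u => by
    rw [← K.fibre_ncard u, ← Set.ncard_coe_finset]
    congr 1
    ext g
    simp
  rw [Finset.sum_congr rfl (fun u _ => h u), Finset.sum_const, smul_eq_mul, Finset.card_univ,
    Fintype.card_fun, Fintype.card_fin, K.card, mul_comm]

theorem Feet.off_ncard' {w : G} (hw : w ∈ perp2 D x e) :
    (off D x).ncard = 16 * {v | v ∈ perp2 D x e ∧ ¬ Commute w v}.ncard := by
  have C := K.space.chart
  obtain ⟨y, hy, hyw⟩ := C.mate hw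
  have hk := K.coord.kap_ne hy hw hyw
  set f : G → F := fun g => hermForm m F 2 (uv g) (rv w)
  have hpart : ∀ α : F, {g | g ∈ off D x ∧ f g = α}.ncard =
      {g | g ∈ off D x ∧ Commute g w}.ncard := by
    intro α
    set t := tr lab y (α / kap y w)
    have hfz : ∀ g ∈ off D x, (Commute g w ↔ f g = 0) := fun g hg => by
      rw [← K.comm_iff hg hw 0, K.lab_zero w hw]
    have hft : ∀ g ∈ off D x, f (t * g * t⁻¹) = f g + α := fun g hg => by
      show hermForm m F 2 _ _ = _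
      rw [K.uv_tr hy _ hg, herm_add_left, herm_smul_left, K.herm_rv y hy w hw, div_mul_cancel₀ _ hk]
    have himg : {g | g ∈ off D x ∧ f g = α} =
        (fun z => t * z * t⁻¹) '' {g | g ∈ off D x ∧ Commute g w} := by
      ext g
      constructor
      · rintro ⟨hg, hgα⟩
        have hg' : t⁻¹ * g * t⁻¹⁻¹ ∈ off D x :=
          off_conj C.lines.closed (K.tr_x hy _).inv_left hg
        refine ⟨_, ⟨hg', (hfz _ hg').mpr ?_⟩, by group⟩
        have := hft _ hg'
        rw [show t * (t⁻¹ * g * t⁻¹⁻¹) * t⁻¹ = g by group, hgα] at this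
        simpa using this
      · rintro ⟨q, ⟨hq, hqw⟩, rfl⟩
        exact ⟨K.tr_off hy _ hq, by rw [hft q hq, (hfz q hq).mp hqw, zero_add]⟩
    rw [himg, Set.ncard_image_of_injective _ (conj_injective t)]
  rw [Set.ncard_eq_toFinset_card (off D x) (Set.toFinite _),
    Finset.card_eq_sum_card_fiberwise (f := f) (t := (Finset.univ : Finset F)) (fun g _ => by simp)]
  have h : ∀ α : F, ({g ∈ (Set.toFinite (off D x)).toFinset | f g = α}).card =
      {g | g ∈ off D x ∧ Commute g w}.ncard := fun α => by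
    rw [← hpart α, ← Set.ncard_coe_finset]
    congr 1
    ext g
    simp
  rw [Finset.sum_congr rfl (fun α _ => h α), Finset.sum_const, smul_eq_mul, Finset.card_univ, K.card,
    K.coord.off_comm_ncard hw]
  ring

theorem Feet.two_le : 2 ≤ {g | g ∈ off D x ∧ uv g = 0}.ncard := by
  have C := K.space.chart
  refine Nat.succ_le_iff.mpr ((Set.one_lt_ncard (Set.toFinite _)).mpr ⟨e, ⟨K.e_off,
    K.uv_zero K.e_off fun w hw => hw.2.2⟩, x * e * x, ⟨K.x_off K.e_off, ?_⟩, fun h => ?_⟩)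
  · rw [K.uv_x K.e_off]; exact K.uv_zero K.e_off fun w hw => hw.2.2
  · have hef := (C.lines.third_swap C.hx C.he C.hxe).2.1
    rw [← h, C.lines.sq C.he, one_mul] at hef
    exact C.hxe (hef ▸ Commute.refl _)

/-- Without commuting common neighbours at most four members share their feet. -/
theorem Feet.le_four (hrank : ∀ w ∈ perp2 D x e, ∀ v ∈ perp2 D x e, Commute w v → w = v) :
    {g | g ∈ off D x ∧ uv g = 0}.ncard ≤ 4 := by
  have C := K.space.chart
  have L := C.lines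
  set T := {g | g ∈ off D x ∧ uv g = 0}
  set Δ := perp2 D x e
  obtain ⟨p, hp⟩ := L.exists_common C.hx C.he C.hxe
  obtain ⟨y, hy, hyp⟩ := C.mate hp
  obtain ⟨a, ha, hax, hap⟩ := L.exists_third C.hx (C.mem_nbr hp)
  have haf : a ∈ fib D x p := ⟨ha, hax⟩
  have han := C.fib_nbr hp haf
  have hTq : ∀ k ∈ T, ∀ q ∈ Δ, Commute k q := fun k hk q hq => by
    have := (K.comm_iff hk.1 hq 0).mpr (by rw [hk.2, herm_zero_left])
    rwa [K.lab_zero q hq] at this
  set S : Set (G × G) := (Δ \ {p}) ×ˢ T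
  have hchoice : ∀ s : G × G, ∃ r, s ∈ S → r ∈ line D s.1 s.2 ∧ Commute a r := by
    intro s
    by_cases hs : s ∈ S
    · have hn : s.2 ∈ nbr D s.1 := ⟨hs.2.1.1, fun h => hs.2.1.2 (h ▸ hs.1.1.2.1),
        (hTq s.2 hs.2 s.1 hs.1.1).symm⟩
      exact (L.exists_foot hs.1.1.1 hn han.1).imp fun r hr _ => hr
    · exact ⟨1, fun h => absurd h hs⟩
  choose r hr using hchoice
  have hpq : ∀ q ∈ Δ, q ≠ p → ¬ Commute a q := fun q hq hqp h =>
    hqp (hrank q hq p hp ((C.fib_comm_iff hp haf hq.1 hq.2.1).mp h).symm)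
  have hmaps : ∀ s ∈ S, r s ∈ nbr D a \ (line D x p \ {a}) := by
    rintro ⟨q, k⟩ hs
    obtain ⟨hl, hc⟩ := hr _ hs
    obtain ⟨⟨hq, hqp⟩, hk⟩ := hs
    simp only [Set.mem_singleton_iff] at hqp
    have hqk : Commute q k := (hTq k hk q hq).symm
    have hrq : Commute (r (q, k)) q := line_commute hq.1 hk.1.1 hqk hl (left_mem_line hq.1)
    have hra : r (q, k) ≠ a := fun h => hpq q hq hqp (h ▸ hrq)
    refine ⟨⟨hl.1, hra, hc⟩, fun h => ?_⟩
    by_cases hrx : r (q, k) = x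
    · exact hk.1.2 (hrx ▸ line_commute hq.1 hk.1.1 hqk hl (right_mem_line hk.1.1))
    · exact hqp (hrank q hq p hp ((C.fib_comm_iff hp ⟨h.1, hrx⟩ hq.1 hq.2.1).mp hrq).symm)
  have hinj : Set.InjOn r S := by
    rintro ⟨q, k⟩ hs ⟨q', k'⟩ hs' h
    obtain ⟨hl, hc⟩ := hr _ hs
    obtain ⟨hl', hc'⟩ := hr _ hs'
    obtain ⟨⟨hq, hqp⟩, hk⟩ := hs
    obtain ⟨⟨hq', hqp'⟩, hk'⟩ := hs'
    simp only [Set.mem_singleton_iff] at hqp hqp'
    rw [← h] at hl'
    have hqk : Commute q k := (hTq k hk q hq).symm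
    have hqk' : Commute q' k' := (hTq k' hk' q' hq').symm
    have hn : k ∈ nbr D q := ⟨hk.1.1, fun e' => hk.1.2 (e' ▸ hq.2.1), hqk⟩
    have hn' : k' ∈ nbr D q' := ⟨hk'.1.1, fun e' => hk'.1.2 (e' ▸ hq'.2.1), hqk'⟩
    have hap' : Commute a p := C.fib_self_comm hp haf
    have hrk : r (q, k) ≠ k := by
      intro e'
      have : a = p := L.foot_unique C.hx (C.mem_nbr hp) hk.1.1 (fun q'' => hk.1.2 q''.symm) ha
        (right_mem_line hp.1) (e' ▸ hc.symm) (hTq k hk p hp)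
      exact hap this
    have hrq : r (q, k) ≠ q := fun e' => hpq q hq hqp (e' ▸ hc)
    have hqq : q = q' := by
      refine hrank q hq q' hq' (Commute.symm ?_)
      exact L.commute_all hq.1 hn hl (right_mem_line hk.1.1) hrk hq'.1
        (line_commute hq'.1 hk'.1.1 hqk' (left_mem_line hq'.1) hl') (hTq k hk q' hq').symm
        (left_mem_line hq.1)
    subst hqq
    refine Prod.ext rfl ?_
    by_contra hkk
    refine K.not_commute hk.1 hk'.1 hkk (hk.2.trans hk'.2.symm) ?_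
    have e1 := L.line_eq hq.1 hn (left_mem_line hq.1) hl hrq.symm
    have e2 := L.line_eq hq.1 hn' (left_mem_line hq.1) hl' hrq.symm
    exact line_commute hq.1 hk.1.1 hqk (right_mem_line hk.1.1)
      (e1 ▸ e2.symm ▸ right_mem_line hk'.1.1)
  have hle := Set.ncard_le_ncard_of_injOn r hmaps hinj (Set.toFinite _)
  have hl5 : (line D x p).ncard = 5 := C.five_pts x C.hx p (C.mem_nbr hp)
  have hsub : line D x p \ {a} ⊆ nbr D a := fun z hz =>
    ⟨hz.1.1, hz.2, line_commute C.hx hp.1 hp.2.1 ha hz.1⟩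
  rw [Set.ncard_prod, Set.ncard_sdiff_singleton_of_mem hp,
    Set.ncard_sdiff hsub (Set.toFinite _), Set.ncard_sdiff_singleton_of_mem ha, hl5,
    L.nbr_ncard_eq han.1 C.hx, K.coord.nbr_ncard] at hle
  have hpos : 2 ≤ Δ.ncard :=
    (Set.one_lt_ncard (Set.toFinite _)).mpr ⟨p, hp, y, hy, fun h => hyp (h ▸ Commute.refl _)⟩
  have h4 : 4 * Δ.ncard - (5 - 1) = 4 * (Δ.ncard - 1) := by omega
  rw [h4, mul_comm (Δ.ncard - 1)] at hle
  exact Nat.le_of_mul_le_mul_right hle (by omega)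

end CfsgLib.FischerO2
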