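import Cfsg.Agent.Lib.FischerO2.Space

/-!
The members not commuting with `x`: the labels of their feet on the lines through `x` are the values
of a vector in the row space, and translations act on these vectors by addition.
-/

set_option autoImplicit false
set_option linter.style.haveILetI false

namespace CfsgLib.FischerO2

open Cfsg CfsgLib.ThreeTransp CfsgLib.ThreeTransp.StarPairs

attribute [local instance] _root_.Classical.propDecidable

variable {G : Type*} [Group G] [Finite G] {D : Set G} {x e : G}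
variable {F : Type*} [Field F] [Fintype F] {lab : G → F → G} {kap : G → G → F}
variable {m : ℕ} {rv : G → Fin m → F}

/-- The members not commuting with `x`. -/
def off (D : Set G) (x : G) : Set G := {g | g ∈ D ∧ ¬ Commute x g}

omit [Finite G] in
theorem commute_conj_iff' {k p q : G} : Commute (k * p * k⁻¹) (k * q * k⁻¹) ↔ Commute p q :=
  ⟨fun h => commute_conj.mp h, fun h => commute_conj.mpr h⟩

omit [Finite G] in
theorem off_conj (hc : IsConjClosed D) {k g : G} (hk : Commute k x) (hg : g ∈ off D x) :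
    k * g * k⁻¹ ∈ off D x := by
  refine ⟨hc k g hg.1, fun h => hg.2 ?_⟩
  refine (commute_conj_iff' (k := k)).mp ?_
  rwa [hk.eq, mul_inv_cancel_right]

theorem Coord.tr_x (K : Coord D x e lab kap) {y : G} (hy : y ∈ perp2 D x e) (γ : F) :
    Commute (tr lab y γ) x :=
  ((K.chart.fib_nbr hy (K.lab_mem y hy γ)).2.2.symm).mul_left hy.2.1.symm

theorem Coord.lab_flip (K : Coord D x e lab kap) {y w : G} (hy : y ∈ perp2 D x e)
    (hw : w ∈ perp2 D x e) (h : ¬ Commute y w) (α : F) :
    y * lab w α * y = lab (y * w * y) (kap w (y * w * y) * α) := by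
  have := K.lab_prod hy hw h 0 α
  rwa [K.lab_zero y hy, mul_zero, zero_add] at this

theorem Space.herm_ext_left (S : Space D x e lab kap m rv) {r w v : G} (hr : r ∈ perp2 D x e)
    (hw : w ∈ perp2 D x e) (hv : v ∈ perp2 D x e) {A B : F}
    (h : ∀ y ∈ perp2 D x e, kap y r = A * kap y w + B * kap y v) (z : Fin m → F) :
    hermForm m F 2 z (rv r) = A * hermForm m F 2 z (rv w) + B * hermForm m F 2 z (rv v) := by
  have hz : z ∈ Submodule.span F (rv '' perp2 D x e) := S.span_rv ▸ Submodule.mem_top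
  induction hz using Submodule.span_induction with
  | mem u hu =>
    obtain ⟨y, hy, rfl⟩ := hu
    rw [S.herm_rv y hy r hr, S.herm_rv y hy w hw, S.herm_rv y hy v hv]
    exact h y hy
  | zero => simp [herm_zero_left]
  | add a b _ _ ha hb => rw [herm_add_left, herm_add_left, herm_add_left, ha, hb]; ring
  | smul c a _ ha => rw [herm_smul_left, herm_smul_left, herm_smul_left, ha]; ring

theorem Space.herm_hyp (S : Space D x e lab kap m rv) {w v : G} (hw : w ∈ perp2 D x e)
    (hv : v ∈ perp2 D x e) (h : ¬ Commute w v) (z : Fin m → F) :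
    hermForm m F 2 z (rv (w * v * w)) =
      kap w (w * v * w) * hermForm m F 2 z (rv w) + kap v (w * v * w) * hermForm m F 2 z (rv v) :=
  S.herm_ext_left (S.chart.flip_mem hw hv) hw hv (fun _ hy => S.kap_hyp hw hv hy h) z

theorem Space.lab_unique (S : Space D x e lab kap m rv) {g w : G} (hg : g ∈ off D x)
    (hw : w ∈ perp2 D x e) {α β : F} (ha : Commute g (lab w α)) (hb : Commute g (lab w β)) : α = β := by
  have C := S.chart
  exact S.lab_inj w hw (C.lines.foot_unique C.hx (C.mem_nbr hw) hg.1 (fun q => hg.2 q.symm)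
    (S.lab_mem w hw α).1 (S.lab_mem w hw β).1 ha hb)

/-- `u` describes the feet of `g`. -/
def IsFeet (D : Set G) (x e : G) (lab : G → F → G) (rv : G → Fin m → F) (g : G) (u : Fin m → F) :
    Prop :=
  ∀ w ∈ perp2 D x e, Commute g (lab w (hermForm m F 2 u (rv w)))

theorem Space.feet_unique (S : Space D x e lab kap m rv) {g : G} {u v : Fin m → F} (hg : g ∈ off D x)
    (hu : IsFeet D x e lab rv g u) (hv : IsFeet D x e lab rv g v) : u = v :=
  S.ext_rows fun w hw => S.lab_unique hg hw (hu w hw) (hv w hw)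

theorem Space.feet_x (S : Space D x e lab kap m rv) {g : G} {u : Fin m → F}
    (hu : IsFeet D x e lab rv g u) : IsFeet D x e lab rv (x * g * x) u := by
  intro w hw
  have C := S.chart
  have := (commute_conj_iff C.lines.set C.hx g (lab w (hermForm m F 2 u (rv w)))).mpr (hu w hw)
  rwa [C.lines.flip_fix C.hx (C.fib_nbr hw (S.lab_mem w hw _)).2.2] at this

theorem Space.feet_tr (S : Space D x e lab kap m rv) {g y : G} {u : Fin m → F}
    (hy : y ∈ perp2 D x e) (γ : F) (hu : IsFeet D x e lab rv g u) :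
    IsFeet D x e lab rv (tr lab y γ * g * (tr lab y γ)⁻¹) (u + γ • rv y) := by
  intro w hw
  rw [herm_add_left, herm_smul_left, S.herm_rv y hy w hw, mul_comm γ, ← S.tr_lab hy hw γ]
  exact commute_conj.mpr (hu w hw)

theorem Space.feet_flip (S : Space D x e lab kap m rv) {g y : G} {u : Fin m → F}
    (hy : y ∈ perp2 D x e) (hu : IsFeet D x e lab rv g u) :
    IsFeet D x e lab rv (y * g * y) (u + hermForm m F 2 u (rv y) • rv y) := by
  intro w' hw'
  have C := S.chart
  have L := C.lines
  rw [herm_add_left, herm_smul_left, S.herm_rv y hy w' hw']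
  set w := y * w' * y with hwdef
  have hw : w ∈ perp2 D x e := C.flip_mem hy hw'
  have hww : y * w * y = w' := L.flip_flip hy.1 w'
  have h1 := (commute_conj_iff L.set hy.1 g (lab w (hermForm m F 2 u (rv w)))).mpr (hu w hw)
  by_cases hc : Commute y w'
  · have hwe : w = w' := L.flip_fix hy.1 hc
    rw [hwe, L.flip_fix hy.1 ((S.lab_comm hw' hy.1 hy.2.1 _).mpr hc.symm).symm] at h1
    rwa [(S.kap_eq_zero y hy w' hw').mpr hc, mul_zero, add_zero]
  · have hc' : ¬ Commute y w := fun q => hc (by
      rw [← hww, L.flip_fix hy.1 q]; exact q)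
    rw [S.lab_flip hy hw hc', hww] at h1
    have h2 := S.herm_hyp hy hw hc' u
    rw [hww] at h2
    have h3 := F4.add_self S.card (hermForm m F 2 u (rv y) * kap y w')
    rwa [show hermForm m F 2 u (rv w') + hermForm m F 2 u (rv y) * kap y w' =
      kap w w' * hermForm m F 2 u (rv w) by rw [h2]; linear_combination h3]

/-- Vectors describing all feet. -/
structure Feet (D : Set G) (x e : G) (lab : G → F → G) (kap : G → G → F) (m : ℕ)
    (rv : G → Fin m → F) (uv : G → Fin m → F) : Prop extends Space D x e lab kap m rv where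
  uv_spec : ∀ g ∈ off D x, IsFeet D x e lab rv g (uv g)

theorem Space.exists_feet (S : Space D x e lab kap m rv) :
    ∃ uv : G → Fin m → F, Feet D x e lab kap m rv uv := by
  have C := S.chart
  have L := C.lines
  set R : G → Prop := fun g => g ∈ off D x ∧ ∃ u : Fin m → F, IsFeet D x e lab rv g u with hR
  have hRe : R e := ⟨⟨C.he, C.hxe⟩, 0, fun w hw => by
    rw [herm_zero_left, S.lab_zero w hw]; exact hw.2.2⟩
  have step : ∀ p ∈ D, Commute x p → ∀ g, R g → R (p * g * p) := by
    intro p hp hxp g hg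
    obtain ⟨hgo, u, hu⟩ := hg
    refine ⟨?_, ?_⟩
    · have := off_conj L.closed (k := p) hxp.symm hgo
      rwa [conj_eq L.set hp] at this
    rcases eq_or_ne p x with rfl | hpx
    · exact ⟨u, S.feet_x hu⟩
    obtain ⟨w, hw, hpw⟩ := C.exists_fib (⟨hp, hpx, hxp⟩ : p ∈ nbr D x)
    obtain ⟨γ, rfl⟩ := S.lab_surj w hw p hpw
    refine ⟨(u + hermForm m F 2 u (rv w) • rv w) + γ • rv w, ?_⟩
    have := S.feet_tr hw γ (S.feet_flip hw hu)
    rwa [S.tr_conj hw, L.flip_flip hw.1] at this
  have hall : ∀ g ∈ off D x, R g := by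
    intro g hg
    obtain ⟨k, hk, rfl⟩ := transitive_not_commute L.grp L.prim L.wide C.hx C.he hg.1 C.hxe hg.2
    clear hg
    have key : ∀ h, R h → R (k * h * k⁻¹) := by
      induction hk using Subgroup.closure_induction'' with
      | mem p hp => intro h hh; rw [conj_eq L.set hp.1]; exact step p hp.1 hp.2 h hh
      | inv_mem p hp =>
        intro h hh; rw [inv_eq_self L.set hp.1, conj_eq L.set hp.1]; exact step p hp.1 hp.2 h hh
      | one => intro h hh; simpa using hh
      | mul p q _ _ h1 h2 => intro h hh; simpa [mul_assoc] using h1 _ (h2 h hh)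
    exact key e hRe
  have : ∀ g, ∃ u : Fin m → F, g ∈ off D x → IsFeet D x e lab rv g u := fun g => by
    by_cases hg : g ∈ off D x
    · exact (hall g hg).2.imp fun _ h _ => h
    · exact ⟨0, fun h => absurd h hg⟩
  choose uv huv using this
  exact ⟨uv, { toSpace := S, uv_spec := huv }⟩

variable {uv : G → Fin m → F} (K : Feet D x e lab kap m rv uv)
include K

theorem Feet.space : Space D x e lab kap m rv := K.toSpace

theorem Feet.uv_eq {g : G} {u : Fin m → F} (hg : g ∈ off D x) (hu : IsFeet D x e lab rv g u) :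
    uv g = u :=
  K.space.feet_unique hg (K.uv_spec g hg) hu

theorem Feet.e_off : e ∈ off D x := ⟨K.he, K.hxe⟩

theorem Feet.uv_zero {g : G} (hg : g ∈ off D x) (h : ∀ w ∈ perp2 D x e, Commute g w) : uv g = 0 :=
  K.uv_eq hg fun w hw => by rw [herm_zero_left, K.lab_zero w hw]; exact h w hw

theorem Feet.x_off {g : G} (hg : g ∈ off D x) : x * g * x ∈ off D x := by
  have L := K.space.chart.lines
  have := off_conj L.closed (Commute.refl x) hg
  rwa [conj_eq L.set K.hx] at this

theorem Feet.uv_x {g : G} (hg : g ∈ off D x) : uv (x * g * x) = uv g :=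
  K.uv_eq (K.x_off hg) (K.space.feet_x (K.uv_spec g hg))

theorem Feet.tr_off {g y : G} (hy : y ∈ perp2 D x e) (γ : F) (hg : g ∈ off D x) :
    tr lab y γ * g * (tr lab y γ)⁻¹ ∈ off D x :=
  off_conj K.space.chart.lines.closed (K.tr_x hy γ) hg

theorem Feet.uv_tr {g y : G} (hy : y ∈ perp2 D x e) (γ : F) (hg : g ∈ off D x) :
    uv (tr lab y γ * g * (tr lab y γ)⁻¹) = uv g + γ • rv y :=
  K.uv_eq (K.tr_off hy γ hg) (K.space.feet_tr hy γ (K.uv_spec g hg))

/-- The foot of `g` on the fibre of `w`. -/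
theorem Feet.comm_iff {g w : G} (hg : g ∈ off D x) (hw : w ∈ perp2 D x e) (α : F) :
    Commute g (lab w α) ↔ hermForm m F 2 (uv g) (rv w) = α :=
  ⟨fun h => K.space.lab_unique hg hw (K.uv_spec g hg w hw) h, fun h => h ▸ K.uv_spec g hg w hw⟩

/-- Members with the same feet do not commute. -/
theorem Feet.not_commute {g h : G} (hg : g ∈ off D x) (hh : h ∈ off D x) (hne : g ≠ h)
    (he : uv g = uv h) : ¬ Commute g h := by
  intro hc
  have C := K.space.chart
  have L := C.lines
  have hn : h ∈ nbr D g := ⟨hh.1, hne.symm, hc⟩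
  obtain ⟨q, hq, hxq⟩ := L.exists_foot hg.1 hn C.hx
  have hqx : q ≠ x := fun q' => hg.2 (by
    rw [← q']; exact line_commute hg.1 hh.1 hc hq (left_mem_line hg.1))
  obtain ⟨v, hv, hqv⟩ := C.exists_fib (⟨hq.1, hqx, hxq⟩ : q ∈ nbr D x)
  obtain ⟨w, hw, hwv⟩ := C.mate hv
  have ha := K.lab_mem w hw (hermForm m F 2 (uv g) (rv w))
  have hqa : Commute q (lab w (hermForm m F 2 (uv g) (rv w))) :=
    hq.2 _ ⟨ha.1.1, K.uv_spec g hg w hw, he ▸ K.uv_spec h hh w hw⟩
  exact hwv ((C.fib_comm_iff hw ha hv.1 hv.2.1).mp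
    ((C.fib_comm_iff hv hqv ha.1.1 (C.fib_nbr hw ha).2.2).mp hqa).symm)

/-- Every vector is a translation. -/
theorem Feet.exists_translation' (u : Fin m → F) :
    ∃ k : G, Commute k x ∧ (∀ h ∈ off D x, uv (k * h * k⁻¹) = uv h + u) ∧
      ∀ w ∈ perp2 D x e, ∀ α, k * lab w α * k⁻¹ = lab w (α + hermForm m F 2 u (rv w)) := by
  have L := K.space.chart.lines
  suffices H : ∀ c : F, ∃ k : G, Commute k x ∧ (∀ h ∈ off D x, uv (k * h * k⁻¹) = uv h + c • u) ∧
      ∀ w ∈ perp2 D x e, ∀ α, k * lab w α * k⁻¹ = lab w (α + hermForm m F 2 (c • u) (rv w)) by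
    simpa using H 1
  have hu : u ∈ Submodule.span F (rv '' perp2 D x e) := K.span_rv ▸ Submodule.mem_top
  induction hu using Submodule.span_induction with
  | mem v hv =>
    obtain ⟨y, hy, rfl⟩ := hv
    exact fun c => ⟨tr lab y c, K.tr_x hy c, fun h hh => K.uv_tr hy c hh, fun w hw α => by
      rw [K.tr_lab hy hw, herm_smul_left, K.herm_rv y hy w hw, mul_comm]⟩
  | zero => exact fun c => ⟨1, Commute.one_left x, fun h _ => by simp, fun w hw α => by
      simp [herm_zero_left]⟩
  | add a b _ _ ha hb =>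
    intro c
    obtain ⟨k, hk, hka, hka'⟩ := ha c
    obtain ⟨l, hl, hlb, hlb'⟩ := hb c
    refine ⟨k * l, hk.mul_left hl, fun h hh => ?_, fun w hw α => ?_⟩
    · rw [show k * l * h * (k * l)⁻¹ = k * (l * h * l⁻¹) * k⁻¹ by group,
        hka _ (off_conj L.closed hl hh), hlb h hh, smul_add]
      abel
    · rw [show k * l * lab w α * (k * l)⁻¹ = k * (l * lab w α * l⁻¹) * k⁻¹ by group,
        hlb' w hw, hka' w hw, smul_add, herm_add_left]
      congr 1
      ring
  | smul a v _ hv =>
    intro c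
    obtain ⟨k, hk, hkv, hkv'⟩ := hv (c * a)
    exact ⟨k, hk, fun h hh => by rw [hkv h hh, smul_smul], fun w hw α => by
      rw [hkv' w hw, smul_smul]⟩

theorem Feet.exists_translation (u : Fin m → F) :
    ∃ k : G, Commute k x ∧ ∀ h ∈ off D x, uv (k * h * k⁻¹) = uv h + u :=
  (K.exists_translation' u).imp fun _ h => ⟨h.1, h.2.1⟩

end CfsgLib.FischerO2
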