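import Cfsg.Agent.Lib.FischerO2.Lines

/-!
Lines of five points: for a non-commuting pair `x`, `e` the lines through `x` are indexed by the
common neighbours of `x` and `e`, and the three further points of each carry a coherent orientation.
This gives labels in the field with four elements and the scalars relating them.
-/

set_option autoImplicit false
set_option linter.style.haveILetI false

namespace CfsgLib.FischerO2

open Cfsg CfsgLib.ThreeTransp CfsgLib.ThreeTransp.StarPairs

attribute [local instance] _root_.Classical.propDecidable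

variable {G : Type*} [Group G] [Finite G] {D : Set G}

/-- The hypothesis: five points on each line. -/
structure Unit5 (D : Set G) : Prop extends Lines D where
  five_pts : ∀ x ∈ D, ∀ a ∈ nbr D x, (line D x a).ncard = 5

/-- A non-commuting pair of members. -/
structure Chart (D : Set G) (x e : G) : Prop extends Unit5 D where
  hx : x ∈ D
  he : e ∈ D
  hxe : ¬ Commute x e

/-- The points of the line through `x` and `w` other than `x`. -/
def fib (D : Set G) (x w : G) : Set G := {a | a ∈ line D x w ∧ a ≠ x}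

/-- Transport along the third point of `y` and `w`. -/
def io (y w a : G) : G := (y * w * y) * a * (y * w * y)

variable {x e : G} (C : Chart D x e)
include C

theorem Chart.lines : Lines D := C.toUnit5.toLines

theorem Chart.mem_nbr {w : G} (hw : w ∈ perp2 D x e) : w ∈ nbr D x :=
  ⟨hw.1, fun h => C.hxe (h ▸ hw.2.2).symm, hw.2.1⟩

theorem Chart.flip_mem {w v : G} (hw : w ∈ perp2 D x e) (hv : v ∈ perp2 D x e) :
    w * v * w ∈ perp2 D x e :=
  ⟨C.lines.cj_mem hw.1 hv.1, (hw.2.1.mul_right hv.2.1).mul_right hw.2.1,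
    (hw.2.2.mul_right hv.2.2).mul_right hw.2.2⟩

theorem Chart.fib_nbr {w a : G} (hw : w ∈ perp2 D x e) (ha : a ∈ fib D x w) : a ∈ nbr D x :=
  ⟨ha.1.1, ha.2, line_commute C.hx hw.1 hw.2.1 (left_mem_line C.hx) ha.1⟩

theorem Chart.self_fib {w : G} (hw : w ∈ perp2 D x e) : w ∈ fib D x w :=
  ⟨right_mem_line hw.1, (C.mem_nbr hw).2.1⟩

theorem Chart.fib_line {w a : G} (hw : w ∈ perp2 D x e) (ha : a ∈ fib D x w) :
    line D x a = line D x w :=
  C.lines.line_eq C.hx (C.mem_nbr hw) (left_mem_line C.hx) ha.1 ha.2.symm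

theorem Chart.fib_comm_iff {w a y : G} (hw : w ∈ perp2 D x e) (ha : a ∈ fib D x w) (hy : y ∈ D)
    (hxy : Commute x y) : Commute a y ↔ Commute w y := by
  constructor <;> intro h
  · exact (C.lines.commute_all C.hx (C.mem_nbr hw) (left_mem_line C.hx) ha.1 ha.2.symm hy hxy.symm
      h.symm (right_mem_line hw.1)).symm
  · exact (C.lines.commute_all C.hx (C.mem_nbr hw) (left_mem_line C.hx) (right_mem_line hw.1)
      (C.mem_nbr hw).2.1.symm hy hxy.symm h.symm ha.1).symm

theorem Chart.fib_self_comm {w a : G} (hw : w ∈ perp2 D x e) (ha : a ∈ fib D x w) : Commute a w :=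
  line_commute C.hx hw.1 hw.2.1 ha.1 (right_mem_line hw.1)

theorem Chart.fib_e {w a : G} (hw : w ∈ perp2 D x e) (ha : a ∈ fib D x w) (h : Commute e a) :
    a = w :=
  C.lines.foot_unique C.hx (C.mem_nbr hw) C.he (fun h' => C.hxe h'.symm) ha.1 (right_mem_line hw.1)
    h hw.2.2

theorem Chart.fib_unique {w v a : G} (hw : w ∈ perp2 D x e) (hv : v ∈ perp2 D x e)
    (ha : a ∈ fib D x w) (hb : a ∈ fib D x v) : w = v := by
  refine C.fib_e hv ⟨?_, (C.mem_nbr hw).2.1⟩ hw.2.2
  rw [← C.fib_line hv hb, C.fib_line hw ha]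
  exact right_mem_line hw.1

theorem Chart.exists_fib {d : G} (hd : d ∈ nbr D x) : ∃ w ∈ perp2 D x e, d ∈ fib D x w := by
  obtain ⟨w, hw, hew⟩ := C.lines.exists_foot C.hx hd C.he
  have hwx : w ≠ x := fun h => C.hxe (h ▸ hew).symm
  refine ⟨w, ⟨hw.1, line_commute C.hx hd.1 hd.2.2 (left_mem_line C.hx) hw, hew⟩, ?_, hd.2.1⟩
  rw [C.lines.line_eq C.hx hd (left_mem_line C.hx) hw hwx.symm]
  exact right_mem_line hd.1

theorem Chart.fib_flip {g w a : G} (hg : g ∈ D) (hgx : Commute g x) (ha : a ∈ fib D x w) :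
    g * a * g ∈ fib D x (g * w * g) := by
  refine ⟨?_, C.lines.flip_ne hg hgx ha.2⟩
  have := C.lines.line_flip hg ha.1
  rwa [C.lines.flip_fix hg hgx] at this

theorem Chart.fib_ncard {w : G} (hw : w ∈ perp2 D x e) : (fib D x w).ncard = 4 := by
  have h : fib D x w = line D x w \ {x} := by ext a; simp [fib]
  rw [h, Set.ncard_sdiff_singleton_of_mem (left_mem_line C.hx),
    C.five_pts x C.hx w (C.mem_nbr hw)]

/-- Products of two fibre points. -/
theorem Chart.fib_prod {w v a b : G} (hw : w ∈ perp2 D x e) (hv : v ∈ perp2 D x e)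
    (ha : a ∈ fib D x w) (hb : b ∈ fib D x v) : a * b * a ∈ fib D x (w * v * w) := by
  refine ⟨?_, C.lines.flip_ne ha.1.1 (C.fib_nbr hw ha).2.2.symm hb.2⟩
  exact C.lines.move C.hx (C.mem_nbr hw) ha.1 ha.2 (C.mem_nbr hv) hb.1

omit C in
theorem mid (hS : IsThreeTranspositionSet D) {u a : G} (hu : u ∈ D) (ha : a ∈ D)
    (h : ¬ Commute u a) : a * (u * a * u) * a = u := by
  rw [ThreeTransp.braid hS hu ha h, conj_conj hS ha]

theorem Chart.io_swap {y w : G} (hy : y ∈ perp2 D x e) (hw : w ∈ perp2 D x e) (h : ¬ Commute y w) :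
    io y w y = w ∧ io y w w = y := by
  have e1 : (y * w * y) * w * (y * w * y) = y := by
    have := (C.lines.third_swap hy.1 hw.1 h).2.2
    exact this
  exact ⟨(C.lines.third_swap hy.1 hw.1 h).1, e1⟩

theorem Chart.io_mem {y w a : G} (hy : y ∈ perp2 D x e) (hw : w ∈ perp2 D x e) (h : ¬ Commute y w)
    (ha : a ∈ fib D x y) : io y w a ∈ fib D x w := by
  have hu := C.flip_mem hy hw
  have := C.fib_flip hu.1 hu.2.1.symm ha
  rwa [show (y * w * y) * y * (y * w * y) = w from (C.io_swap hy hw h).1] at this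

theorem Chart.io_comm {y w : G} (hy : y ∈ perp2 D x e) (hw : w ∈ perp2 D x e) (h : ¬ Commute y w)
    (a : G) : io y w a = io w y a := by
  rw [io, io, C.lines.braid hy.1 hw.1 h]

theorem Chart.io_io {y w : G} (hy : y ∈ perp2 D x e) (hw : w ∈ perp2 D x e) (a : G) :
    io y w (io y w a) = a :=
  C.lines.flip_flip (C.flip_mem hy hw).1 a

theorem Chart.io_ne {y w a : G} (hy : y ∈ perp2 D x e) (hw : w ∈ perp2 D x e) (h : ¬ Commute y w)
    (ha : a ≠ y) : io y w a ≠ w := fun e' => ha (by
  rw [← C.io_io hy hw a, e', (C.io_swap hy hw h).2])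

/-- A translation moves the origin of a fibre to the transported point. -/
theorem Chart.shift {y w a : G} (hy : y ∈ perp2 D x e) (hw : w ∈ perp2 D x e) (h : ¬ Commute y w)
    (ha : a ∈ fib D x y) : y * (a * w * a) * y = io y w a := by
  have haw : ¬ Commute a w := fun h' => h ((C.fib_comm_iff hy ha hw.1 hw.2.1).mp h')
  rw [C.lines.braid ha.1.1 hw.1 haw]
  show _ = y * w * y * a * (y * w * y)
  rw [show y * w * y * a * (y * w * y) = y * w * (y * a * y) * w * y by group,
    C.lines.flip_fix hy.1 (C.fib_self_comm hy ha).symm]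
  group

/-- Transport round a triangle with a commuting diagonal is trivial. -/
theorem Chart.tri_id {p v z a : G} (hp : p ∈ perp2 D x e) (hv : v ∈ perp2 D x e)
    (hz : z ∈ perp2 D x e) (hvz : ¬ Commute v z) (hu : Commute p (v * z * v))
    (ha : a ∈ fib D x p) : io v z (io p v a) = io p z a := by
  have L := C.lines
  set u := v * z * v with hu'
  have huD := C.flip_mem hv hz
  have h1 : u * (p * v * p) * u = p * z * p := by
    calc u * (p * v * p) * u = (u * p) * v * (p * u) := by group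
      _ = (p * u) * v * (u * p) := by rw [hu.eq]
      _ = p * (u * v * u) * p := by group
      _ = p * z * p := by rw [show u * v * u = z from (C.io_swap hv hz hvz).1]
  have hau : Commute u a := ((C.fib_comm_iff hp ha huD.1 huD.2.1).mpr hu).symm
  show u * ((p * v * p) * a * (p * v * p)) * u = p * z * p * a * (p * z * p)
  rw [← h1]
  calc u * ((p * v * p) * a * (p * v * p)) * u
      = u * (p * v * p) * (u * a * u) * (p * v * p) * u := by
        rw [L.flip_fix huD.1 hau]; group
    _ = _ := by group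

/-- Transport round the other triangles moves every point. -/
theorem Chart.tri_free {p v z a : G} (hp : p ∈ perp2 D x e) (hv : v ∈ perp2 D x e)
    (hz : z ∈ perp2 D x e) (hpv : ¬ Commute p v) (hvz : ¬ Commute v z) (hpz : ¬ Commute p z)
    (hu : ¬ Commute p (v * z * v)) (ha : a ∈ fib D x p) (hap : a ≠ p) :
    io v z (io p v a) ≠ io p z a := by
  have L := C.lines
  intro heq
  set u := v * z * v with hu'
  have huD := C.flip_mem hv hz
  set b := io p v a with hb
  set d := io p z a with hd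
  have hbm := C.io_mem hp hv hpv ha
  have nc : ∀ {q a' r : G}, q ∈ perp2 D x e → a' ∈ fib D x q → r ∈ perp2 D x e →
      ¬ Commute q r → ¬ Commute r a' := fun hq ha' hr h h' =>
    h ((C.fib_comm_iff hq ha' hr.1 hr.2.1).mp h'.symm)
  have hnu : ∀ {q r : G}, q ∈ perp2 D x e → r ∈ perp2 D x e → ¬ Commute q r →
      ¬ Commute q (q * r * q) := fun {q r} hq hr h h' => h (by
    have := (L.commute_flip hq.1).mp h'.symm
    rw [L.sq hq.1, one_mul] at this
    exact this.symm)
  have m1 : a * b * a = p * v * p :=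
    mid L.set (C.flip_mem hp hv).1 ha.1.1 (nc hp ha (C.flip_mem hp hv) (hnu hp hv hpv))
  have m3 : a * d * a = p * z * p :=
    mid L.set (C.flip_mem hp hz).1 ha.1.1 (nc hp ha (C.flip_mem hp hz) (hnu hp hz hpz))
  have m2 : b * d * b = u := by
    rw [← heq]
    exact mid L.set huD.1 hbm.1.1 (nc hv hbm huD (hnu hv hz hvz))
  have h1 : a * u * a = p * u * p := by
    calc a * u * a = (a * b * a) * (a * d * a) * (a * b * a) := by
          rw [← m2, show a * b * a * (a * d * a) * (a * b * a) =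
            a * b * (a * a) * d * (a * a) * b * a by group, L.sq ha.1.1]
          group
      _ = p * v * (p * p) * z * (p * p) * v * p := by rw [m1, m3]; group
      _ = p * u * p := by rw [L.sq hp.1, hu']; group
  rw [L.braid ha.1.1 huD.1 fun h => nc hp ha huD hu h.symm, L.braid hp.1 huD.1 hu] at h1
  exact hap (mul_left_cancel (mul_right_cancel h1))

theorem Chart.line_sub {p v r : G} (hp : p ∈ perp2 D x e) (hv : v ∈ perp2 D x e)
    (hpv : Commute p v) (hr : r ∈ line D p v) : r ∈ perp2 D x e :=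
  ⟨hr.1, (hr.2 x ⟨C.hx, hp.2.1.symm, hv.2.1.symm⟩).symm,
    (hr.2 e ⟨C.he, hp.2.2.symm, hv.2.2.symm⟩).symm⟩

/-- A line meets a fibre at most once, unless it is that fibre. -/
theorem Chart.line_fib {w v b q q' : G} (hw : w ∈ perp2 D x e) (hv : v ∈ perp2 D x e) (hwv : w ≠ v)
    (hb : b ∈ fib D x w) {k : G} (hk : k ∈ nbr D b) (hq : q ∈ line D b k) (hq' : q' ∈ line D b k)
    (hqv : q ∈ fib D x v) (hqv' : q' ∈ fib D x v) : q = q' := by
  have L := C.lines
  by_contra hne
  have h1 : line D b k = line D x v :=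
    (L.line_eq hb.1.1 hk hq hq' hne).symm.trans (L.line_eq C.hx (C.mem_nbr hv) hqv.1 hqv'.1 hne)
  have h2 : b ∈ fib D x v := ⟨h1 ▸ left_mem_line hb.1.1, hb.2⟩
  exact hwv (C.fib_unique hw hv hb h2)

/-- The line through the translates of two commuting common neighbours. -/
theorem Chart.shifted_line {p v z r a : G} (hp : p ∈ perp2 D x e) (hv : v ∈ perp2 D x e)
    (hz : z ∈ perp2 D x e) (hcpv : Commute p v) (hr : r ∈ line D p v) (hzp : ¬ Commute z p)
    (hzv : ¬ Commute z v) (hzr : Commute z r) (ha : a ∈ fib D x p) :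
    r ∈ line D a (io z v (io p z a)) := by
  have L := C.lines
  have hrD := C.line_sub hp hv hcpv hr
  set b := io p z a
  have hb : b ∈ fib D x z := C.io_mem hp hz (fun h => hzp h.symm) ha
  have h1 : z * (b * p * b) * z = a := by
    rw [C.shift hz hp hzp hb, C.io_comm hz hp hzp, C.io_io hp hz]
  have h2 := C.shift hz hv hzv hb
  have hzbr : z * (b * r * b) * z = r := by
    rw [L.flip_fix hb.1.1 ((C.fib_comm_iff hz hb hrD.1 hrD.2.1).mpr hzr), L.flip_fix hz.1 hzr]
  have := L.line_flip hz.1 (L.line_flip hb.1.1 hr)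
  rwa [h1, h2, hzbr] at this

/-- Two routes from `p` to a commuting `v` agree when they have the same foot, and differ
everywhere otherwise. -/
theorem Chart.quad {p v z z' a r r' : G} (hp : p ∈ perp2 D x e) (hv : v ∈ perp2 D x e)
    (hz : z ∈ perp2 D x e) (hz' : z' ∈ perp2 D x e) (hne : p ≠ v) (hcpv : Commute p v)
    (hr : r ∈ line D p v) (hr' : r' ∈ line D p v) (hzp : ¬ Commute z p) (hzv : ¬ Commute z v)
    (hzr : Commute z r) (hz'p : ¬ Commute z' p) (hz'v : ¬ Commute z' v) (hz'r : Commute z' r')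
    (ha : a ∈ fib D x p) (hap : a ≠ p) :
    (r = r' → io z v (io p z a) = io z' v (io p z' a)) ∧
    (r ≠ r' → io z v (io p z a) ≠ io z' v (io p z' a)) := by
  have L := C.lines
  have hrD := C.line_sub hp hv hcpv hr
  have hl := C.shifted_line hp hv hz hcpv hr hzp hzv hzr ha
  have hl' := C.shifted_line hp hv hz' hcpv hr' hz'p hz'v hz'r ha
  set q := io z v (io p z a)
  set q' := io z' v (io p z' a)
  have hq : q ∈ fib D x v := C.io_mem hz hv hzv (C.io_mem hp hz (fun h => hzp h.symm) ha)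
  have hq' : q' ∈ fib D x v := C.io_mem hz' hv hz'v (C.io_mem hp hz' (fun h => hz'p h.symm) ha)
  have hn : ∀ {q : G}, q ∈ fib D x v → q ∈ nbr D a := fun {q} hq =>
    ⟨hq.1.1, fun h => hne (C.fib_unique hp hv ha (h ▸ hq)),
      (C.fib_comm_iff hp ha hq.1.1 (C.fib_nbr hv hq).2.2).mpr
        ((C.fib_comm_iff hv hq hp.1 hp.2.1).mpr hcpv.symm).symm⟩
  have har : a ≠ r := fun h => hap (C.fib_e hp ha (h ▸ hrD.2.2))
  refine ⟨fun h => ?_, fun h heq => ?_⟩
  · subst h
    refine C.line_fib hp hv hne ha (hn hq) (right_mem_line hq.1.1) ?_ hq hq'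
    rw [← L.line_eq ha.1.1 (hn hq) (left_mem_line ha.1.1) hl har,
      L.line_eq ha.1.1 (hn hq') (left_mem_line ha.1.1) hl' har]
    exact right_mem_line hq'.1.1
  · rw [← heq] at hl'
    have h1 : line D a q = line D p v :=
      (L.line_eq ha.1.1 (hn hq) hl hl' h).symm.trans
        (L.line_eq hp.1 ⟨hv.1, hne.symm, hcpv⟩ hr hr' h)
    have hal : a ∈ line D p v := h1 ▸ left_mem_line ha.1.1
    exact hap (C.fib_e hp ha (C.line_sub hp hv hcpv hal).2.2)

theorem Chart.mate {w : G} (hw : w ∈ perp2 D x e) : ∃ g ∈ perp2 D x e, ¬ Commute g w := by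
  have L := C.lines
  obtain ⟨d, hd, hxd, hwd⟩ := L.exists_sep C.hx hw.1 (C.mem_nbr hw).2.1.symm
  have hdn : d ∈ nbr D x := ⟨hd, fun h => hwd (h ▸ hw.2.1.symm), hxd⟩
  obtain ⟨v, hv, hdv⟩ := C.exists_fib hdn
  exact ⟨v, hv, fun h => hwd ((C.fib_comm_iff hv hdv hw.1 hw.2.1).mpr h).symm⟩

theorem Chart.mate₂ {p v : G} (hp : p ∈ perp2 D x e) (hv : v ∈ perp2 D x e) (hpv : Commute p v) :
    ∃ z ∈ perp2 D x e, ¬ Commute z p ∧ ¬ Commute z v := by
  have L := C.lines
  obtain ⟨g, hg, hgp⟩ := C.mate hp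
  by_cases hgv : Commute g v
  swap
  · exact ⟨g, hg, hgp, hgv⟩
  obtain ⟨g', hg', hg'v⟩ := C.mate hv
  by_cases hg'p : Commute g' p
  swap
  · exact ⟨g', hg', hg'p, hg'v⟩
  by_cases hgg : Commute g g'
  · have hne : g ≠ g' := fun h => hgp (h ▸ hg'p)
    have hn : g' ∈ nbr D g := ⟨hg'.1, hne.symm, hgg⟩
    obtain ⟨k, hk, hkg, hkg'⟩ := L.exists_third hg.1 hn
    refine ⟨k, C.line_sub hg hg' hgg hk, fun h => hgp ?_, fun h => hg'v ?_⟩
    · exact (L.commute_all hg.1 hn (right_mem_line hg'.1) hk hkg'.symm hp.1 hg'p.symm h.symm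
        (left_mem_line hg.1)).symm
    · exact (L.commute_all hg.1 hn (left_mem_line hg.1) hk hkg.symm hv.1 hgv.symm h.symm
        (right_mem_line hg'.1)).symm
  · refine ⟨g * g' * g, C.flip_mem hg hg', fun h => hgp ?_, fun h => hg'v ?_⟩
    · rw [L.braid hg.1 hg'.1 hgg, L.commute_flip hg'.1, L.flip_fix hg'.1 hg'p] at h
      exact h
    · rw [L.commute_flip hg.1, L.flip_fix hg.1 hgv] at h
      exact h

theorem Chart.mate₃ {p v v' : G} (hp : p ∈ perp2 D x e) (hv : v ∈ perp2 D x e)
    (hv' : v' ∈ perp2 D x e) (hpv : Commute p v) (hpv' : Commute p v') (hvv' : ¬ Commute v v') :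
    ∃ z ∈ perp2 D x e, ¬ Commute z p ∧ ¬ Commute z v ∧ ¬ Commute z v' := by
  have L := C.lines
  obtain ⟨z, hz, hzp, hzv⟩ := C.mate₂ hp hv hpv
  by_cases hzv' : Commute z v'
  swap
  · exact ⟨z, hz, hzp, hzv, hzv'⟩
  refine ⟨v * z * v, C.flip_mem hv hz, fun h => hzp ?_, fun h => hzv ?_, fun h => hzv ?_⟩
  · rw [L.commute_flip hv.1, L.flip_fix hv.1 hpv.symm] at h
    exact h
  · rw [L.commute_flip hv.1, L.sq hv.1, one_mul] at h
    exact h
  · rw [L.braid hv.1 hz.1 fun h' => hzv h'.symm, L.commute_flip hz.1, L.flip_fix hz.1 hzv'] at h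
    exact absurd h hvv'

end CfsgLib.FischerO2
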