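import Cfsg.Agent.Lib.FischerO2.Count

/-!
By induction on the class: exactly two members off `x` share their feet and every isotropic vector of
the row space is a multiple of a row.
-/

set_option autoImplicit false
set_option linter.style.haveILetI false

namespace CfsgLib.FischerO2

open Cfsg CfsgLib.ThreeTransp CfsgLib.ThreeTransp.StarPairs

attribute [local instance] _root_.Classical.propDecidable

/-- The size of the class is that of the transvections of a unitary group. -/
def Counts {G : Type*} [Group G] (D : Set G) (F : Type*) [Field F] [Fintype F] : Prop :=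
  ∃ n, 4 ≤ n ∧ 3 * D.ncard + 1 = zeroNorm n F ∧ ∀ a ∈ D, (off D a).ncard = 2 * 4 ^ (n - 2)

/-- The coordinates are those of a unitary group. -/
structure Tight {G : Type*} [Group G] {F : Type*} [Field F] [Fintype F] (D : Set G) (x e : G)
    (lab : G → F → G) (kap : G → G → F) (m : ℕ) (rv : G → Fin m → F)
    (uv : G → Fin m → F) : Prop extends Feet D x e lab kap m rv uv where
  two : {g | g ∈ off D x ∧ uv g = 0}.ncard = 2
  onto : ∀ u : Fin m → F, u ≠ 0 → hermForm m F 2 u u = 0 →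
    ∃ w ∈ perp2 D x e, ∃ c : F, c ≠ 0 ∧ u = c • rv w

section Arith

/-- The powers of three one more than a power of two. -/
theorem pow_three_eq {k m : ℕ} (h : 2 * 4 ^ m = 16 * (3 ^ k - 1)) (hk : 1 ≤ k) :
    (3 ^ k = 3 ∧ m = 2) ∨ (3 ^ k = 9 ∧ m = 3) := by
  have h3 : 3 ≤ 3 ^ k := Nat.le_self_pow (by omega) 3
  have hm : 2 ≤ m := by
    by_contra hlt
    interval_cases m <;> norm_num at h <;> omega
  obtain ⟨l, rfl⟩ := Nat.exists_eq_add_of_le hm
  have hl : 2 * 4 ^ l = 3 ^ k - 1 := by rw [pow_add] at h; omega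
  rcases Nat.eq_zero_or_pos l with rfl | hl0
  · exact Or.inl ⟨by omega, rfl⟩
  obtain ⟨j, rfl⟩ := Nat.exists_eq_add_of_le hl0
  have hmod : 3 ^ k % 8 = 1 := by
    rw [pow_add] at hl
    omega
  obtain ⟨i, rfl⟩ : ∃ i, k = 2 * i := by
    rcases Nat.even_or_odd k with ⟨i, hi⟩ | ⟨i, hi⟩
    · exact ⟨i, by omega⟩
    · exfalso
      rw [hi, pow_add, pow_mul, Nat.mul_mod, Nat.pow_mod] at hmod
      norm_num at hmod
  have hprod : (3 ^ i - 1) * (3 ^ i + 1) = 2 ^ (2 * j + 3) := by
    rw [pow_mul'] at hl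
    have h1 : 1 ≤ 3 ^ i := Nat.one_le_pow _ _ (by omega)
    obtain ⟨s, hs⟩ := Nat.exists_eq_add_of_le h1
    rw [hs] at hl ⊢
    rw [Nat.add_sub_cancel_left, pow_add, pow_mul]
    have : (1 + s) ^ 2 = 1 + (2 * s + s * s) := by ring
    rw [this, Nat.add_sub_cancel_left, pow_add] at hl
    norm_num
    nlinarith
  obtain ⟨a, -, ha⟩ := (Nat.dvd_prime_pow Nat.prime_two).mp (Dvd.intro _ hprod)
  obtain ⟨b, -, hb⟩ := (Nat.dvd_prime_pow Nat.prime_two).mp (Dvd.intro_left _ hprod)
  have hi : 1 ≤ i := by omega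
  have h9 : 3 ≤ 3 ^ i := Nat.le_self_pow (by omega) 3
  have hodd : 3 ^ i % 2 = 1 := by rw [Nat.pow_mod]; norm_num
  have ha1 : a = 1 := by
    rcases a with _ | _ | a
    · omega
    · rfl
    · exfalso
      rcases b with _ | _ | b <;> simp [pow_succ] at hb <;> simp [pow_succ] at ha <;> omega
  subst ha1
  have hi3 : 3 ^ i = 3 := by omega
  have h81 : 3 ^ (2 * i) = 9 := by rw [pow_mul', hi3]; norm_num
  refine Or.inr ⟨h81, ?_⟩
  rw [h81, pow_add] at hl
  norm_num at hl
  rcases j with _ | j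
  · omega
  · rw [pow_succ] at hl; omega

end Arith

variable {G : Type*} [Group G] [Finite G] {D : Set G} {x e : G}
variable {F : Type*} [Field F] [Fintype F] {lab : G → F → G} {kap : G → G → F}
variable {m : ℕ} {rv : G → Fin m → F} {uv : G → Fin m → F}

theorem Chart.sub_data (C : Chart D x e) :
    (subD D x e).ncard = (perp2 D x e).ncard ∧
      ∀ w : Subgroup.closure (perp2 D x e), w ∈ subD D x e →
        (off (subD D x e) w).ncard = {v | v ∈ perp2 D x e ∧ ¬ Commute (w : G) v}.ncard := by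
  refine ⟨?_, fun w _ => ?_⟩
  · rw [← Set.ncard_image_of_injective (subD D x e) Subtype.val_injective]
    congr 1
    ext v
    exact ⟨fun ⟨z, hz, h⟩ => h ▸ hz, fun hv => ⟨⟨v, Subgroup.subset_closure hv⟩, hv, rfl⟩⟩
  · rw [← Set.ncard_image_of_injective (off (subD D x e) w) Subtype.val_injective]
    congr 1
    ext v
    constructor
    · rintro ⟨z, hz, rfl⟩
      exact ⟨hz.1, fun h => hz.2 (Subtype.ext h.eq)⟩
    · rintro ⟨hv, h⟩
      exact ⟨⟨v, Subgroup.subset_closure hv⟩, ⟨hv, fun q => h (congrArg Subtype.val q.eq)⟩, rfl⟩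

theorem Feet.tight (K : Feet D x e lab kap m rv uv)
    (IH : (∃ w ∈ perp2 D x e, ∃ v ∈ perp2 D x e, w ≠ v ∧ Commute w v) → Counts (subD D x e) F) :
    Tight D x e lab kap m rv uv ∧ 2 ≤ m ∧ 3 * (perp2 D x e).ncard + 1 = zeroNorm m F ∧
      ((∃ w ∈ perp2 D x e, ∃ v ∈ perp2 D x e, w ≠ v ∧ Commute w v) ∨ m ≤ 3) := by
  have C := K.space.chart
  have L := C.lines
  obtain ⟨p, hp⟩ := L.exists_common C.hx C.he C.hxe
  have hz := K.two_le
  set z := {g | g ∈ off D x ∧ uv g = 0}.ncard with hzdef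
  set d := (perp2 D x e).ncard with hd
  set A := {v | v ∈ perp2 D x e ∧ ¬ Commute p v}.ncard with hA
  have h1 : z * 4 ^ m = 16 * A := by rw [← K.off_ncard, K.off_ncard' hp]
  obtain ⟨hle, honto⟩ := K.space.zero_count
  suffices key : z = 2 ∧ 2 ≤ m ∧ 3 * d + 1 = zeroNorm m F ∧
      ((∃ w ∈ perp2 D x e, ∃ v ∈ perp2 D x e, w ≠ v ∧ Commute w v) ∨ m ≤ 3) by
    exact ⟨{ toFeet := K, two := key.1, onto := honto key.2.2.1.ge }, key.2⟩
  by_cases hrank : ∃ w ∈ perp2 D x e, ∃ v ∈ perp2 D x e, w ≠ v ∧ Commute w v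
  · obtain ⟨n, hn, hcard, hoff⟩ := IH hrank
    obtain ⟨hs1, hs2⟩ := C.sub_data
    rw [hs1] at hcard
    have hA2 : A = 2 * 4 ^ (n - 2) := by
      rw [hA, ← hoff ⟨p, Subgroup.subset_closure hp⟩ hp]
      exact (hs2 ⟨p, Subgroup.subset_closure hp⟩ hp).symm
    obtain ⟨l, rfl⟩ := Nat.exists_eq_add_of_le (show 2 ≤ n by omega)
    rw [hA2, Nat.add_sub_cancel_left] at h1
    have hmn : m ≤ 2 + l := by
      by_contra! hlt
      have : 4 ^ (2 + l + 1) ≤ 4 ^ m := Nat.pow_le_pow_right (by norm_num) hlt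
      rw [pow_succ, pow_add] at this
      nlinarith [Nat.one_le_pow l 4 (by norm_num)]
    have hnm : ¬ m < 2 + l := fun hlt => by
      rcases Nat.eq_zero_or_pos m with rfl | hm
      · have := zeroNorm_zero (F := F)
        have hdpos : 0 < d := (Set.ncard_pos (Set.toFinite _)).mpr ⟨p, hp⟩
        omega
      · have := zeroNorm_mono K.card hm hlt
        omega
    obtain rfl : m = 2 + l := by omega
    refine ⟨?_, by omega, hcard, Or.inl hrank⟩
    rw [pow_add] at h1
    have : z * 4 ^ l = 2 * 4 ^ l := by linarith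
    exact Nat.eq_of_mul_eq_mul_right (by positivity) this
  · push Not at hrank
    have hrank' : ∀ w ∈ perp2 D x e, ∀ v ∈ perp2 D x e, Commute w v → w = v :=
      fun w hw v hv hc => by_contra fun h => hrank w hw v hv h hc
    have h4 : z ≤ 4 := K.le_four hrank'
    have hAd : A = d - 1 := by
      rw [hA, hd, ← Set.ncard_sdiff_singleton_of_mem hp]
      congr 1
      ext v
      exact ⟨fun h => ⟨h.1, fun q => h.2 (q ▸ Commute.refl _)⟩,
        fun h => ⟨h.1, fun q => h.2 (hrank' p hp v h.1 q).symm⟩⟩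
    obtain ⟨k, hk⟩ := ncard_pow_three L.set (fun _ h => h.1) ⟨p, hp⟩
      (fun a ha b hb => C.flip_mem ha hb) hrank'
    obtain ⟨y, hy, hyp⟩ := C.mate hp
    have hd2 : 2 ≤ d :=
      (Set.one_lt_ncard (Set.toFinite _)).mpr ⟨p, hp, y, hy, fun h => hyp (h ▸ Commute.refl _)⟩
    rw [← hd] at hk
    have hk1 : 1 ≤ k := by
      rcases Nat.eq_zero_or_pos k with rfl | h
      · simp at hk; omega
      · exact h
    rw [hAd] at h1
    have hz2 : z = 2 := by
      obtain ⟨k', rfl⟩ := Nat.exists_eq_add_of_le hk1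
      rw [pow_add] at hk
      rw [hk] at h1
      have h4m : 4 ^ m % 3 = 1 := by rw [Nat.pow_mod]; norm_num
      have hK := Nat.one_le_pow k' 3 (by norm_num)
      norm_num at h1
      clear_value z
      interval_cases z <;> omega
    rw [hz2, hk] at h1
    obtain ⟨hz2', hz3⟩ := zeroNorm_small K.card
    rcases pow_three_eq h1 hk1 with ⟨e1, rfl⟩ | ⟨e1, rfl⟩
    · exact ⟨hz2, le_rfl, by rw [hk, e1, hz2'], Or.inr (by omega)⟩
    · exact ⟨hz2, by omega, by rw [hk, e1, hz3], Or.inr le_rfl⟩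

theorem Tight.counts (T : Tight D x e lab kap m rv uv) (hm : 2 ≤ m)
    (h : 3 * (perp2 D x e).ncard + 1 = zeroNorm m F) : Counts D F := by
  have K := T.toFeet
  have C := K.space.chart
  have L := C.lines
  have hoff : (off D x).ncard = 2 * 4 ^ m := by rw [K.off_ncard, T.two]
  refine ⟨m + 2, by omega, ?_, fun a ha => ?_⟩
  · have hD : D = insert x (nbr D x ∪ off D x) := by
      ext g
      simp only [Set.mem_insert_iff, Set.mem_union]
      refine ⟨fun hg => ?_, fun hg => ?_⟩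
      · by_cases hgx : g = x
        · exact Or.inl hgx
        by_cases hc : Commute x g
        · exact Or.inr (Or.inl ⟨hg, hgx, hc⟩)
        · exact Or.inr (Or.inr ⟨hg, hc⟩)
      · rcases hg with rfl | hg | hg
        exacts [C.hx, hg.1, hg.1]
    rw [hD, Set.ncard_insert_of_notMem (by
        rintro (h' | h')
        exacts [h'.2.1 rfl, h'.2 (Commute.refl x)]) (Set.toFinite _),
      Set.ncard_union_eq (Set.disjoint_left.mpr fun g h1 h2 => h2.2 h1.2.2) (Set.toFinite _)
        (Set.toFinite _), hoff, K.coord.nbr_ncard, zeroNorm_succ K.card, zeroNorm_succ K.card]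
    have hlt := zeroNorm_lt K.card (F := F) (show 1 ≤ m by omega)
    have hlt2 := zeroNorm_lt K.card (F := F) (show 1 ≤ m + 1 by omega)
    rw [zeroNorm_succ K.card] at hlt2
    rw [pow_succ] at hlt2 ⊢
    omega
  · rw [L.off_ncard_eq ha C.hx, hoff, Nat.add_sub_cancel]

universe u v

variable {F₀ : Type v} [Field F₀] [Fintype F₀]

theorem Unit5.exists_chart {G : Type u} [Group G] [Finite G] {D : Set G} (U : Unit5 D) :
    ∃ x e, Chart D x e := by
  obtain ⟨a, ha, b, hb, hne, -⟩ := U.wide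
  obtain ⟨z, hz, -, hbz⟩ := U.toLines.exists_sep ha hb hne
  exact ⟨b, z, { toUnit5 := U, hx := hb, he := hz, hxe := hbz }⟩

theorem Unit5.counts (hF : Fintype.card F₀ = 4) :
    ∀ (N : ℕ) {G : Type u} [Group G] [Finite G] {D : Set G},
      Unit5 D → D.ncard = N → Counts D F₀ := by
  intro N
  induction N using Nat.strong_induction_on with
  | _ N ih =>
    intro G _ _ D U hN
    obtain ⟨x, e, C⟩ := U.exists_chart
    obtain ⟨lab, kap, K⟩ := C.exists_coord (F := F₀) hF
    obtain ⟨m, rv, S⟩ := K.exists_space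
    obtain ⟨uv, Fe⟩ := S.exists_feet
    obtain ⟨T, hm, h, -⟩ := Fe.tight fun hrank => ih _ (by
      rw [← hN, C.sub_data.1]
      exact Set.ncard_lt_ncard ⟨fun _ h => h.1, fun hsub => C.hxe (hsub C.hx).2.2.symm⟩
        (Set.toFinite _)) (C.sub_unit hrank) rfl
    exact T.counts hm h

/-- Every pair of non-commuting members has tight coordinates. -/
theorem Chart.exists_tight {G : Type u} [Group G] [Finite G] {D : Set G} {x e : G}
    (C : Chart D x e) (hF : Fintype.card F₀ = 4) :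
    ∃ (lab : G → F₀ → G) (kap : G → G → F₀) (m : ℕ) (rv : G → Fin m → F₀) (uv : G → Fin m → F₀),
      Tight D x e lab kap m rv uv ∧ 2 ≤ m := by
  obtain ⟨lab, kap, K⟩ := C.exists_coord (F := F₀) hF
  obtain ⟨m, rv, S⟩ := K.exists_space
  obtain ⟨uv, Fe⟩ := S.exists_feet
  obtain ⟨T, hm, -⟩ := Fe.tight fun hrank => Unit5.counts hF _ (C.sub_unit hrank) rfl
  exact ⟨lab, kap, m, rv, uv, T, hm⟩

/-- A member commuting with all common neighbours of `x` and `e` and not with `x`. -/
theorem Chart.off_perp {G : Type u} [Group G] [Finite G] {D : Set G} {x e g : G}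
    (C : Chart D x e) (hF : Fintype.card F₀ = 4) (hg : g ∈ off D x)
    (h : ∀ w ∈ perp2 D x e, Commute g w) : g = e ∨ g = x * e * x := by
  obtain ⟨lab, kap, m, rv, uv, T, -⟩ := C.exists_tight hF
  have K := T.toFeet
  have hsub : ({e, x * e * x} : Set G) ⊆ {g | g ∈ off D x ∧ uv g = 0} := by
    rintro q (rfl | rfl)
    · exact ⟨K.e_off, K.uv_zero K.e_off fun w hw => hw.2.2⟩
    · exact ⟨K.x_off K.e_off, by rw [K.uv_x K.e_off]; exact K.uv_zero K.e_off fun w hw => hw.2.2⟩
  have hne : e ≠ x * e * x := fun q => by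
    have hef := (C.lines.third_swap C.hx C.he C.hxe).2.1
    rw [← q, C.lines.sq C.he, one_mul] at hef
    exact C.hxe (hef ▸ Commute.refl _)
  have heq := Set.eq_of_subset_of_ncard_le hsub (by rw [T.two, Set.ncard_pair hne]) (Set.toFinite _)
  have hmem : g ∈ ({e, x * e * x} : Set G) := heq ▸ ⟨hg, K.uv_zero hg h⟩
  simpa using hmem

end CfsgLib.FischerO2
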