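import Cfsg.Agent.Lib.FischerO2.Ortho

/-!
The class is the set of isotropic points of a unitary space, commuting being orthogonality.
-/

set_option autoImplicit false
set_option linter.style.haveILetI false

namespace CfsgLib.FischerO2

open Cfsg CfsgLib.ThreeTransp CfsgLib.ThreeTransp.StarPairs

attribute [local instance] _root_.Classical.propDecidable

/-- Members as isotropic points, commuting as orthogonality. -/
structure IsPoints {G : Type*} [Group G] (D : Set G) {F : Type*} [Field F] [Fintype F] (n : ℕ)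
    (φ : G → Fin n → F) : Prop where
  ne_zero : ∀ a ∈ D, φ a ≠ 0
  iso : ∀ a ∈ D, hermForm n F 2 (φ a) (φ a) = 0
  comm : ∀ a ∈ D, ∀ b ∈ D, (Commute a b ↔ hermForm n F 2 (φ a) (φ b) = 0)
  inj : ∀ a ∈ D, ∀ b ∈ D, ∀ c : F, φ a = c • φ b → a = b
  surj : ∀ v : Fin n → F, v ≠ 0 → hermForm n F 2 v v = 0 →
    ∃ a ∈ D, ∃ c : F, c ≠ 0 ∧ v = c • φ a

variable {G : Type*} [Group G] [Finite G] {D : Set G} {x e : G}
variable {F : Type*} [Field F] [Fintype F] {lab : G → F → G} {kap : G → G → F}
variable {m : ℕ} {rv : G → Fin m → F} {uv : G → Fin m → F}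
variable (T : Tight D x e lab kap m rv uv)
variable {lam : G → F} (hlam : ∀ g ∈ off D x,
    (Commute g e → lam g = 0) ∧ (Commute g (x * e * x) → lam g = 1) ∧
    (¬ Commute g e → ¬ Commute g (x * e * x) → ∃ c : F, c ^ 2 + c + 1 = 0 ∧
      (x * e * x) * g * (x * e * x) ∈ off D x ∧
      uv ((x * e * x) * g * (x * e * x)) = c • uv g ∧ lam g = c ^ 2))
include T hlam

theorem Tight.comm_off {g h : G} (hg : g ∈ off D x) (hh : h ∈ off D x) :
    Commute g h ↔ lam g + lam h ^ 2 + hermForm m F 2 (uv g) (uv h) = 0 := by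
  have K := T.feet
  have C := K.space.chart
  have L := C.lines
  have hF := K.card
  have h2 := F4.add_self hF (1 : F)
  have hng := T.lam_norm hlam hg
  rcases eq_or_ne g h with rfl | hne
  · exact ⟨fun _ => hng, fun _ => Commute.refl _⟩
  have val : ∀ {h' : G}, h' ∈ off D x → g ≠ h' → Commute g h' →
      lam g + lam h' ^ 2 + hermForm m F 2 (uv g) (uv h') = 0 := by
    intro h' hh' hne' hc
    obtain ⟨y, hy, a, hq⟩ := T.exists_q hg hh' hne' hc
    obtain ⟨γ, hγ, huh, hya⟩ := T.line_vec hg hh' hne' hc hy hq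
    rw [T.lam_line hlam hg hh' hne' hc hy hq huh hya hγ, huh, herm_add_right hF, herm_smul_right,
      hya, F4.add_sq hF, mul_pow, F4.sq_sq hF]
    linear_combination hng + γ ^ 2 * a * h2
  refine ⟨val hh hne, fun hH => ?_⟩
  have hnh := T.lam_norm hlam hh
  have hd : hermForm m F 2 (uv g + uv h) (uv g + uv h) = 0 := by
    have hsw := herm_swap hF (uv g) (uv h)
    have hH2 : (lam g + lam h ^ 2 + hermForm m F 2 (uv g) (uv h)) ^ 2 = 0 := by rw [hH]; ring
    rw [F4.add_sq hF, F4.add_sq hF, F4.sq_sq hF] at hH2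
    rw [herm_add_left, herm_add_right hF, herm_add_right hF, hsw]
    linear_combination hng + hnh + hH + hH2
      - (lam g + lam g ^ 2 + lam h + lam h ^ 2) * h2
  by_cases hz : uv g + uv h = 0
  · have heq : uv h = uv g := funext fun i => (F4.eq_of_add hF (congrFun hz i)).symm
    rcases T.pair hg hh heq with rfl | rfl
    · exact Commute.refl _
    · exfalso
      rw [K.uv_x hg, T.lam_x hlam hg, F4.add_sq hF] at hH
      exact one_ne_zero (α := F) (by linear_combination hH - hng)
  obtain ⟨y, hy, γ, hγ, hyeq⟩ := T.onto _ hz hd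
  have huh : uv h = uv g + γ • rv y := by
    rw [← hyeq, ← add_assoc]
    funext i
    simp only [Pi.add_apply]
    linear_combination (-uv g i) * h2
  -- the line through `g` and its point next to `x`
  set q := lab y (hermForm m F 2 (uv g) (rv y))
  have hqf := K.lab_mem y hy (hermForm m F 2 (uv g) (rv y))
  have hgq : Commute g q := (K.comm_iff hg hy _).mpr rfl
  have hqx : Commute x q := (C.fib_nbr hy hqf).2.2
  have hne_q : g ≠ q := fun q' => hg.2 (q' ▸ hqx)
  have hn : q ∈ nbr D g := ⟨hqf.1.1, hne_q.symm, hgq⟩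
  set S := line D g q \ {g, q}
  have hS : ∀ p ∈ S, p ∈ off D x ∧ g ≠ p ∧ Commute g p ∧ q ∈ line D g p := by
    rintro p ⟨hp, hpn⟩
    simp only [Set.mem_insert_iff, Set.mem_singleton_iff, not_or] at hpn
    refine ⟨⟨hp.1, fun hx' => hg.2 ?_⟩, Ne.symm hpn.1,
      line_commute hg.1 hn.1 hgq (left_mem_line hg.1) hp, ?_⟩
    · exact L.commute_all hg.1 hn (right_mem_line hn.1) hp (Ne.symm hpn.2) C.hx hqx hx'
        (left_mem_line hg.1)
    · rw [L.line_eq hg.1 hn (left_mem_line hg.1) hp (Ne.symm hpn.1)]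
      exact right_mem_line hn.1
  have hcard : S.ncard = 3 := by
    rw [Set.ncard_sdiff (by rintro p (rfl | rfl); exacts [left_mem_line hg.1, right_mem_line hn.1])
      (Set.toFinite _), C.five_pts g hg.1 q hn, Set.ncard_pair hne_q]
  set N : Set (Fin m → F) := (fun c : F => uv g + c • rv y) '' {c | c ≠ 0}
  have hsub : uv '' S ⊆ N := by
    rintro _ ⟨p, hp, rfl⟩
    obtain ⟨hpo, hgp, hc, hql⟩ := hS p hp
    obtain ⟨δ, hδ, hup, -⟩ := T.line_vec hg hpo hgp hc hy hql
    exact ⟨δ, hδ, hup.symm⟩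
  have hinj : Set.InjOn uv S := fun p hp p' hp' he' => by_contra fun hne' =>
    K.not_commute (hS p hp).1 (hS p' hp').1 hne' he'
      (line_commute hg.1 hn.1 hgq hp.1 hp'.1)
  have hN : N.ncard ≤ 3 := by
    refine (Set.ncard_image_le (Set.toFinite _)).trans (le_of_eq ?_)
    rw [← Nat.card_coe_set_eq]
    show Nat.card {c : F // c ≠ 0} = 3
    rw [Nat.card_eq_fintype_card, Fintype.card_subtype_compl, Fintype.card_subtype_eq, hF]
  have heq : uv '' S = N :=
    Set.eq_of_subset_of_ncard_le hsub (by rw [hinj.ncard_image, hcard]; exact hN) (Set.toFinite _)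
  obtain ⟨h', hh'S, hh'u⟩ : uv h ∈ uv '' S := heq ▸ ⟨γ, hγ, huh.symm⟩
  obtain ⟨hh'o, hgh', hc', -⟩ := hS h' hh'S
  rcases T.pair hh'o hh hh'u.symm with rfl | rfl
  · exact hc'
  · exfalso
    rw [K.uv_x hh'o, T.lam_x hlam hh'o, F4.add_sq hF] at hH
    exact one_ne_zero (α := F) (by linear_combination hH - val hh'o hgh' hc')

omit hlam in
theorem Tight.exists_points (hm : 2 ≤ m) :
    ∃ φ : G → Fin (m + 2) → F, IsPoints D (m + 2) φ := by
  have K := T.feet
  have C := K.space.chart
  have L := C.lines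
  have hF := K.card
  have h2 := F4.add_self hF (1 : F)
  obtain ⟨lam, hlam⟩ := T.exists_lam
  obtain ⟨w, hw⟩ := F4.exists_omega hF
  have hex : ∀ g : G, ∃ v : Fin (m + 2) → F, (g = x → v = emb w 1 0 0) ∧
      (∀ y ∈ perp2 D x e, ∀ a, g = lab y a → v = emb w (a ^ 2) 0 (rv y)) ∧
      (g ∈ off D x → v = emb w (lam g) 1 (uv g)) := by
    intro g
    by_cases hgx : g = x
    · refine ⟨emb w 1 0 0, fun _ => rfl, fun y hy a h => ?_,
        fun h => absurd (hgx ▸ Commute.refl g : Commute x g) h.2⟩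
      exact absurd (h.symm.trans hgx) (C.fib_nbr hy (K.lab_mem y hy a)).2.1
    by_cases hc : Commute x g
    · by_cases hp : ∃ y ∈ perp2 D x e, ∃ a, g = lab y a
      · obtain ⟨y, hy, a, rfl⟩ := hp
        refine ⟨emb w (a ^ 2) 0 (rv y), fun h => absurd h hgx, fun y' hy' a' h => ?_,
          fun h => absurd hc h.2⟩
        obtain ⟨rfl, rfl⟩ := K.coord.lab_pair_inj hy hy' h
        rfl
      · exact ⟨0, fun h => absurd h hgx, fun y hy a h => absurd ⟨y, hy, a, h⟩ hp,
          fun h => absurd hc h.2⟩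
    · exact ⟨emb w (lam g) 1 (uv g), fun h => absurd h hgx,
        fun y hy a h => absurd (h ▸ (C.fib_nbr hy (K.lab_mem y hy a)).2.2 : Commute x g) hc,
        fun _ => rfl⟩
  choose φ hφx hφp hφo using hex
  have cases3 : ∀ g ∈ D, g = x ∨ (∃ y ∈ perp2 D x e, ∃ a, g = lab y a) ∨ g ∈ off D x := by
    intro g hg
    by_cases hgx : g = x
    · exact Or.inl hgx
    by_cases hc : Commute x g
    · obtain ⟨y, hy, hgy⟩ := C.exists_fib (⟨hg, hgx, hc⟩ : g ∈ nbr D x)
      obtain ⟨a, ha⟩ := K.lab_surj y hy g hgy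
      exact Or.inr (Or.inl ⟨y, hy, a, ha.symm⟩)
    · exact Or.inr (Or.inr ⟨hg, hc⟩)
  have px : φ x = emb w 1 0 0 := hφx x rfl
  have pp : ∀ {y : G}, y ∈ perp2 D x e → ∀ a, φ (lab y a) = emb w (a ^ 2) 0 (rv y) :=
    fun hy a => hφp _ _ hy a rfl
  have po : ∀ {g : G}, g ∈ off D x → φ g = emb w (lam g) 1 (uv g) := fun hg => hφo _ hg
  have hF' := herm_emb (m := m) hF hw
  have iso : ∀ a ∈ D, hermForm (m + 2) F 2 (φ a) (φ a) = 0 := by
    intro g hg
    rcases cases3 g hg with rfl | ⟨y, hy, a, rfl⟩ | hgo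
    · rw [px, hF', herm_zero_left]; ring
    · rw [pp hy, hF', K.space.rv_self hy]; ring
    · rw [po hgo, hF']; linear_combination T.lam_norm hlam hgo
  have xp : ∀ y ∈ perp2 D x e, ∀ a, Commute x (lab y a) := fun y hy a =>
    (C.fib_nbr hy (K.lab_mem y hy a)).2.2
  have sym : ∀ u v : Fin (m + 2) → F, hermForm (m + 2) F 2 u v = 0 ↔ hermForm (m + 2) F 2 v u = 0 :=
    fun u v => by
      constructor <;> intro h <;> rw [herm_swap hF, h] <;> ring
  have op : ∀ g ∈ off D x, ∀ y ∈ perp2 D x e, ∀ a,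
      (Commute g (lab y a) ↔ hermForm (m + 2) F 2 (φ g) (φ (lab y a)) = 0) := by
    intro g hg y hy a
    rw [po hg, pp hy, hF', K.comm_iff hg hy, F4.sq_sq hF]
    constructor <;> intro h
    · rw [h]; linear_combination a * h2
    · exact F4.eq_of_add hF (by linear_combination h)
  refine ⟨φ, ⟨fun g hg h0 => ?_, iso, fun g hg h hh => ?_, fun g hg h hh c hc => ?_, fun v hv hv0 => ?_⟩⟩
  · rw [← emb_zero (w := w)] at h0
    rcases cases3 g hg with rfl | ⟨y, hy, a, rfl⟩ | hgo
    · rw [px] at h0; exact one_ne_zero (emb_inj hF hw h0).1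
    · rw [pp hy] at h0; exact K.space.rv_ne_zero hy (emb_inj hF hw h0).2.2
    · rw [po hgo] at h0; exact one_ne_zero (emb_inj hF hw h0).2.1
  · rcases cases3 g hg with rfl | ⟨y, hy, a, rfl⟩ | hgo <;>
      rcases cases3 h hh with rfl | ⟨y', hy', a', rfl⟩ | hho
    · exact ⟨fun _ => iso _ hg, fun _ => Commute.refl _⟩
    · refine iff_of_true (xp y' hy' a') ?_
      rw [px, pp hy', hF', herm_zero_left]; ring
    · refine iff_of_false hho.2 ?_
      rw [px, po hho, hF', herm_zero_left]; simp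
    · refine iff_of_true (xp y hy a).symm ?_
      rw [sym, px, pp hy, hF', herm_zero_left]; ring
    · rw [pp hy, pp hy', hF', K.herm_rv y hy y' hy', mul_comm (a ^ 2), zero_pow (by norm_num),
        zero_mul, zero_mul, zero_add, zero_add, K.kap_eq_zero y hy y' hy',
        K.lab_comm hy (K.lab_mem y' hy' a').1.1 (xp y' hy' a')]
      exact ⟨fun q => ((K.lab_comm hy' hy.1 hy.2.1 a').mp q.symm).symm,
        fun q => ((K.lab_comm hy' hy.1 hy.2.1 a').mpr q.symm).symm⟩
    · rw [sym, ← op h hho y hy a]; exact ⟨fun q => q.symm, fun q => q.symm⟩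
    · refine iff_of_false (fun q => hgo.2 q.symm) ?_
      rw [sym, px, po hgo, hF', herm_zero_left]; simp
    · exact op g hgo y' hy' a'
    · rw [po hgo, po hho, hF', T.comm_off hlam hgo hho]
      ring_nf
  · rcases cases3 g hg with rfl | ⟨y, hy, a, rfl⟩ | hgo <;>
      rcases cases3 h hh with rfl | ⟨y', hy', a', rfl⟩ | hho
    · rfl
    · rw [px, pp hy', emb_smul] at hc
      obtain ⟨h1, -, hu⟩ := emb_inj hF hw hc
      have hc0 : c = 0 := (smul_eq_zero.mp hu.symm).resolve_right (K.space.rv_ne_zero hy')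
      simp [hc0] at h1
    · rw [px, po hho, emb_smul] at hc
      obtain ⟨h1, hq, -⟩ := emb_inj hF hw hc
      rw [mul_one] at hq
      simp [← hq] at h1
    · rw [pp hy, px, emb_smul, smul_zero] at hc
      exact absurd (emb_inj hF hw hc).2.2 (K.space.rv_ne_zero hy)
    · rw [pp hy, pp hy', emb_smul] at hc
      obtain ⟨h1, -, hu⟩ := emb_inj hF hw hc
      obtain rfl : y = y' := K.space.rv_inj hy' hy hu
      have hc1 : c = 1 := smul_left_injective F (K.space.rv_ne_zero hy) (by simpa using hu.symm)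
      rw [hc1, one_mul] at h1
      have := congrArg (· ^ 2) h1
      simp only [F4.sq_sq hF] at this
      rw [this]
    · rw [pp hy, po hho, emb_smul] at hc
      obtain ⟨-, hq, hu⟩ := emb_inj hF hw hc
      rw [mul_one] at hq
      rw [← hq, zero_smul] at hu
      exact absurd hu (K.space.rv_ne_zero hy)
    · rw [po hgo, px, emb_smul, mul_zero] at hc
      exact absurd (emb_inj hF hw hc).2.1 one_ne_zero
    · rw [po hgo, pp hy', emb_smul, mul_zero] at hc
      exact absurd (emb_inj hF hw hc).2.1 one_ne_zero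
    · rw [po hgo, po hho, emb_smul, mul_one] at hc
      obtain ⟨h1, hq, hu⟩ := emb_inj hF hw hc
      rw [← hq, one_mul] at h1
      rw [← hq, one_smul] at hu
      rcases T.pair hho hgo hu with rfl | rfl
      · rfl
      · rw [T.lam_x hlam hho] at h1
        simp at h1
  · obtain ⟨p, q, u, rfl⟩ := emb_surj hF hw v
    rw [hF'] at hv0
    by_cases hq : q = 0
    · subst hq
      have hu0 : hermForm m F 2 u u = 0 := by simpa using hv0
      by_cases hu : u = 0
      · subst hu
        refine ⟨x, C.hx, p, fun hp => hv (by rw [hp, emb_zero]), ?_⟩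
        rw [px, emb_smul, mul_one, mul_zero, smul_zero]
      · obtain ⟨y, hy, c, hc, rfl⟩ := T.onto u hu hu0
        refine ⟨lab y ((p / c) ^ 2), (K.lab_mem y hy _).1.1, c, hc, ?_⟩
        rw [pp hy, emb_smul, mul_zero, F4.sq_sq hF, mul_div_cancel₀ _ hc]
    · have hne : {g | g ∈ off D x ∧ uv g = q⁻¹ • u}.Nonempty := by
        rw [← Set.ncard_pos (Set.toFinite _), K.fibre_ncard, T.two]; norm_num
      obtain ⟨g, hg, hgu⟩ := hne
      have hn := T.lam_norm hlam hg
      rw [hgu, herm_smul_left, herm_smul_right] at hn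
      have hq3 : q ^ 2 * q = 1 := by rw [← pow_succ]; exact F4.cube hF hq
      have hqi : q⁻¹ = q ^ 2 := inv_eq_of_mul_eq_one_left hq3
      rw [hqi, F4.sq_sq hF] at hn
      have hs : (p * q ^ 2 + lam g) + (p * q ^ 2 + lam g) ^ 2 = 0 := by
        rw [F4.add_sq hF, mul_pow, F4.sq_sq hF]
        linear_combination hv0 + hn - hermForm m F 2 u u * hq3 - hermForm m F 2 u u * h2
      have hsm : ∀ g' ∈ off D x, uv g' = q⁻¹ • u → lam g' = p * q ^ 2 →
          emb w p q u = q • φ g' := by
        intro g' hg' hu' hl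
        rw [po hg', emb_smul, hu', hl, smul_smul, mul_inv_cancel₀ hq, one_smul, mul_one]
        congr 1
        linear_combination -p * hq3
      rcases F4.self_conj hF hs with h | h
      · exact ⟨g, hg.1, q, hq, hsm g hg hgu (F4.eq_of_add hF h).symm⟩
      · exact ⟨x * g * x, (K.x_off hg).1, q, hq, hsm _ (K.x_off hg) ((K.uv_x hg).trans hgu) (by
          rw [T.lam_x hlam hg]; linear_combination -h + lam g * h2)⟩

end CfsgLib.FischerO2
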