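import Mathlib
import Cfsg.Agent.Lib.ThreeTransp.StarPairs

/-!
A primitive class of 3-transpositions in which some commuting pair `x`, `a` has a third member
commuting with the same members of `nbr D x` as `a`: the double perps of commuting pairs are lines,
every further member commutes with one or all of the points of a line, and lines have three or five
points.
-/

set_option autoImplicit false
set_option linter.style.haveILetI false

namespace CfsgLib.FischerO2

open Cfsg CfsgLib.ThreeTransp CfsgLib.ThreeTransp.StarPairs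

variable {G : Type*} [Group G] {D : Set G}

/-- The hypotheses. -/
structure Lines (D : Set G) : Prop where
  grp : IsThreeTranspositionGroup D
  prim : IsPrimitiveUnderConj D
  wide : ∃ a ∈ D, ∃ b ∈ D, a ≠ b ∧ Commute a b
  third : ∃ x ∈ D, ∃ a ∈ nbr D x, ∃ b ∈ nbr D x, a ≠ b ∧
    ∀ y ∈ nbr D x, (Commute a y ↔ Commute b y)

/-- The members commuting with both. -/
def perp2 (D : Set G) (x a : G) : Set G := {y | y ∈ D ∧ Commute x y ∧ Commute a y}

/-- The line through two commuting members. -/
def line (D : Set G) (x a : G) : Set G := {d | d ∈ D ∧ ∀ y ∈ perp2 D x a, Commute d y}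

theorem perp2_comm (x a : G) : perp2 D x a = perp2 D a x := by
  ext y; exact ⟨fun h => ⟨h.1, h.2.2, h.2.1⟩, fun h => ⟨h.1, h.2.2, h.2.1⟩⟩

theorem line_comm (x a : G) : line D x a = line D a x := by simp only [line, perp2_comm x a]

theorem left_mem_line {x a : G} (hx : x ∈ D) : x ∈ line D x a := ⟨hx, fun _ hy => hy.2.1⟩

theorem right_mem_line {x a : G} (ha : a ∈ D) : a ∈ line D x a := ⟨ha, fun _ hy => hy.2.2⟩

theorem left_mem_perp2 {x a : G} (hx : x ∈ D) (h : Commute x a) : x ∈ perp2 D x a :=
  ⟨hx, Commute.refl x, h.symm⟩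

theorem right_mem_perp2 {x a : G} (ha : a ∈ D) (h : Commute x a) : a ∈ perp2 D x a :=
  ⟨ha, h, Commute.refl a⟩

theorem line_commute {x a u v : G} (hx : x ∈ D) (ha : a ∈ D) (h : Commute x a)
    (hu : u ∈ line D x a) (hv : v ∈ line D x a) : Commute u v :=
  hu.2 v ⟨hv.1, (hv.2 x (left_mem_perp2 hx h)).symm, (hv.2 a (right_mem_perp2 ha h)).symm⟩

theorem perp2_image (hc : IsConjClosed D) (g x a : G) :
    perp2 D (g * x * g⁻¹) (g * a * g⁻¹) = (fun y => g * y * g⁻¹) '' perp2 D x a := by
  ext y
  constructor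
  · intro hy
    refine ⟨g⁻¹ * y * g⁻¹⁻¹, ⟨hc _ y hy.1, ?_, ?_⟩, by group⟩
    · simpa [mul_assoc] using (commute_conj (g := g⁻¹)).mpr hy.2.1
    · simpa [mul_assoc] using (commute_conj (g := g⁻¹)).mpr hy.2.2
  · rintro ⟨z, hz, rfl⟩
    exact ⟨hc g z hz.1, commute_conj.mpr hz.2.1, commute_conj.mpr hz.2.2⟩

theorem line_conj (hc : IsConjClosed D) (g : G) {x a u : G} (hu : u ∈ line D x a) :
    g * u * g⁻¹ ∈ line D (g * x * g⁻¹) (g * a * g⁻¹) := by
  refine ⟨hc g u hu.1, fun y hy => ?_⟩
  rw [perp2_image hc] at hy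
  obtain ⟨z, hz, rfl⟩ := hy
  exact commute_conj.mpr (hu.2 z hz)

theorem Lines.set (L : Lines D) : IsThreeTranspositionSet D := L.grp.1

theorem Lines.closed (L : Lines D) : IsConjClosed D := L.grp.2.1

theorem Lines.sq (L : Lines D) {a : G} (ha : a ∈ D) : a * a = 1 := mul_self_eq_one L.set ha

theorem Lines.inv (L : Lines D) {a : G} (ha : a ∈ D) : a⁻¹ = a := inv_eq_self L.set ha

theorem Lines.cj_mem (L : Lines D) {a b : G} (ha : a ∈ D) (hb : b ∈ D) : a * b * a ∈ D :=
  conj_mem L.set L.closed ha hb

theorem Lines.line_flip (L : Lines D) {g x a u : G} (hg : g ∈ D) (hu : u ∈ line D x a) :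
    g * u * g ∈ line D (g * x * g) (g * a * g) := by
  simpa only [conj_eq L.set hg] using line_conj L.closed g hu

theorem Lines.flip_fix (L : Lines D) {g y : G} (hg : g ∈ D) (h : Commute g y) : g * y * g = y :=
  conj_eq_of_commute L.set hg h

theorem Lines.flip_flip (L : Lines D) {g : G} (hg : g ∈ D) (y : G) : g * (g * y * g) * g = y :=
  conj_conj L.set hg y

theorem Lines.braid (L : Lines D) {a b : G} (ha : a ∈ D) (hb : b ∈ D) (h : ¬ Commute a b) :
    a * b * a = b * a * b :=
  ThreeTransp.braid L.set ha hb h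

/-- Conjugation by a member, read backwards. -/
theorem Lines.commute_flip (L : Lines D) {g a b : G} (hg : g ∈ D) :
    Commute (g * a * g) b ↔ Commute a (g * b * g) := by
  conv_lhs => rw [← L.flip_flip hg b]
  exact commute_conj_iff L.set hg a (g * b * g)

variable [Finite G]

theorem Lines.exists_map_pair (L : Lines D) {x a y c : G} (hx : x ∈ D) (ha : a ∈ nbr D x)
    (hy : y ∈ D) (hcy : c ∈ nbr D y) : ∃ g : G, g * x * g⁻¹ = y ∧ g * a * g⁻¹ = c := by
  obtain ⟨g, rfl⟩ := L.prim.1 x hx y hy
  have ha' := nbr_conj L.closed g ha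
  obtain ⟨k, hk, hkc⟩ := transitive_commute L.grp L.prim L.wide hy ha'.1 hcy.1 ha'.2.1 hcy.2.1
    ha'.2.2 hcy.2.2
  have hle : Subgroup.closure {z : G | z ∈ D ∧ z ≠ g * x * g⁻¹ ∧ Commute (g * x * g⁻¹) z} ≤
      Subgroup.centralizer ({g * x * g⁻¹} : Set G) :=
    (Subgroup.closure_le _).mpr fun z hz =>
      Subgroup.mem_centralizer_singleton_iff.mpr hz.2.2.symm.eq
  refine ⟨k * g, ?_, by rw [← hkc]; group⟩
  rw [show k * g * x * (k * g)⁻¹ = k * (g * x * g⁻¹) * k⁻¹ by group,
    Subgroup.mem_centralizer_singleton_iff.mp (hle hk), mul_inv_cancel_right]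

theorem Lines.exists_map_apair (L : Lines D) {x a y c : G} (hx : x ∈ D) (ha : a ∈ D)
    (hxa : ¬ Commute x a) (hy : y ∈ D) (hc : c ∈ D) (hyc : ¬ Commute y c) :
    ∃ g : G, g * x * g⁻¹ = y ∧ g * a * g⁻¹ = c := by
  obtain ⟨g, rfl⟩ := L.prim.1 x hx y hy
  obtain ⟨k, hk, hkc⟩ := transitive_not_commute L.grp L.prim L.wide hy (L.closed g a ha) hc
    (fun h => hxa (commute_conj.mp h)) hyc
  have hle : Subgroup.closure {z : G | z ∈ D ∧ Commute (g * x * g⁻¹) z} ≤
      Subgroup.centralizer ({g * x * g⁻¹} : Set G) :=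
    (Subgroup.closure_le _).mpr fun z hz =>
      Subgroup.mem_centralizer_singleton_iff.mpr hz.2.symm.eq
  refine ⟨k * g, ?_, by rw [← hkc]; group⟩
  rw [show k * g * x * (k * g)⁻¹ = k * (g * x * g⁻¹) * k⁻¹ by group,
    Subgroup.mem_centralizer_singleton_iff.mp (hle hk), mul_inv_cancel_right]

theorem Lines.perp2_ncard (L : Lines D) {x a y c : G} (hx : x ∈ D) (ha : a ∈ nbr D x)
    (hy : y ∈ D) (hcy : c ∈ nbr D y) : (perp2 D x a).ncard = (perp2 D y c).ncard := by
  obtain ⟨g, rfl, rfl⟩ := L.exists_map_pair hx ha hy hcy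
  rw [perp2_image L.closed, Set.ncard_image_of_injective _ (conj_injective g)]

theorem Lines.perp2_ncard' (L : Lines D) {x a y c : G} (hx : x ∈ D) (ha : a ∈ D)
    (hxa : ¬ Commute x a) (hy : y ∈ D) (hc : c ∈ D) (hyc : ¬ Commute y c) :
    (perp2 D x a).ncard = (perp2 D y c).ncard := by
  obtain ⟨g, rfl, rfl⟩ := L.exists_map_apair hx ha hxa hy hc hyc
  rw [perp2_image L.closed, Set.ncard_image_of_injective _ (conj_injective g)]

/-- Two points of a line span it. -/
theorem Lines.perp2_eq (L : Lines D) {x a u v : G} (hx : x ∈ D) (ha : a ∈ nbr D x)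
    (hu : u ∈ line D x a) (hv : v ∈ line D x a) (huv : u ≠ v) :
    perp2 D u v = perp2 D x a :=
  (Set.eq_of_subset_of_ncard_le
    (show perp2 D x a ⊆ perp2 D u v from fun y hy => ⟨hy.1, hu.2 y hy, hv.2 y hy⟩)
    (L.perp2_ncard hu.1 ⟨hv.1, huv.symm, line_commute hx ha.1 ha.2.2 hu hv⟩ hx ha).le
    (Set.toFinite _)).symm

theorem Lines.line_eq (L : Lines D) {x a u v : G} (hx : x ∈ D) (ha : a ∈ nbr D x)
    (hu : u ∈ line D x a) (hv : v ∈ line D x a) (huv : u ≠ v) :
    line D u v = line D x a := by
  simp only [line, L.perp2_eq hx ha hu hv huv]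

theorem Lines.exists_third (L : Lines D) {x a : G} (hx : x ∈ D) (ha : a ∈ nbr D x) :
    ∃ c ∈ line D x a, c ≠ x ∧ c ≠ a := by
  obtain ⟨x₀, hx₀, a₀, ha₀, b₀, hb₀, hne, hsame⟩ := L.third
  have hb : b₀ ∈ line D x₀ a₀ := by
    refine ⟨hb₀.1, fun y hy => ?_⟩
    rcases eq_or_ne y x₀ with rfl | hne'
    · exact hb₀.2.2.symm
    · exact (hsame y ⟨hy.1, hne', hy.2.1⟩).mp hy.2.2
  obtain ⟨g, rfl, rfl⟩ := L.exists_map_pair hx₀ ha₀ hx ha
  exact ⟨_, line_conj L.closed g hb, fun h => hb₀.2.1 (conj_injective g h),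
    fun h => hne (conj_injective g h).symm⟩

/-- A member commuting with two points of a line commutes with all of them. -/
theorem Lines.commute_all (L : Lines D) {x a u v y w : G} (hx : x ∈ D) (ha : a ∈ nbr D x)
    (hu : u ∈ line D x a) (hv : v ∈ line D x a) (huv : u ≠ v) (hy : y ∈ D) (hyu : Commute y u)
    (hyv : Commute y v) (hw : w ∈ line D x a) : Commute y w := by
  have h : y ∈ perp2 D u v := ⟨hy, hyu.symm, hyv.symm⟩
  rw [L.perp2_eq hx ha hu hv huv] at h
  exact (hw.2 y h).symm

/-- `d` and `d'` act in the same way on the lines through `x`. -/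
theorem Lines.block (L : Lines D) {x d d' y : G} (hx : x ∈ D) (hd : d ∈ nbr D x)
    (hd' : d' ∈ line D x d) (hd'x : d' ≠ x) (hy : y ∈ D) (hxy : Commute x y) :
    d' * y * d' ∈ line D x (d * y * d) := by
  have hxd' : Commute x d' := line_commute hx hd.1 hd.2.2 (left_mem_line hx) hd'
  have hxl : x ∈ line D x d := left_mem_line hx
  have hdl : d ∈ line D x d := right_mem_line hd.1
  refine ⟨L.cj_mem hd'.1 hy, fun z hz => ?_⟩
  by_cases hyd : Commute y d
  · have hyd' : Commute y d' := L.commute_all hx hd hxl hdl hd.2.1.symm hy hxy.symm hyd hd'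
    rw [L.flip_fix hd'.1 hyd'.symm]
    have := hz.2.2
    rwa [L.flip_fix hd.1 hyd.symm] at this
  · have h1 : Commute z (y * d * y) := by
      have := hz.2.2.symm
      rwa [L.braid hd.1 hy fun h => hyd h.symm] at this
    have h2 : Commute (y * z * y) d := (L.commute_flip hy).mpr h1
    have h3 : Commute (y * z * y) x := (L.commute_flip hy).mpr (by
      rw [L.flip_fix hy hxy.symm]; exact hz.2.1.symm)
    have h4 : Commute (y * z * y) d' :=
      L.commute_all hx hd hxl hdl hd.2.1.symm (L.cj_mem hy hz.1) h3 h2 hd'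
    have hyd' : ¬ Commute d' y := fun h =>
      hyd (L.commute_all hx hd hxl hd' hd'x.symm hy hxy.symm h.symm hdl)
    rw [L.braid hd'.1 hy hyd']
    exact ((L.commute_flip hy).mp h4).symm

omit [Finite G] in
theorem Lines.flip_ne (L : Lines D) {g x y : G} (hg : g ∈ D) (hgx : Commute g x) (hy : y ≠ x) :
    g * y * g ≠ x := by
  intro h
  apply hy
  rw [← L.flip_flip hg y, h, L.flip_fix hg hgx]

/-- Two non-commuting members have a common neighbour. -/
theorem Lines.exists_common (L : Lines D) {x e : G} (hx : x ∈ D) (he : e ∈ D)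
    (hxe : ¬ Commute x e) : (perp2 D x e).Nonempty := by
  by_contra hempty
  have key : ∀ p ∈ D, ∀ q ∈ D, ∀ r ∈ D, Commute p q → Commute q r → Commute p r := by
    intro p hp q hq r hr hpq hqr
    by_contra hpr
    apply hempty
    refine (Set.ncard_pos (Set.toFinite _)).mp ?_
    rw [L.perp2_ncard' hx he hxe hp hr hpr]
    exact (Set.ncard_pos (Set.toFinite _)).mpr ⟨q, hq, hpq, hqr.symm⟩
  set R : G → G → Prop := fun a b => a = b ∨ (a ∈ D ∧ b ∈ D ∧ Commute a b)
  have hR : IsInvariantEquiv D R :=
    { refl := fun a => Or.inl rfl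
      symm := fun {a b} h => h.elim (fun e => Or.inl e.symm) fun h =>
        Or.inr ⟨h.2.1, h.1, h.2.2.symm⟩
      trans := fun {a b c} h h' => by
        rcases h with rfl | h
        · exact h'
        rcases h' with rfl | h'
        · exact Or.inr h
        exact Or.inr ⟨h.1, h'.2.1, key a h.1 b h.2.1 c h'.2.1 h.2.2 h'.2.2⟩
      map := fun g {a b} h => h.elim (fun e => Or.inl (by rw [e])) fun h =>
        Or.inr ⟨L.closed g a h.1, L.closed g b h.2.1, commute_conj.mpr h.2.2⟩ }
  obtain ⟨a, ha, b, hb, hab, hcomm⟩ := L.wide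
  rcases eq_or_full_of_primitive L.closed L.prim hR ha with h | h
  · exact hab (h b hb (Or.inr ⟨ha, hb, hcomm⟩)).symm
  · have h1 := h x hx
    have h2 := h e he
    rcases hR.trans (hR.symm h1) h2 with h3 | h3
    · exact hxe (h3 ▸ Commute.refl x)
    · exact hxe h3.2.2

/-- If a line through `x` has no point commuting with `e`, its points commute with all members
commuting with `x` and `e`. -/
theorem Lines.none_commute (L : Lines D) {x a e : G} (hx : x ∈ D) (ha : a ∈ nbr D x) (he : e ∈ D)
    (hnone : ∀ u ∈ line D x a, ¬ Commute e u) {y : G} (hy : y ∈ perp2 D x e) : Commute y a := by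
  obtain ⟨c, hcl, hcx, hca⟩ := L.exists_third hx ha
  have hxl : x ∈ line D x a := left_mem_line hx
  have hal : a ∈ line D x a := right_mem_line ha.1
  have hex := hnone x hxl
  have hea := hnone a hal
  have hxc : Commute x c := line_commute hx ha.1 ha.2.2 hxl hcl
  have hac : Commute a c := line_commute hx ha.1 ha.2.2 hal hcl
  set P := x * e * x with hP
  set Q := a * e * a with hQ
  have hPD : P ∈ D := L.cj_mem hx he
  have hQD : Q ∈ D := L.cj_mem ha.1 he
  have hPa : ¬ Commute P a := fun h => hea (by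
    have := (L.commute_flip hx).mp h
    rwa [L.flip_fix hx ha.2.2] at this)
  have hPe : P = e * x * e := L.braid hx he fun h => hex h.symm
  have hQe : Q = e * a * e := L.braid ha.1 he fun h => hea h.symm
  have hQx : Q * x * Q = a * P * a := by
    rw [hQ, hPe, show a * e * a * x * (a * e * a) = a * e * (a * x * a) * e * a by group,
      L.flip_fix ha.1 ha.2.2.symm]
    group
  set g := P * Q with hg
  have hgi : g⁻¹ = Q * P := by rw [hg, mul_inv_rev, L.inv hPD, L.inv hQD]
  have hgx : g * x * g⁻¹ = a := by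
    rw [hgi, show g * x * (Q * P) = P * (Q * x * Q) * P by rw [hg]; group, hQx,
      L.braid ha.1 hPD fun h => hPa h.symm, L.flip_flip hPD]
  have hQa : Q * a * Q = e := by
    calc a * e * a * a * (a * e * a) = a * e * (a * a) * a * e * a := by group
      _ = a * (e * a * e) * a := by rw [L.sq ha.1]; group
      _ = e := by rw [← hQe, hQ, L.flip_flip ha.1]
  have hPee : P * e * P = x := by
    calc P * e * P = e * x * e * e * (e * x * e) := by rw [hPe]
      _ = e * x * (e * e) * e * x * e := by group
      _ = e * (x * e * x) * e := by rw [L.sq he]; group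
      _ = x := by rw [← hP, hPe, L.flip_flip he]
  have hga : g * a * g⁻¹ = x := by
    rw [hgi, show g * a * (Q * P) = P * (Q * a * Q) * P by rw [hg]; group, hQa, hPee]
  set k := x * a * c with hk
  have hkk : k * k = 1 := by
    rw [hk]
    calc x * a * c * (x * a * c) = x * a * (c * x) * a * c := by group
      _ = x * a * (x * c) * a * c := by rw [hxc.eq]
      _ = x * (a * x) * (c * a) * c := by group
      _ = x * (x * a) * (a * c) * c := by rw [ha.2.2.eq, hac.eq]
      _ = (x * x) * (a * a) * (c * c) := by group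
      _ = 1 := by rw [L.sq hx, L.sq ha.1, L.sq hcl.1, one_mul, one_mul]
  set h := g * c * g⁻¹ with hh
  have hhl : h ∈ line D x a := by
    have := line_conj L.closed g hcl
    rwa [hgx, hga, line_comm] at this
  have hxh : Commute x h := line_commute hx ha.1 ha.2.2 hxl hhl
  have hah : Commute a h := line_commute hx ha.1 ha.2.2 hal hhl
  have hch : Commute c h := line_commute hx ha.1 ha.2.2 hcl hhl
  have hk1 : h = x * (e * (k * e * k) * e) * x := by
    have e1 : k * e * k = (x * a * c) * e * (c * a * x) := by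
      rw [show k * e * k = k * e * k⁻¹ by rw [inv_eq_of_mul_eq_one_right hkk], hk, mul_inv_rev,
        mul_inv_rev, L.inv hx, L.inv ha.1, L.inv hcl.1]
      group
    rw [hh, hgi, hg, hP, hQ, e1]
    have e2 : c * e * c = e * c * e := L.braid hcl.1 he fun h => hnone c hcl h.symm
    calc x * e * x * (a * e * a) * c * (a * e * a * (x * e * x))
        = x * e * x * a * e * (a * c * a) * e * a * x * e * x := by group
      _ = x * e * x * a * (e * c * e) * a * x * e * x := by rw [L.flip_fix ha.1 hac]; group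
      _ = x * (e * ((x * a * c) * e * (c * a * x)) * e) * x := by rw [← e2]; group
  have hk2 : h = e * (k * e * k) * e := by
    conv_lhs => rw [← L.flip_fix hx hxh, hk1]
    rw [L.flip_flip hx]
  have hhe : h * e * h = k * e * k := by
    rw [L.braid hhl.1 he fun q => hnone h hhl q.symm]
    conv_lhs => rw [hk2]
    rw [L.flip_flip he]
  set p := k * h with hp
  have hpi : p⁻¹ = h * k := by rw [hp, mul_inv_rev, L.inv hhl.1, inv_eq_of_mul_eq_one_right hkk]
  have hpe : p * e * p⁻¹ = e := by
    rw [hpi, show p * e * (h * k) = k * (h * e * h) * k by rw [hp]; group, hhe,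
      show k * (k * e * k) * k = (k * k) * e * (k * k) by group, hkk, one_mul, mul_one]
  have hpx : p * x * p⁻¹ = x := by
    have : Commute p x := (((Commute.refl x).mul_right ha.2.2).mul_right hxc |>.mul_right hxh).symm
    rw [this.eq, mul_inv_cancel_right]
  have hhx : h ≠ x := by
    intro hh'
    have h1 : x * e * x = (a * c) * (x * e * x) * (a * c)⁻¹ := by
      conv_lhs => rw [← hh', hhe]
      rw [mul_inv_rev, L.inv ha.1, L.inv hcl.1, hk]
      calc x * a * c * e * (x * a * c) = x * (a * c) * e * ((x * a) * c) := by group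
        _ = x * (a * c) * e * ((a * x) * c) := by rw [ha.2.2.eq]
        _ = x * (a * c) * e * (a * (x * c)) := by group
        _ = x * (a * c) * e * (a * (c * x)) := by rw [hxc.eq]
        _ = (x * (a * c)) * e * ((c * a) * x) := by rw [← hac.eq]; group
        _ = ((a * c) * x) * e * (x * (c * a)) := by
            rw [(ha.2.2.mul_right hxc).eq, ((hxc.mul_right ha.2.2)).eq]
        _ = _ := by group
    have h2 : Commute (a * c) (x * e * x) := mul_inv_eq_iff_eq_mul.mp h1.symm
    have h3 := ((commute_mul_iff L.set ha.1 hcl.1 hPD hca.symm).mp h2.symm).1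
    exact hPa h3
  -- the image of `y`
  by_contra hya
  obtain ⟨hyD, hxy, hey⟩ := hy
  set w := p * y * p⁻¹ with hw
  have hwe : Commute e w := by rw [← hpe]; exact commute_conj.mpr hey
  have hwx : Commute x w := by rw [← hpx]; exact commute_conj.mpr hxy
  set z := a * y * a with hz
  have hzn : z ∈ nbr D x := by
    refine ⟨L.cj_mem ha.1 hyD, L.flip_ne ha.1 ha.2.2.symm fun h' => hya ?_, ?_⟩
    · rw [h']; exact ha.2.2
    · have := (commute_conj_iff L.set ha.1 x y).mpr hxy
      rwa [L.flip_fix ha.1 ha.2.2.symm] at this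
  have hyn : y ∈ nbr D x := ⟨hyD, fun h' => hya (h' ▸ ha.2.2), hxy⟩
  have hwl : w ∈ line D x z := by
    have s1 : h * y * h ∈ line D x z := L.block hx ha hhl hhx hyD hxy
    have s2 : c * (h * y * h) * c ∈ line D x (c * z * c) := by
      have := L.line_flip hcl.1 s1
      rwa [L.flip_fix hcl.1 hxc.symm] at this
    have s3 : c * z * c ∈ line D x y := by
      have := L.block hx ha hcl hcx hzn.1 hzn.2.2
      rwa [hz, L.flip_flip ha.1] at this
    have s4 : c * z * c ≠ x := L.flip_ne hcl.1 hxc.symm hzn.2.1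
    rw [L.line_eq hx hyn (left_mem_line hx) s3 s4.symm] at s2
    have s5 : a * (c * (h * y * h) * c) * a ∈ line D x z := by
      have := L.line_flip ha.1 s2
      rwa [L.flip_fix ha.1 ha.2.2.symm] at this
    have e1 : w = x * (a * (c * (h * y * h) * c) * a) * x := by
      rw [hw, hpi, hp, show k * h * y * (h * k) = k * (h * y * h) * k by group]
      conv_lhs => rw [show k * (h * y * h) * k = k * (h * y * h) * k⁻¹ by
        rw [inv_eq_of_mul_eq_one_right hkk]]
      rw [hk, mul_inv_rev, mul_inv_rev, L.inv hx, L.inv ha.1, L.inv hcl.1]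
      group
    rw [e1]
    have := L.line_flip hx s5
    rwa [mul_self_eq_one L.set hx, one_mul, L.flip_fix hx hzn.2.2] at this
  have hwne : w ≠ x := fun h' => hyn.2.1 (conj_injective p (h'.trans hpx.symm))
  have hzy : ¬ Commute z y := by
    intro h'
    rw [hz, L.braid ha.1 hyD fun q => hya q.symm] at h'
    refine hya ?_
    have h2 := (L.commute_flip hyD).mp h'
    rw [L.sq hyD, one_mul] at h2
    exact h2.symm
  have hlz : line D x w = line D x z := L.line_eq hx hzn (left_mem_line hx) hwl hwne.symm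
  have hwy : ¬ Commute w y := by
    intro h'
    refine hzy ?_
    have hzl : z ∈ line D x w := hlz.symm ▸ right_mem_line hzn.1
    exact hzl.2 y ⟨hyD, hxy, h'⟩
  have hwya : z * y * z = a := by
    rw [L.braid hzn.1 hyD hzy, hz, L.braid ha.1 hyD fun q => hya q.symm, L.flip_flip hyD]
  have hfin : w * y * w ∈ line D x a := hwya ▸ L.block hx hzn hwl hwne hyD hxy
  exact hnone _ hfin ((hwe.mul_right hey).mul_right hwe)

/-- Conjugation by two members of the class of `d` agree on the lines through `x`. -/
theorem Lines.move (L : Lines D) {x d d' y u : G} (hx : x ∈ D) (hd : d ∈ nbr D x)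
    (hd' : d' ∈ line D x d) (hd'x : d' ≠ x) (hy : y ∈ nbr D x) (hu : u ∈ line D x y) :
    d' * u * d' ∈ line D x (d * y * d) := by
  have hxd' : Commute x d' := line_commute hx hd.1 hd.2.2 (left_mem_line hx) hd'
  have h1 := L.line_flip hd'.1 hu
  rw [L.flip_fix hd'.1 hxd'.symm] at h1
  have h2 := L.block hx hd hd' hd'x hy.1 hy.2.2
  rwa [L.line_eq hx (nbr_flip_fix L.set L.closed hd hy) (left_mem_line hx) h2
    (L.flip_ne hd'.1 hxd'.symm hy.2.1).symm] at h1

/-- A member commutes with a point of every line. -/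
theorem Lines.exists_foot (L : Lines D) {x a e : G} (hx : x ∈ D) (ha : a ∈ nbr D x) (he : e ∈ D) :
    ∃ u ∈ line D x a, Commute e u := by
  by_cases hex : Commute e x
  · exact ⟨x, left_mem_line hx, hex⟩
  set R : Set G := {b | b ∈ nbr D x ∧ ∃ u ∈ line D x b, Commute e u}
  obtain ⟨y, hy⟩ := L.exists_common hx he fun h => hex h.symm
  have hy0 : y ∈ R := ⟨⟨hy.1, fun h => hex (h ▸ hy.2.2), hy.2.1⟩, y, right_mem_line hy.1, hy.2.2⟩
  have step : ∀ g ∈ nbr D x, ∀ b ∈ R, g * b * g ∈ R := by
    intro g hg b hb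
    by_cases hgb : Commute g b
    · rwa [L.flip_fix hg.1 hgb]
    obtain ⟨hbn, u, hu, heu⟩ := hb
    have hux : u ≠ x := fun h => hex (h ▸ heu)
    have hxu : Commute x u := line_commute hx hbn.1 hbn.2.2 (left_mem_line hx) hu
    obtain ⟨v, hv, hev⟩ : ∃ v ∈ line D x g, Commute e v := by
      by_contra! hnone
      have h1 := L.none_commute hx hg he hnone (y := u) ⟨hu.1, hxu, heu⟩
      exact hgb (L.commute_all hx hbn (left_mem_line hx) hu hux.symm hg.1 hg.2.2.symm h1.symm
        (right_mem_line hbn.1))
    have hvx : v ≠ x := fun h => hex (h ▸ hev)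
    exact ⟨nbr_flip_fix L.set L.closed hg hbn, v * u * v, L.move hx hg hv hvx hbn hu,
      (hev.mul_right heu).mul_right hev⟩
  obtain ⟨g, hg, hga⟩ := transitive_commute L.grp L.prim L.wide hx hy0.1.1 ha.1 hy0.1.2.1 ha.2.1
    hy0.1.2.2 ha.2.2
  have key : ∀ b ∈ R, g * b * g⁻¹ ∈ R := by
    clear hga
    induction hg using Subgroup.closure_induction'' with
    | mem p hp => intro b hb; rw [conj_eq L.set hp.1]; exact step p hp b hb
    | inv_mem p hp =>
      intro b hb; rw [inv_eq_self L.set hp.1, conj_eq L.set hp.1]; exact step p hp b hb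
    | one => intro b hb; simpa using hb
    | mul p q _ _ h1 h2 => intro b hb; simpa [mul_assoc] using h1 _ (h2 b hb)
  exact (hga ▸ key y hy0).2

/-- The point of a line commuting with a member off its centre is unique. -/
theorem Lines.foot_unique (L : Lines D) {x a e u v : G} (hx : x ∈ D) (ha : a ∈ nbr D x) (he : e ∈ D)
    (hex : ¬ Commute e x) (hu : u ∈ line D x a) (hv : v ∈ line D x a) (heu : Commute e u)
    (hev : Commute e v) : u = v :=
  by_contra fun h => hex (L.commute_all hx ha hu hv h he heu hev (left_mem_line hx))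

/-- The third point of a non-commuting pair exchanges them. -/
theorem Lines.third_swap (L : Lines D) {x e : G} (hx : x ∈ D) (he : e ∈ D) (h : ¬ Commute x e) :
    (x * e * x) * x * (x * e * x) = e ∧ e * (x * e * x) * e = x ∧
      (x * e * x) * e * (x * e * x) = x := by
  have h1 : (x * e * x) * x * (x * e * x) = e := by
    calc (x * e * x) * x * (x * e * x) = x * (e * (x * x) * x * e) * x := by
          rw [show x * e * x * x * (x * e * x) = x * (e * (x * x) * (x * e)) * x by group]; group
      _ = x * (e * x * e) * x := by rw [L.sq hx]; group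
      _ = e := by rw [← L.braid hx he h, L.flip_flip hx]
  refine ⟨h1, ?_, ?_⟩
  · rw [L.braid hx he h, L.flip_flip he]
  · conv_lhs => arg 1; arg 2; rw [← h1]
    rw [L.flip_flip (L.cj_mem hx he)]

/-- The members on a line through `e` correspond to those on the line through `x`. -/
theorem Lines.key (L : Lines D) {x e w a : G} (hx : x ∈ D) (he : e ∈ D) (h : ¬ Commute x e)
    (hw : w ∈ perp2 D x e) (ha : a ∈ line D x w) :
    (x * e * x) * a * (x * e * x) ∈ line D e w := by
  have h1 := L.line_flip (L.cj_mem hx he) ha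
  rwa [(L.third_swap hx he h).1, L.flip_fix (L.cj_mem hx he)
    ((hw.2.1.mul_left hw.2.2).mul_left hw.2.1)] at h1

/-- Two members with a common perp are equal. -/
theorem Lines.exists_sep (L : Lines D) {u v : G} (hu : u ∈ D) (hv : v ∈ D) (huv : u ≠ v) :
    ∃ z ∈ D, Commute u z ∧ ¬ Commute v z := by
  by_contra! hall
  set C : G → Set G := fun p => {z | z ∈ D ∧ Commute p z}
  have hsub : C u ⊆ C v := fun z hz => ⟨hz.1, hall z hz.1 hz.2⟩
  obtain ⟨g, hg⟩ := L.prim.1 u hu v hv
  have hle : (C v).ncard ≤ (C u).ncard := by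
    refine (Set.ncard_le_ncard ?_ (Set.toFinite _)).trans
      (Set.ncard_image_le (f := fun y => g * y * g⁻¹) (Set.toFinite _))
    intro z hz
    refine ⟨g⁻¹ * z * g⁻¹⁻¹, ⟨L.closed _ z hz.1, ?_⟩, by group⟩
    have := hz.2
    rw [← hg] at this
    simpa [mul_assoc] using (commute_conj (g := g⁻¹)).mpr this
  have heq := Set.eq_of_subset_of_ncard_le hsub hle (Set.toFinite _)
  have hperp : PerpEq D u v := fun z hz =>
    ⟨fun h => hall z hz h, fun h => ((Set.ext_iff.mp heq z).mpr ⟨hz, h⟩).2⟩
  rcases eq_or_full_of_primitive L.closed L.prim (perpEq_isInvariantEquiv L.closed) hu with h | h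
  · exact huv (h v hv hperp).symm
  · obtain ⟨hcls, hD2⟩ := class_of_primitive L.grp L.prim
    obtain ⟨z, hz, hne⟩ := exists_not_commute hcls hD2 hu
    exact hne ((h z hz u hu).mp (Commute.refl u)).symm

/-- The relation between the five points of a line. -/
theorem Lines.five (L : Lines D) {x e w a b : G} (hx : x ∈ D) (he : e ∈ D) (hxe : ¬ Commute x e)
    (hw : w ∈ perp2 D x e) (ha : a ∈ line D x w) (hb : b ∈ line D x w) (hax : a ≠ x) (haw : a ≠ w)
    (hbx : b ≠ x) (hbw : b ≠ w) (hab : a ≠ b) :
    ∃ c ∈ line D x w, c ≠ x ∧ c ≠ w ∧ c ≠ a ∧ c ≠ b ∧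
      a * ((x * e * x) * b * (x * e * x)) * a = e * c * e ∧
      x * a * b * c * w ∈ Subgroup.center G := by
  obtain ⟨hwD, hxw, hew⟩ := hw
  have hwx : w ≠ x := fun h => hxe (h ▸ hew).symm
  have hwn : w ∈ nbr D x := ⟨hwD, hwx, hxw⟩
  have hxl : x ∈ line D x w := left_mem_line hx
  have hwl : w ∈ line D x w := right_mem_line hwD
  have com : ∀ {p q : G}, p ∈ line D x w → q ∈ line D x w → Commute p q := fun hp hq =>
    line_commute hx hwD hxw hp hq
  have nce : ∀ {p : G}, p ∈ line D x w → p ≠ w → ¬ Commute e p := fun hp hpw h =>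
    hpw (L.foot_unique hx hwn he (fun h' => hxe h'.symm) hp hwl h hew)
  set f := x * e * x with hf
  have hfD : f ∈ D := L.cj_mem hx he
  obtain ⟨hfx, hef, -⟩ := L.third_swap hx he hxe
  have hfw : Commute f w := (hxw.mul_left hew).mul_left hxw
  set h := f * b * f with hh
  set g := a * h * a with hg
  have hhl : h ∈ line D e w := L.key hx he hxe ⟨hwD, hxw, hew⟩ hb
  have hfa : ¬ Commute f a := fun h' => nce ha haw (by
    have := (L.commute_flip hx).mp h'
    rwa [L.flip_fix hx (com hxl ha)] at this)
  have hen : e ∈ nbr D w := ⟨he, fun h' => hxe (h'.symm ▸ hxw), hew.symm⟩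
  have hgl : g ∈ line D f w := by
    have h1 := L.move hwD (d := x) (d' := a) ⟨hx, hwx.symm, hxw.symm⟩
      (by rwa [line_comm]) haw hen (line_comm e w ▸ hhl)
    rwa [line_comm w] at h1
  have hgw : g ≠ w := L.flip_ne ha.1 (com ha hwl) (fun h' => hbw (by
    rw [← L.flip_flip hfD b, ← hh, h', L.flip_fix hfD hfw]))
  set c := e * g * e with hc
  have hgc : g = e * c * e := (L.flip_flip he g).symm
  have hcl : c ∈ line D x w := by
    have h1 := L.line_flip he hgl
    rwa [hef, L.flip_fix he hew] at h1
  have hcw : c ≠ w := L.flip_ne he hew hgw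
  have hcx : c ≠ x := by
    intro h'
    have h1 : a * h * a = f := by rw [← hg, hgc, h', hf, L.braid hx he hxe]
    have h2 : f * b * f = f * a * f := by
      rw [← hh, ← L.flip_flip ha.1 h, h1, L.braid ha.1 hfD fun q => hfa q.symm]
    exact hab (mul_left_cancel (mul_right_cancel h2)).symm
  have hea := nce ha haw
  have heb := nce hb hbw
  have hca : c ≠ a := by
    intro h'
    have h1 : a * h * a = a * e * a := by rw [← hg, hgc, h', L.braid he ha.1 hea]
    have h2 : f * b * f = f * x * f := by rw [← hh, hfx]; exact mul_left_cancel (mul_right_cancel h1)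
    exact hbx (mul_left_cancel (mul_right_cancel h2))
  have hxa := com hxl ha
  have hxb := com hxl hb
  have habc := com ha hb
  have hcb : c ≠ b := by
    intro h'
    have h0 : h = x * (b * e * b) * x := by
      calc h = x * e * (x * b * x) * e * x := by rw [hh, hf]; group
        _ = x * (e * b * e) * x := by rw [L.flip_fix hx hxb]; group
        _ = x * (b * e * b) * x := by rw [L.braid he hb.1 heb]
    have h1 : (a * x) * (b * e * b) * (a * x)⁻¹ = b * e * b := by
      rw [mul_inv_rev, L.inv hx, L.inv ha.1, ← L.braid he hb.1 heb]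
      conv_rhs => rw [← h', ← hgc, hg, h0, ← L.braid he hb.1 heb]
      group
    have h2 : Commute (a * x) e := by
      have h3 : Commute (a * x) b := (habc).mul_left hxb
      have h4 := ((h3.mul_right (mul_inv_eq_iff_eq_mul.mp h1 : Commute _ _)).mul_right h3)
      rwa [show b * (b * e * b) * b = e from L.flip_flip hb.1 e] at h4
    exact hxe ((commute_mul_iff L.set ha.1 hx he hax).mp h2.symm).2.symm
  refine ⟨c, hcl, hcx, hcw, hca, hcb, hgc, ?_⟩
  set p := x * a * b * c * w with hp
  have hpi : p⁻¹ = w * c * b * a * x := by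
    rw [hp]
    simp only [mul_inv_rev, L.inv hx, L.inv ha.1, L.inv hb.1, L.inv hcl.1, L.inv hwD, mul_assoc]
  have pfix : ∀ {z : G}, Commute x z → Commute a z → Commute b z → Commute c z → Commute w z →
      Commute p z := fun h1 h2 h3 h4 h5 =>
    (((h1.mul_left h2).mul_left h3).mul_left h4).mul_left h5
  have hce : ¬ Commute c e := fun h' => nce hcl hcw h'.symm
  have hpe : Commute p e := by
    refine mul_inv_eq_iff_eq_mul.mp ?_
    have e1 : a * b * a * x * b = x := by
      calc a * b * a * x * b = a * (b * a) * (x * b) := by group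
        _ = a * (a * b) * (b * x) := by rw [habc.eq, hxb.eq]
        _ = (a * a) * (b * b) * x := by group
        _ = x := by rw [L.sq ha.1, L.sq hb.1, one_mul, one_mul]
    have e2 : b * x * a * b * a = x := by
      calc b * x * a * b * a = (b * x) * (a * b) * a := by group
        _ = (x * b) * (b * a) * a := by rw [habc.eq, hxb.eq]
        _ = x * (b * b) * (a * a) := by group
        _ = x := by rw [L.sq ha.1, L.sq hb.1, mul_one, mul_one]
    have hg2 : g = a * (x * b * e * b * x) * a := by
      rw [hg, hh, hf]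
      congr 2
      calc x * e * x * b * (x * e * x) = x * e * (x * b * x) * e * x := by group
        _ = x * (e * b * e) * x := by rw [L.flip_fix hx hxb]; group
        _ = _ := by rw [L.braid he hb.1 heb]; group
    calc p * e * p⁻¹ = x * a * b * (c * (w * e * w) * c) * b * a * x := by rw [hpi, hp]; group
      _ = x * a * b * g * b * a * x := by
          rw [L.flip_fix hwD hew.symm, L.braid hcl.1 he hce, ← hgc]
      _ = x * ((a * b * a * x * b) * e * (b * x * a * b * a)) * x := by rw [hg2]; group
      _ = e := by rw [e1, e2, L.flip_flip hx]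
  have hpx : Commute p x := pfix (Commute.refl x) (com ha hxl) (com hb hxl) (com hcl hxl) hxw.symm
  have hpD : ∀ y ∈ perp2 D x e, Commute p y := by
    intro y hy
    refine mul_inv_eq_iff_eq_mul.mp ?_
    have hyn : y ∈ nbr D x := ⟨hy.1, fun h' => hxe (h' ▸ hy.2.2).symm, hy.2.1⟩
    have han : a ∈ nbr D x := ⟨ha.1, hax, hxa⟩
    have hll : line D x a = line D x w := L.line_eq hx hwn hxl ha hax.symm
    have hz := nbr_flip_fix L.set L.closed han hyn
    have m1 : ∀ d ∈ line D x w, d ≠ x → ∀ u, u ∈ line D x y → d * u * d ∈ line D x (a * y * a) :=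
      fun d hd hdx u hu => L.move hx han (hll.symm ▸ hd) hdx hyn hu
    have m2 : ∀ d ∈ line D x w, d ≠ x → ∀ u, u ∈ line D x (a * y * a) → d * u * d ∈ line D x y := by
      intro d hd hdx u hu
      have := L.move hx han (hll.symm ▸ hd) hdx hz hu
      rwa [L.flip_flip ha.1] at this
    have h4 : a * (b * (c * (w * y * w) * c) * b) * a ∈ line D x y :=
      m2 a ha hax _ (m1 b hb hbx _ (m2 c hcl hcx _ (m1 w hwl hwx _ (right_mem_line hy.1))))
    have e3 : p * y * p⁻¹ = x * (a * (b * (c * (w * y * w) * c) * b) * a) * x := by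
      rw [hpi, hp]; group
    have h5 : p * y * p⁻¹ ∈ line D x y := by
      rw [e3]
      have := L.line_flip hx h4
      rwa [L.sq hx, one_mul, L.flip_fix hx hyn.2.2] at this
    refine L.foot_unique hx hyn he (fun h' => hxe h'.symm) h5 (right_mem_line hy.1) ?_ hy.2.2
    have := (commute_conj (g := p)).mpr hy.2.2
    rwa [hpe.eq, mul_inv_cancel_right] at this
  have hpn : ∀ d ∈ nbr D x, Commute p d := by
    intro d hd
    obtain ⟨y, hy, hey⟩ := L.exists_foot hx hd he
    have hyx : y ≠ x := fun h' => hxe (h' ▸ hey).symm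
    have hyn : y ∈ nbr D x :=
      ⟨hy.1, hyx, line_commute hx hd.1 hd.2.2
        (left_mem_line hx) hy⟩
    have hdl : d ∈ line D x y := by
      rw [L.line_eq hx hd (left_mem_line hx) hy hyx.symm]; exact right_mem_line hd.1
    by_cases hwy : Commute w y
    · have hdw : Commute d w :=
        (L.commute_all hx hyn (left_mem_line hx) (right_mem_line hy.1) hyx.symm hwD hxw.symm hwy hdl).symm
      have hc' : ∀ q ∈ line D x w, Commute q d := fun q hq =>
        (L.commute_all hx hwn hxl hwl hwx.symm hd.1 hd.2.2.symm hdw hq).symm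
      exact pfix (hc' _ hxl) (hc' _ ha) (hc' _ hb) (hc' _ hcl) (hc' _ hwl)
    · set u := w * y * w with hu
      have huD : u ∈ perp2 D x e :=
        ⟨L.cj_mem hwD hy.1, (hxw.mul_right hyn.2.2).mul_right hxw, (hew.mul_right hey).mul_right hew⟩
      have huy : u * y * u = w := by
        rw [hu, L.braid hwD hy.1 hwy, show y * w * y * y * (y * w * y) = y * w * (y * y) * y * w * y by
          group, L.sq hy.1, mul_one, show y * w * y * w * y = y * (w * y * w) * y by group,
          L.braid hwD hy.1 hwy, L.flip_flip hy.1]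
      have hd' : u * d * u ∈ line D x w := by
        have := L.line_flip huD.1 hdl
        rwa [L.flip_fix huD.1 huD.2.1.symm, huy] at this
      have h1 : Commute p (u * d * u) :=
        pfix (com hxl hd') (com ha hd') (com hb hd') (com hcl hd') (com hwl hd')
      have h2 := ((hpD u huD).mul_right h1).mul_right (hpD u huD)
      rwa [L.flip_flip huD.1] at h2
  have hle : ∀ z ∈ D, Commute p z := by
    intro z hz
    have hM : ∀ y, y ∈ D → Commute x y → Commute p y := fun y hy hxy => by
      rcases eq_or_ne y x with rfl | hne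
      · exact hpx
      · exact hpn y ⟨hy, hne, hxy⟩
    by_cases hxz : Commute x z
    · exact hM z hz hxz
    obtain ⟨k, hk, rfl⟩ := transitive_not_commute L.grp L.prim L.wide hx he hz hxe hxz
    have hpk : Commute p k := by
      refine Subgroup.mem_centralizer_singleton_iff.mp
        (?_ : k ∈ Subgroup.centralizer ({p} : Set G)) |>.symm
      refine (Subgroup.closure_le _).mpr (fun y hy => ?_) hk
      exact Subgroup.mem_centralizer_singleton_iff.mpr (hM y hy.1 hy.2).symm.eq
    exact (hpk.mul_right hpe).mul_right hpk.inv_right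
  refine le_center_of_forall L.grp.2.2 (H := Subgroup.zpowers p) (fun q hq z hz => ?_)
    (Subgroup.mem_zpowers p)
  obtain ⟨i, rfl⟩ := Subgroup.mem_zpowers_iff.mp hq
  exact (hle z hz).symm.zpow_right i

/-- A line has three or five points. -/
theorem Lines.line_ncard (L : Lines D) {x w : G} (hx : x ∈ D) (hw : w ∈ nbr D x) :
    (line D x w).ncard = 3 ∨ (line D x w).ncard = 5 := by
  classical
  obtain ⟨a, ha, hax, haw⟩ := L.exists_third hx hw
  have hxl : x ∈ line D x w := left_mem_line hx
  have hwl : w ∈ line D x w := right_mem_line hw.1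
  by_cases hthree : ∀ b ∈ line D x w, b = x ∨ b = w ∨ b = a
  · left
    rw [Set.ncard_eq_three]
    refine ⟨x, w, a, hw.2.1.symm, hax.symm, haw.symm, Set.Subset.antisymm (fun b hb => ?_) ?_⟩
    · simpa using hthree b hb
    · rintro b (rfl | rfl | rfl)
      exacts [hxl, hwl, ha]
  right
  push Not at hthree
  obtain ⟨b, hb, hbx, hbw, hba⟩ := hthree
  obtain ⟨e, he, hwe, hxe⟩ := L.exists_sep hw.1 hx hw.2.1
  have hwp : w ∈ perp2 D x e := ⟨hw.1, hw.2.2, hwe.symm⟩
  obtain ⟨c, hc, hcx, hcw, hca, hcb, -, hz⟩ :=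
    L.five hx he hxe hwp ha hb hax haw hbx hbw (Ne.symm hba)
  have com : ∀ {p q : G}, p ∈ line D x w → q ∈ line D x w → Commute p q := fun hp hq =>
    line_commute hx hw.1 hw.2.2 hp hq
  have hsub : line D x w = {x, w, a, b, c} := by
    refine Set.Subset.antisymm (fun d hd => ?_) ?_
    · by_contra hne
      simp only [Set.mem_insert_iff, Set.mem_singleton_iff, not_or] at hne
      obtain ⟨hdx, hdw, hda, hdb, hdc⟩ := hne
      obtain ⟨c', hc', hc'x, hc'w, hc'a, hc'd, -, hz'⟩ :=
        L.five hx he hxe hwp ha hd hax haw hdx hdw (Ne.symm hda)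
      -- `b * c * d * c'` is central
      have hq : b * c * d * c' ∈ Subgroup.center G := by
        have h1 : Commute (x * a) (b * c) :=
          ((com hxl hb).mul_left (com ha hb)).mul_right ((com hxl hc).mul_left (com ha hc))
        have h2 : Commute (x * a) (d * c') :=
          ((com hxl hd).mul_left (com ha hd)).mul_right ((com hxl hc').mul_left (com ha hc'))
        have h3 : Commute w (d * c') := (com hwl hd).mul_right (com hwl hc')
        have hww := L.sq hw.1
        have hxa : x * a * (x * a) = 1 := by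
          rw [show x * a * (x * a) = x * (a * x) * a by group, (com ha hxl).eq,
            show x * (x * a) * a = (x * x) * (a * a) by group, L.sq hx, L.sq ha.1, one_mul]
        have e1 : x * a * b * c * w * (x * a * d * c' * w) = b * c * d * c' := by
          calc x * a * b * c * w * (x * a * d * c' * w)
              = (x * a) * (b * c) * ((w * (x * a)) * (d * c')) * w := by group
            _ = (b * c) * (x * a) * (((x * a) * w) * (d * c')) * w := by
                rw [h1.eq, ((com hwl hxl).mul_right (com hwl ha)).eq]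
            _ = (b * c) * ((x * a) * (x * a)) * (w * (d * c')) * w := by group
            _ = (b * c) * ((d * c') * w) * w := by rw [hxa, h3.eq, mul_one]
            _ = b * c * d * c' * (w * w) := by group
            _ = b * c * d * c' := by rw [hww, mul_one]
        exact e1 ▸ mul_mem hz hz'
      have hcent : ∀ y : G, Commute y (b * c * d * c') := fun y => Subgroup.mem_center_iff.mp hq y
      have pair_false : ∀ p q, p ∈ line D x w → q ∈ line D x w → p ≠ q →
          (∀ y : G, Commute y (p * q)) → False := by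
        intro p q hp hq hpq hall
        obtain ⟨y, hy, hpy, hqy⟩ := L.exists_sep hp.1 hq.1 hpq
        exact hqy ((commute_mul_iff L.set hp.1 hq.1 hy hpq).mp (hall y)).2.symm
      have hc'b : c' ≠ b := by
        rintro rfl
        refine pair_false c d hc hd (Ne.symm hdc) fun y => ?_
        have h := hcent y
        rwa [show c' * c * d * c' = c' * (c * d) * c' by group, L.flip_fix hb.1
          ((com hb hc).mul_right (com hb hd))] at h
      have hc'c : c' ≠ c := by
        rintro rfl
        refine pair_false b d hb hd (Ne.symm hdb) fun y => ?_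
        have h := hcent y
        rwa [show b * c' * d * c' = b * (c' * d * c') by group,
          L.flip_fix hc.1 (com hc hd)] at h
      obtain ⟨y, hy, hc'y, hby⟩ := L.exists_sep hc'.1 hb.1 hc'b
      refine hby ?_
      have h1 : Commute y (b * c * d) := by
        have := (hcent y).mul_right hc'y.symm
        rwa [mul_assoc (b * c * d), L.sq hc'.1, mul_one] at this
      exact ((commute_mul_three_iff L.set hb.1 hc.1 hd.1 hy (Ne.symm hcb) (Ne.symm hdb)
        (Ne.symm hdc) (com hb hc) (com hb hd) (com hc hd)).mp h1).1.symm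
    · rintro d (rfl | rfl | rfl | rfl | rfl)
      exacts [hxl, hwl, ha, hb, hc]
  rw [hsub, Set.ncard_insert_of_notMem, Set.ncard_insert_of_notMem, Set.ncard_insert_of_notMem,
    Set.ncard_pair (Ne.symm hcb)]
  · simp [Ne.symm hba, Ne.symm hca]
  · simp [Ne.symm haw, Ne.symm hbw, Ne.symm hcw]
  · simp [hw.2.1.symm, hax.symm, hbx.symm, hcx.symm]

/-- All lines have the same number of points. -/
theorem Lines.line_ncard_eq (L : Lines D) {x a y c : G} (hx : x ∈ D) (ha : a ∈ nbr D x) (hy : y ∈ D)
    (hc : c ∈ nbr D y) : (line D x a).ncard = (line D y c).ncard := by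
  obtain ⟨g, rfl, rfl⟩ := L.exists_map_pair hx ha hy hc
  have h : line D (g * x * g⁻¹) (g * a * g⁻¹) = (fun u => g * u * g⁻¹) '' line D x a := by
    ext u
    refine ⟨fun hu => ⟨g⁻¹ * u * g⁻¹⁻¹, ?_, by group⟩, ?_⟩
    · simpa [mul_assoc] using line_conj L.closed g⁻¹ hu
    · rintro ⟨v, hv, rfl⟩
      exact line_conj L.closed g hv
  rw [h, Set.ncard_image_of_injective _ (conj_injective g)]

end CfsgLib.FischerO2
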