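import Cfsg.Agent.Lib.FischerO2.Points

/-!
Commuting is orthogonality: along a line the last coordinate changes linearly.
-/

set_option autoImplicit false
set_option linter.style.haveILetI false

namespace CfsgLib.FischerO2

open Cfsg CfsgLib.ThreeTransp CfsgLib.ThreeTransp.StarPairs

attribute [local instance] _root_.Classical.propDecidable

variable {G : Type*} [Group G] [Finite G] {D : Set G} {x e : G}
variable {F : Type*} [Field F] [Fintype F] {lab : G → F → G} {kap : G → G → F}
variable {m : ℕ} {rv : G → Fin m → F} {uv : G → Fin m → F}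
variable (T : Tight D x e lab kap m rv uv)
include T

theorem Tight.exists_q {g h : G} (hg : g ∈ off D x) (hh : h ∈ off D x) (hne : g ≠ h)
    (hc : Commute g h) : ∃ y ∈ perp2 D x e, ∃ a : F, lab y a ∈ line D g h := by
  have K := T.feet
  have C := K.space.chart
  have L := C.lines
  obtain ⟨q, hq, hxq⟩ := L.exists_foot hg.1 (⟨hh.1, hne.symm, hc⟩ : h ∈ nbr D g) C.hx
  have hqx : q ≠ x := fun q' => hg.2 (by
    rw [← q']; exact line_commute hg.1 hh.1 hc hq (left_mem_line hg.1))
  obtain ⟨y, hy, hqy⟩ := C.exists_fib (⟨hq.1, hqx, hxq⟩ : q ∈ nbr D x)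
  obtain ⟨a, ha⟩ := K.lab_surj y hy q hqy
  exact ⟨y, hy, a, ha ▸ hq⟩

/-- The vectors of the members on a line differ by multiples of the row of its point next to `x`. -/
theorem Tight.line_vec {g h y : G} {a : F} (hg : g ∈ off D x) (hh : h ∈ off D x) (hne : g ≠ h)
    (hc : Commute g h) (hy : y ∈ perp2 D x e) (hq : lab y a ∈ line D g h) :
    ∃ γ : F, γ ≠ 0 ∧ uv h = uv g + γ • rv y ∧ hermForm m F 2 (uv g) (rv y) = a := by
  have K := T.feet
  have C := K.space.chart
  have L := C.lines
  obtain ⟨hf, hf0, hfe, hfx, -, hfy⟩ := T.f_facts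
  have hgq : Commute g (lab y a) := line_commute hg.1 hh.1 hc (left_mem_line hg.1) hq
  have hya := (K.comm_iff hg hy a).mp hgq
  suffices H : ∃ γ : F, uv h = uv g + γ • rv y by
    obtain ⟨γ, hγ⟩ := H
    refine ⟨γ, fun h0 => K.not_commute hg hh hne ?_ hc, hγ, hya⟩
    rw [hγ, h0, zero_smul, add_zero]
  -- move `g` to the origin
  obtain ⟨k, hk, hku, hkl⟩ := K.exists_translation' (uv g)
  have hki : Commute k⁻¹ x := hk.inv_left
  set g₀ := k⁻¹ * g * k⁻¹⁻¹ with hg₀
  set h₀ := k⁻¹ * h * k⁻¹⁻¹ with hh₀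
  have hg₀o : g₀ ∈ off D x := off_conj L.closed hki hg
  have hh₀o : h₀ ∈ off D x := off_conj L.closed hki hh
  have hug : uv g₀ = 0 := by
    have := hku g₀ hg₀o
    rw [show k * g₀ * k⁻¹ = g by rw [hg₀]; group] at this
    simpa using this
  have huh : uv h = uv h₀ + uv g := by
    have := hku h₀ hh₀o
    rwa [show k * h₀ * k⁻¹ = h by rw [hh₀]; group] at this
  set q₀ := k⁻¹ * lab y a * k⁻¹⁻¹ with hq₀
  have hql : q₀ ∈ line D g₀ h₀ := line_conj L.closed k⁻¹ hq
  have hq0 : q₀ = y := by
    have := hkl y hy 0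
    rw [zero_add, hya, K.lab_zero y hy] at this
    rw [hq₀, ← this]
    group
  rw [hq0] at hql
  have hc₀ : Commute g₀ h₀ := commute_conj.mpr hc
  have hne₀ : g₀ ≠ h₀ := fun q => hne (conj_injective k⁻¹ q)
  have special : ∀ p ∈ off D x, Commute e p → p ≠ e → y ∈ line D e p →
      ∃ γ : F, uv p = γ • rv y := by
    intro p hp hep hpe hyl
    obtain ⟨y', hy', γ, hγ, hpeq, hup⟩ := T.comm_e hp hep.symm hpe
    refine ⟨γ, ?_⟩
    suffices y' = y by rw [hup, this]
    have hpl : p ∈ line D e y' := hpeq ▸ L.key C.hx C.he C.hxe hy' (K.lab_mem y' hy' γ).1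
    have hn : y' ∈ nbr D e := ⟨hy'.1, fun q => C.hxe (q ▸ hy'.2.1), hy'.2.2⟩
    have hey : line D e p = line D e y' :=
      L.line_eq C.he hn (left_mem_line C.he) hpl hpe.symm
    rw [hey] at hyl
    exact L.foot_unique C.he hn C.hx C.hxe (right_mem_line hy'.1) hyl hy'.2.1 hy.2.1
  rcases T.zero hg₀o hug with hge | hgf
  · rw [hge] at hql hc₀ hne₀
    obtain ⟨γ, hγ⟩ := special h₀ hh₀o hc₀ hne₀.symm hql
    exact ⟨γ, by rw [huh, hγ, add_comm]⟩
  · rw [hgf] at hql hc₀ hne₀
    have hxfx : x * (x * e * x) * x = e := L.flip_flip C.hx e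
    have h1 : Commute e (x * h₀ * x) := by
      rw [← hxfx]; exact (comm_flip_iff L C.hx).mpr hc₀
    have h2 : x * h₀ * x ≠ e := fun q => hne₀ (by
      rw [← L.flip_flip C.hx h₀, q])
    have h3 := L.line_flip C.hx hql
    rw [hxfx, L.flip_fix C.hx hy.2.1] at h3
    obtain ⟨γ, hγ⟩ := special _ (K.x_off hh₀o) h1 h2 h3
    rw [K.uv_x hh₀o] at hγ
    exact ⟨γ, by rw [huh, hγ, add_comm]⟩

/-- Two vectors, one of them anisotropic, are independent. -/
theorem Tight.indep {u : Fin m → F} {y : G} (hy : y ∈ perp2 D x e)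
    (hu : hermForm m F 2 u u ≠ 0) {a b : F} (h : a • u + b • rv y = 0) : a = 0 ∧ b = 0 := by
  have ha : a = 0 := by
    by_contra ha
    have hue : u = -(b / a) • rv y := by
      funext i
      have := congrFun h i
      simp only [Pi.add_apply, Pi.smul_apply, smul_eq_mul, Pi.zero_apply] at this
      show u i = -(b / a) * rv y i
      field_simp
      linear_combination this
    exact hu (by rw [hue, herm_smul_left, herm_smul_right, T.feet.space.rv_self hy, mul_zero, mul_zero])
  subst ha
  rw [zero_smul, zero_add] at h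
  exact ⟨rfl, (smul_eq_zero.mp h).resolve_right (T.feet.space.rv_ne_zero hy)⟩

variable {lam : G → F} (hlam : ∀ g ∈ off D x,
    (Commute g e → lam g = 0) ∧ (Commute g (x * e * x) → lam g = 1) ∧
    (¬ Commute g e → ¬ Commute g (x * e * x) → ∃ c : F, c ^ 2 + c + 1 = 0 ∧
      (x * e * x) * g * (x * e * x) ∈ off D x ∧
      uv ((x * e * x) * g * (x * e * x)) = c • uv g ∧ lam g = c ^ 2))
include hlam

theorem Tight.lam_norm {g : G} (hg : g ∈ off D x) :
    lam g + lam g ^ 2 + hermForm m F 2 (uv g) (uv g) = 0 := by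
  have hF := T.card
  by_cases he : Commute g e
  · rw [(hlam g hg).1 he, (T.iso_iff hg).mpr (Or.inl he)]; ring
  by_cases hf : Commute g (x * e * x)
  · rw [(hlam g hg).2.1 hf, (T.iso_iff hg).mpr (Or.inr hf), one_pow, add_zero, F4.add_self hF]
  obtain ⟨c, hc, -, -, hl⟩ := (hlam g hg).2.2 he hf
  have h1 : hermForm m F 2 (uv g) (uv g) = 1 := (herm_self_cases hF _).resolve_left fun h0 =>
    (T.iso_iff hg).mp h0 |>.elim he hf
  rw [h1, hl, F4.sq_sq hF]
  exact hc

theorem Tight.lam_x {g : G} (hg : g ∈ off D x) : lam (x * g * x) = lam g + 1 := by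
  have K := T.feet
  have L := T.lines
  have hF := T.card
  have hxg := K.x_off hg
  obtain ⟨hf, -, hfe, hfx, -, -⟩ := T.f_facts
  have hflip : ∀ {p : G}, Commute p e → Commute (x * p * x) (x * e * x) := fun h =>
    (comm_flip_iff L T.hx).mpr h
  by_cases he : Commute g e
  · rw [(hlam _ hxg).2.1 (hflip he), (hlam g hg).1 he, zero_add]
  by_cases hf' : Commute g (x * e * x)
  · rw [(hlam _ hxg).1 (T.flip_special hf'), (hlam g hg).2.1 hf', F4.add_self hF]
  have he' : ¬ Commute (x * g * x) e := fun h => hf' (by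
    have := hflip h; rwa [L.flip_flip T.hx] at this)
  have hf'' : ¬ Commute (x * g * x) (x * e * x) := fun h => he ((comm_flip_iff L T.hx).mp h)
  obtain ⟨c, hc, hg', hu, hl⟩ := (hlam g hg).2.2 he hf'
  obtain ⟨c', hc', hxg', hu', hl'⟩ := (hlam _ hxg).2.2 he' hf''
  rw [hl, hl']
  have hne : c ≠ c' := by
    rintro rfl
    rw [K.uv_x hg, ← hu] at hu'
    set f := x * e * x with hfdef
    rcases T.pair hg' hxg' hu' with h | h
    · exact T.x_ne hg (by
        have := congrArg (fun z => f * z * f) h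
        simp only [L.flip_flip hf.1] at this
        exact this.symm)
    · have h2 : f * (x * (f * g * f) * x) * f = x * g * x := by rw [← h, L.flip_flip hf.1]
      have h3 : x * f * x = e := L.flip_flip T.hx e
      have h4 : e * g * e = x * g * x := by
        have e1 : f * x * f = e := hfx
        calc e * g * e = (f * x * f) * g * (f * x * f) := by rw [e1]
          _ = f * (x * (f * g * f) * x) * f := by group
          _ = x * g * x := h2
      have h5 : Commute g (e * x) := by
        show g * (e * x) = e * x * g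
        calc g * (e * x) = (e * e) * g * e * x := by rw [L.sq T.he]; group
          _ = e * (e * g * e) * x := by group
          _ = e * (x * g * x) * x := by rw [h4]
          _ = e * x * g * (x * x) := by group
          _ = e * x * g := by rw [L.sq T.hx, mul_one]
      exact hg.2 ((commute_mul_iff L.set T.he T.hx hg.1 (fun q => T.hxe (q ▸ Commute.refl _))).mp
        h5).2.symm
  rw [F4.two_roots hF hc hc' hne, F4.add_sq hF, one_pow]

theorem Tight.lam_line_gen {g h y : G} {a γ : F} (hg : g ∈ off D x) (hge : ¬ Commute g e)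
    (hgf : ¬ Commute g (x * e * x)) (hh : h ∈ off D x) (hne : g ≠ h)
    (hc : Commute g h) (hy : y ∈ perp2 D x e) (hq : lab y a ∈ line D g h)
    (huh : uv h = uv g + γ • rv y) (hya : hermForm m F 2 (uv g) (rv y) = a) (hγ : γ ≠ 0) :
    lam h = lam g + γ * a ^ 2 := by
  have K := T.feet
  have C := K.space.chart
  have L := C.lines
  have hF := K.card
  have h2 := F4.add_self hF (1 : F)
  obtain ⟨hf, hf0, hfe, hfx, -, hfy⟩ := T.f_facts
  set f := x * e * x with hfdef
  set u := uv g with hu
  have hu0 : hermForm m F 2 u u ≠ 0 := fun h0 => ((T.iso_iff hg).mp h0).elim hge hgf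
  obtain ⟨c, hcr, hg', hug', hl⟩ := (hlam g hg).2.2 hge hgf
  have hc0 := (F4.root_ne hF hcr).1
  have hc3 := F4.cube hF hc0
  have hq' := K.lab_mem y hy a
  have hn : h ∈ nbr D g := ⟨hh.1, hne.symm, hc⟩
  have hgq : g ≠ lab y a := fun q => hg.2 (q ▸ (C.fib_nbr hy hq').2.2)
  have hql : line D g (lab y a) = line D g h := L.line_eq hg.1 hn (left_mem_line hg.1) hq hgq
  have hcq : Commute g (lab y a) := line_commute hg.1 hh.1 hc (left_mem_line hg.1) hq
  set g' := f * g * f with hg'def
  set h' := f * h * f with hh'def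
  have hg'h' : Commute g' h' := (comm_flip_iff L hf.1).mpr hc
  have hne' : g' ≠ h' := fun q => hne (by rw [← L.flip_flip hf.1 g, ← hg'def, q, L.flip_flip hf.1])
  have hh'e : ¬ Commute h e → h' ∈ off D x := fun he => ⟨L.cj_mem hf.1 hh.1, fun q => he (by
    have := (L.commute_flip hf.1).mp q.symm
    rwa [hfx] at this)⟩
  rcases eq_or_ne a 0 with rfl | ha
  · rw [K.lab_zero y hy] at hq hgq hcq
    have hhe : ¬ Commute h e := fun q => hge (L.commute_all hg.1 hn hq (right_mem_line hh.1)
      (fun q' => hh.2 (q' ▸ hy.2.1)) C.he hy.2.2 q.symm (left_mem_line hg.1)).symm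
    have hhf : ¬ Commute h f := fun q => hgf (L.commute_all hg.1 hn hq (right_mem_line hh.1)
      (fun q' => hh.2 (q' ▸ hy.2.1)) hf.1 (hfy y hy) q.symm (left_mem_line hg.1)).symm
    obtain ⟨c', hc'r, hh', huh', hl'⟩ := (hlam h hh).2.2 hhe hhf
    have hyl : y ∈ line D g' h' := by
      have := L.line_flip hf.1 hq
      rwa [L.flip_fix hf.1 (hfy y hy)] at this
    obtain ⟨δ, -, hδ, -⟩ := T.line_vec hg' hh' hne' hg'h' hy (a := 0) (by rwa [K.lab_zero y hy])
    rw [huh', hug', huh] at hδ
    have := T.indep hy hu0 (a := c' - c) (b := c' * γ - δ) (by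
      funext i
      have h' := congrFun hδ i
      simp only [Pi.add_apply, Pi.smul_apply, smul_eq_mul, Pi.zero_apply] at h' ⊢
      linear_combination h')
    rw [hl, hl', sub_eq_zero.mp this.1]
    ring
  obtain ⟨hb, hub, hbe⟩ := T.special_point hy ha
  set b := f * lab y a * f with hbdef
  have hg'b : Commute g' b := (comm_flip_iff L hf.1).mpr hcq
  have hne_b : g' ≠ b := fun q => hgq (by
    rw [← L.flip_flip hf.1 g, ← hg'def, q, hbdef, L.flip_flip hf.1])
  have hbn : b ∈ nbr D g' := ⟨hb.1, hne_b.symm, hg'b⟩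
  have hh'l : h' ∈ line D g' b := L.line_flip hf.1 (hql ▸ right_mem_line hh.1)
  by_cases hhe : Commute h e
  · have hhne : h ≠ e := by
      rintro rfl
      rw [K.uv_zero K.e_off fun _ hw => hw.2.2] at huh
      exact one_ne_zero (T.indep hy hu0 (a := 1) (b := γ) (by rw [one_smul, ← huh])).1
    obtain ⟨y', hy', δ, hδ, hheq, huh'⟩ := T.comm_e hh hhe hhne
    have hp : lab y' δ ∈ line D g' b := by
      rw [hh'def, hheq, L.flip_flip hf.1] at hh'l
      exact hh'l
    obtain ⟨s, hs, hsb, -⟩ := T.line_vec hg' hb hne_b hg'b hy' hp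
    rw [hub, hug'] at hsb
    rw [huh] at huh'
    have := T.indep hy hu0 (a := δ * c + s) (b := s * γ - δ * a) (by
      funext i
      have e1 := congrFun hsb i
      have e2 := congrFun huh' i
      simp only [Pi.add_apply, Pi.smul_apply, smul_eq_mul, Pi.zero_apply] at e1 e2 ⊢
      linear_combination s * e2 - δ * e1)
    obtain ⟨h1, h3⟩ := this
    have hs' : s = δ * c := F4.eq_of_add hF (by linear_combination h1)
    have hacg : a = c * γ := by
      refine mul_left_cancel₀ hδ ?_
      rw [hs'] at h3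
      linear_combination -h3
    rw [(hlam h hh).1 hhe, hl, hacg]
    have hγ3 := F4.cube hF hγ
    linear_combination -(c ^ 2) * hγ3 - c ^ 2 * h2
  · have hh' := hh'e hhe
    obtain ⟨y', hy', β, hqq⟩ := T.exists_q hg' hb hne_b hg'b
    have hll : line D g' h' = line D g' b := L.line_eq hg'.1 hbn (left_mem_line hg'.1) hh'l hne'
    obtain ⟨s, hs, hsb, -⟩ := T.line_vec hg' hb hne_b hg'b hy' hqq
    obtain ⟨s', hs', hsh, -⟩ := T.line_vec hg' hh' hne' hg'h' hy' (hll ▸ hqq)
    obtain ⟨c', huh', hl', hc'0⟩ : ∃ c' : F, uv h' = c' • uv h ∧ lam h = c' ^ 2 ∧ c' ≠ 0 := by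
      by_cases hhf : Commute h f
      · refine ⟨1, ?_, ?_, one_ne_zero⟩
        · rw [hh'def, L.flip_fix hf.1 hhf.symm, one_smul]
        · rw [(hlam h hh).2.1 hhf, one_pow]
      · obtain ⟨c', hc'r, -, huh', hl'⟩ := (hlam h hh).2.2 hhe hhf
        exact ⟨c', huh', hl', (F4.root_ne hF hc'r).1⟩
    rw [hub, hug'] at hsb
    rw [huh', huh, hug'] at hsh
    have := T.indep hy hu0 (a := s * (c' - c) + s' * c) (b := s * (c' * γ) - s' * a) (by
      funext i
      have e1 := congrFun hsb i
      have e2 := congrFun hsh i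
      simp only [Pi.add_apply, Pi.smul_apply, smul_eq_mul, Pi.zero_apply] at e1 e2 ⊢
      linear_combination s * e2 - s' * e1)
    obtain ⟨h1, h3⟩ := this
    have key : a * (c' + c) = c * c' * γ := by
      refine mul_left_cancel₀ hs ?_
      linear_combination a * h1 + c * h3 + s * a * c * h2 - s * c * c' * γ * h2
    rw [hl, hl']
    have ha3 := F4.cube hF ha
    have hc'3 := F4.cube hF hc'0
    linear_combination (c ^ 2 * c' ^ 2 * a ^ 2) * key - (c' ^ 3 * c ^ 2 + c ^ 3 * c' ^ 2) * ha3
      - c ^ 2 * hc'3 - c' ^ 2 * hc3 + γ * a ^ 2 * c' ^ 3 * hc3 + γ * a ^ 2 * hc'3 - c ^ 2 * h2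

/-- The last coordinate along a line. -/
theorem Tight.lam_line {g h y : G} {a γ : F} (hg : g ∈ off D x) (hh : h ∈ off D x) (hne : g ≠ h)
    (hc : Commute g h) (hy : y ∈ perp2 D x e) (hq : lab y a ∈ line D g h)
    (huh : uv h = uv g + γ • rv y) (hya : hermForm m F 2 (uv g) (rv y) = a) (hγ : γ ≠ 0) :
    lam h = lam g + γ * a ^ 2 := by
  have hF := T.card
  have h2 := F4.add_self hF (1 : F)
  have hry : hermForm m F 2 (rv y) (rv y) = 0 := T.feet.space.rv_self hy
  -- a pair with a special member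
  by_cases hge : Commute g e ∨ Commute g (x * e * x)
  swap
  · push Not at hge
    exact T.lam_line_gen hlam hg hge.1 hge.2 hh hne hc hy hq huh hya hγ
  by_cases hhe : Commute h e ∨ Commute h (x * e * x)
  swap
  · push Not at hhe
    have h1 : uv g = uv h + γ • rv y := by
      rw [huh]; funext i; simp only [Pi.add_apply]
      linear_combination -(γ • rv y) i * h2
    have h2' : hermForm m F 2 (uv h) (rv y) = a := by
      rw [huh, herm_add_left, herm_smul_left, hry, mul_zero, add_zero, hya]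
    have := T.lam_line_gen hlam hh hhe.1 hhe.2 hg hne.symm hc.symm hy (line_comm g h ▸ hq) h1 h2' hγ
    linear_combination -this - γ * a ^ 2 * h2
  -- two special members
  have hn : h ∈ nbr D g := ⟨hh.1, hne.symm, hc⟩
  have K := T.feet
  have C := K.space.chart
  have L := C.lines
  obtain ⟨hf, -, hfe, hfx, -, hfy⟩ := T.f_facts
  have hq' := K.lab_mem y hy a
  have hgq : g ≠ lab y a := fun q => hg.2 (q ▸ (C.fib_nbr hy hq').2.2)
  have hboth : ∀ {p : G}, p ∈ off D x → Commute p e → Commute p (x * e * x) → False := by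
    intro p hp h1 h2
    have := (h2.mul_right h1).mul_right h2
    rw [hfe] at this
    exact hp.2 this.symm
  have a0e : Commute e (lab y a) → a = 0 := fun h =>
    K.lab_inj y hy ((C.fib_e hy hq' h).trans (K.lab_zero y hy).symm)
  have a0f : Commute (x * e * x) (lab y a) → a = 0 := fun h => a0e (by
    have := (comm_flip_iff L C.hx).mpr h
    rwa [L.flip_flip C.hx, L.flip_fix C.hx (C.fib_nbr hy hq').2.2] at this)
  have mixed : uv g + γ • rv y = uv h → hermForm m F 2 (uv g) (uv g) = 0 →
      hermForm m F 2 (uv h) (uv h) = 0 → a ≠ 0 → γ * a ^ 2 = 1 := by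
    intro _ g0 h0 ha
    rw [huh, herm_add_left, herm_add_right hF, herm_add_right hF, herm_smul_left, herm_smul_right,
      herm_smul_left, herm_smul_right, hry, g0, hya, herm_swap hF (uv g) (rv y), hya] at h0
    refine (F4.self_conj hF (a := γ * a ^ 2) ?_).resolve_left (mul_ne_zero hγ (pow_ne_zero 2 ha))
    rw [mul_pow, F4.sq_sq hF]
    linear_combination h0
  rcases hge with h1 | h1 <;> rcases hhe with h1' | h1'
  · have := L.commute_all hg.1 hn (left_mem_line hg.1) (right_mem_line hh.1) hne C.he h1.symm h1'.symm hq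
    rw [(hlam g hg).1 h1, (hlam h hh).1 h1', a0e this]; ring
  · have ha : a ≠ 0 := by
      intro ha
      have hyl : y ∈ line D g h := by rwa [ha, K.lab_zero y hy] at hq
      refine hboth hh (L.commute_all hg.1 hn (left_mem_line hg.1) hyl ?_ C.he h1.symm hy.2.2
        (right_mem_line hh.1)).symm h1'
      exact fun q => hg.2 (q ▸ hy.2.1)
    rw [(hlam g hg).1 h1, (hlam h hh).2.1 h1', mixed huh.symm ((T.iso_iff hg).mpr (Or.inl h1))
      ((T.iso_iff hh).mpr (Or.inr h1')) ha, zero_add]
  · have ha : a ≠ 0 := by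
      intro ha
      have hyl : y ∈ line D g h := by rwa [ha, K.lab_zero y hy] at hq
      refine hboth hh h1' (L.commute_all hg.1 hn (left_mem_line hg.1) hyl ?_ hf.1 h1.symm
        (hfy y hy) (right_mem_line hh.1)).symm
      exact fun q => hg.2 (q ▸ hy.2.1)
    rw [(hlam g hg).2.1 h1, (hlam h hh).1 h1', mixed huh.symm ((T.iso_iff hg).mpr (Or.inr h1))
      ((T.iso_iff hh).mpr (Or.inl h1')) ha, h2]
  · have := L.commute_all hg.1 hn (left_mem_line hg.1) (right_mem_line hh.1) hne hf.1 h1.symm h1'.symm hq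
    rw [(hlam g hg).2.1 h1, (hlam h hh).2.1 h1', a0f this]; ring

end CfsgLib.FischerO2
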