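import Cfsg.Agent.Lib.FischerO2.Induct

/-!
The points of a unitary space: the last coordinate of a member off `x` is read off from its image
under the third point of `x` and `e`, and commuting is orthogonality.
-/

set_option autoImplicit false
set_option linter.style.haveILetI false

namespace CfsgLib.FischerO2

open Cfsg CfsgLib.ThreeTransp CfsgLib.ThreeTransp.StarPairs

attribute [local instance] _root_.Classical.propDecidable

/-! ### The field and the hyperbolic plane -/

section Plane

variable {F : Type*} [Field F] [Fintype F] (hF : Fintype.card F = 4)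
include hF

theorem F4.exists_omega : ∃ w : F, w ^ 2 + w + 1 = 0 := by
  obtain ⟨c, hc⟩ : ∃ c : F, c ∉ ({0, 1} : Finset F) := by
    by_contra! hall
    have := (Finset.card_le_card (fun c _ => hall c : Finset.univ ⊆ ({0, 1} : Finset F))).trans
      (Finset.card_le_two)
    rw [Finset.card_univ, hF] at this
    omega
  simp only [Finset.mem_insert, Finset.mem_singleton, not_or] at hc
  refine ⟨c, (mul_eq_zero.mp (?_ : (c - 1) * (c ^ 2 + c + 1) = 0)).resolve_left
    (sub_ne_zero.mpr hc.2)⟩
  linear_combination F4.cube hF hc.1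

theorem F4.root_ne {c : F} (hc : c ^ 2 + c + 1 = 0) : c ≠ 0 ∧ c ≠ 1 := by
  refine ⟨fun h => by simp [h] at hc, fun h => ?_⟩
  rw [h, one_pow, F4.add_self hF, zero_add] at hc
  exact one_ne_zero hc

theorem F4.root_of_ne {c : F} (h0 : c ≠ 0) (h1 : c ≠ 1) : c ^ 2 + c + 1 = 0 :=
  (mul_eq_zero.mp (show (c - 1) * (c ^ 2 + c + 1) = 0 by linear_combination F4.cube hF h0)
    ).resolve_left (sub_ne_zero.mpr h1)

theorem F4.eq_of_add {a b : F} (h : a + b = 0) : a = b := by
  linear_combination h - F4.add_self hF b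

theorem F4.two_roots {a b : F} (ha : a ^ 2 + a + 1 = 0) (hb : b ^ 2 + b + 1 = 0) (h : a ≠ b) :
    b = a + 1 := by
  have h2 : (a + b) * (a + b + 1) = 0 := by
    linear_combination ha + hb + F4.add_self hF (a * b) - F4.add_self hF (1 : F)
  exact F4.eq_of_add hF (by
    linear_combination (mul_eq_zero.mp h2).resolve_left fun q => h (F4.eq_of_add hF q))

theorem F4.self_conj {a : F} (h : a + a ^ 2 = 0) : a = 0 ∨ a = 1 := by
  rcases mul_eq_zero.mp (show a * (a + 1) = 0 by linear_combination h) with h | h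
  · exact Or.inl h
  · exact Or.inr (F4.eq_of_add hF h)

end Plane

/-- The orthogonal sum of a hyperbolic plane and the row space. -/
def emb {F : Type*} [Field F] {m : ℕ} (w p q : F) (u : Fin m → F) : Fin (m + 2) → F :=
  Fin.cons (p + q * w) (Fin.cons (p + q * w ^ 2) u)

section Emb

variable {F : Type*} [Field F] {m : ℕ} {w : F}

theorem emb_smul (c p q : F) (u : Fin m → F) : c • emb w p q u = emb w (c * p) (c * q) (c • u) := by
  funext i
  refine Fin.cases ?_ (fun j => ?_) i
  · simp [emb]; ring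
  · refine Fin.cases ?_ (fun k => ?_) j <;> simp [emb] <;> ring

theorem emb_zero : emb w 0 0 (0 : Fin m → F) = 0 := by
  funext i
  refine Fin.cases ?_ (fun j => ?_) i
  · simp [emb]
  · refine Fin.cases ?_ (fun k => ?_) j <;> simp [emb]

variable [Fintype F] (hF : Fintype.card F = 4) (hw : w ^ 2 + w + 1 = 0)
include hF hw

theorem herm_emb (p q p' q' : F) (u u' : Fin m → F) :
    hermForm (m + 2) F 2 (emb w p q u) (emb w p' q' u') =
      p * q' ^ 2 + q * p' ^ 2 + hermForm m F 2 u u' := by
  have h2 := F4.add_self hF (1 : F)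
  have h3 := F4.cube hF (F4.root_ne hF hw).1
  simp only [hermForm, emb, Fin.sum_univ_succ, Fin.cons_zero, Fin.cons_succ, F4.add_sq hF, mul_pow]
  linear_combination (p * p' ^ 2 + q * q' ^ 2 * w ^ 3 - p * q' ^ 2 - q * p' ^ 2) * h2
    + (p * q' ^ 2 * w + q * q' ^ 2 * w ^ 3) * h3
    + (p * q' ^ 2 + q * p' ^ 2) * hw

theorem emb_surj (v : Fin (m + 2) → F) :
    ∃ p q : F, ∃ u : Fin m → F, v = emb w p q u := by
  refine ⟨v 0 + (v 0 + v 1) * w, v 0 + v 1, Fin.tail (Fin.tail v), ?_⟩
  have h2 := F4.add_self hF (1 : F)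
  have e0 : v 0 + (v 0 + v 1) * w + (v 0 + v 1) * w = v 0 := by
    linear_combination (v 0 + v 1) * w * h2
  have e1 : v 0 + (v 0 + v 1) * w + (v 0 + v 1) * w ^ 2 = Fin.tail v 0 := by
    show _ = v 1
    linear_combination (v 0 + v 1) * hw - v 1 * h2
  show v = Fin.cons _ (Fin.cons _ _)
  rw [e0, e1, Fin.cons_self_tail, Fin.cons_self_tail]

theorem emb_inj {p q p' q' : F} {u u' : Fin m → F} (h : emb w p q u = emb w p' q' u') :
    p = p' ∧ q = q' ∧ u = u' := by
  obtain ⟨h0, h'⟩ := Fin.cons_inj.mp h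
  obtain ⟨h1, hu⟩ := Fin.cons_inj.mp h'
  have h2 := F4.add_self hF (1 : F)
  have hq : q = q' := by
    refine F4.eq_of_add hF ?_
    linear_combination (q - q') * hw - h0 - h1 + (p - p' + q') * h2
  subst hq
  exact ⟨add_right_cancel h0, rfl, hu⟩

end Emb

/-! ### The last coordinate -/

variable {G : Type*} [Group G] [Finite G] {D : Set G} {x e : G}
variable {F : Type*} [Field F] [Fintype F] {lab : G → F → G} {kap : G → G → F}
variable {m : ℕ} {rv : G → Fin m → F} {uv : G → Fin m → F}

omit [Finite G] in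
theorem comm_flip_iff (L : Lines D) {k p q : G} (hk : k ∈ D) :
    Commute (k * p * k) (k * q * k) ↔ Commute p q :=
  commute_conj_iff L.set hk p q

variable (T : Tight D x e lab kap m rv uv)
include T

theorem Tight.feet : Feet D x e lab kap m rv uv := T.toFeet

theorem Tight.lines : Lines D := T.toFeet.space.chart.lines

theorem Tight.f_facts : x * e * x ∈ off D x ∧ uv (x * e * x) = 0 ∧
    (x * e * x) * e * (x * e * x) = x ∧ (x * e * x) * x * (x * e * x) = e ∧ e ≠ x * e * x ∧
    ∀ y ∈ perp2 D x e, Commute (x * e * x) y := by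
  have K := T.feet
  have C := K.space.chart
  obtain ⟨h1, h2, h3⟩ := C.lines.third_swap C.hx C.he C.hxe
  refine ⟨K.x_off K.e_off, ?_, h3, h1, fun q => ?_, fun y hy =>
    (hy.2.1.mul_left hy.2.2).mul_left hy.2.1⟩
  · rw [K.uv_x K.e_off]; exact K.uv_zero K.e_off fun w hw => hw.2.2
  · rw [← q, C.lines.sq C.he, one_mul] at h2
    exact C.hxe (h2 ▸ Commute.refl _)

theorem Tight.x_ne {g : G} (hg : g ∈ off D x) : g ≠ x * g * x := fun h => hg.2 (by
  have L := T.lines
  calc x * g = x * (x * g * x) := by rw [← h]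
    _ = (x * x) * g * x := by group
    _ = g * x := by rw [L.sq T.hx, one_mul])

theorem Tight.pair {g h : G} (hg : g ∈ off D x) (hh : h ∈ off D x) (he : uv h = uv g) :
    h = g ∨ h = x * g * x := by
  have K := T.feet
  have hsub : ({g, x * g * x} : Set G) ⊆ {z | z ∈ off D x ∧ uv z = uv g} := by
    rintro q (rfl | rfl)
    · exact ⟨hg, rfl⟩
    · exact ⟨K.x_off hg, K.uv_x hg⟩
  have heq := Set.eq_of_subset_of_ncard_le hsub (by
    rw [K.fibre_ncard, T.two, Set.ncard_pair (T.x_ne hg)]) (Set.toFinite _)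
  have hmem : h ∈ ({g, x * g * x} : Set G) := heq ▸ ⟨hh, he⟩
  simpa using hmem

theorem Tight.zero {g : G} (hg : g ∈ off D x) (h : uv g = 0) : g = e ∨ g = x * e * x :=
  T.pair T.feet.e_off hg (h.trans (T.feet.uv_zero T.feet.e_off fun _ hw => hw.2.2).symm)

theorem Tight.special_point {y : G} (hy : y ∈ perp2 D x e) {γ : F} (hγ : γ ≠ 0) :
    (x * e * x) * lab y γ * (x * e * x) ∈ off D x ∧
    uv ((x * e * x) * lab y γ * (x * e * x)) = γ • rv y ∧
    Commute e ((x * e * x) * lab y γ * (x * e * x)) := by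
  have K := T.feet
  have C := K.space.chart
  have L := C.lines
  obtain ⟨hf, hf0, -, hfx, -, hfy⟩ := T.f_facts
  set f := x * e * x
  have ha := K.lab_mem y hy γ
  have hae : ¬ Commute e (lab y γ) := fun h => hγ
    (K.lab_inj y hy ((C.fib_e hy ha h).trans (K.lab_zero y hy).symm))
  have haf : ¬ Commute (lab y γ) f := by
    intro h
    have h' := (comm_flip_iff L C.hx).mpr h
    rw [L.flip_fix C.hx (C.fib_nbr hy ha).2.2, show x * f * x = e from L.flip_flip C.hx e] at h'
    exact hae h'.symm
  have htr : tr lab y γ * f * (tr lab y γ)⁻¹ = f * lab y γ * f := by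
    rw [K.tr_conj hy, L.flip_fix hy.1 (hfy y hy).symm, L.braid ha.1.1 hf.1 haf]
  refine ⟨htr ▸ K.tr_off hy γ hf, ?_,
    line_commute C.he hy.1 hy.2.2 (left_mem_line C.he) (L.key C.hx C.he C.hxe hy ha.1)⟩
  rw [← htr, K.uv_tr hy γ hf, hf0, zero_add]

theorem Tight.comm_e {g : G} (hg : g ∈ off D x) (hge : Commute g e) (hne : g ≠ e) :
    ∃ y ∈ perp2 D x e, ∃ γ : F, γ ≠ 0 ∧ g = (x * e * x) * lab y γ * (x * e * x) ∧
      uv g = γ • rv y := by
  have K := T.feet
  have C := K.space.chart
  have L := C.lines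
  obtain ⟨hf, -, hfe, hfx, -, hfy⟩ := T.f_facts
  set f := x * e * x
  have h1 : Commute (f * g * f) x := by rw [← hfe]; exact (comm_flip_iff L hf.1).mpr hge
  have h2 : f * g * f ≠ x := fun h => hne (by
    rw [← L.flip_flip hf.1 g, h, hfx])
  obtain ⟨y, hy, hp⟩ := C.exists_fib (⟨L.cj_mem hf.1 hg.1, h2, h1.symm⟩ : f * g * f ∈ nbr D x)
  obtain ⟨γ, hγ⟩ := K.lab_surj y hy _ hp
  have hγ0 : γ ≠ 0 := fun h => by
    rw [h, K.lab_zero y hy] at hγ
    have : g = y := by rw [← L.flip_flip hf.1 g, ← hγ, L.flip_fix hf.1 (hfy y hy)]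
    exact hg.2 (this ▸ hy.2.1)
  have hgeq : g = f * lab y γ * f := by rw [hγ, L.flip_flip hf.1]
  exact ⟨y, hy, γ, hγ0, hgeq, hgeq ▸ (T.special_point hy hγ0).2.1⟩

theorem Tight.flip_special {g : G} (h : Commute g (x * e * x)) : Commute (x * g * x) e := by
  have L := T.lines
  have := (comm_flip_iff L T.hx).mpr h
  rwa [L.flip_flip T.hx] at this

/-- Isotropic vectors belong to the members commuting with `e` or with the third point. -/
theorem Tight.iso_iff {g : G} (hg : g ∈ off D x) :
    hermForm m F 2 (uv g) (uv g) = 0 ↔ Commute g e ∨ Commute g (x * e * x) := by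
  have K := T.feet
  have C := K.space.chart
  have L := C.lines
  obtain ⟨hf, hf0, -, -, -, -⟩ := T.f_facts
  constructor
  · intro h0
    by_cases hu : uv g = 0
    · rcases T.zero hg hu with rfl | rfl
      exacts [Or.inl (Commute.refl _), Or.inr (Commute.refl _)]
    obtain ⟨y, hy, γ, hγ, huy⟩ := T.onto _ hu h0
    obtain ⟨h1, h2, h3⟩ := T.special_point hy hγ
    rcases T.pair h1 hg (huy.trans h2.symm) with rfl | rfl
    · exact Or.inl h3.symm
    · exact Or.inr ((comm_flip_iff L C.hx).mpr h3.symm)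
  · have key : ∀ g ∈ off D x, Commute g e → hermForm m F 2 (uv g) (uv g) = 0 := by
      intro g hg hge
      rcases eq_or_ne g e with rfl | hne
      · rw [K.uv_zero K.e_off fun _ hw => hw.2.2, herm_zero_left]
      · obtain ⟨y, hy, γ, -, -, hu⟩ := T.comm_e hg hge hne
        rw [hu, herm_smul_left, herm_smul_right, K.space.rv_self hy, mul_zero, mul_zero]
    rintro (h | h)
    · exact key g hg h
    · rw [← K.uv_x hg]; exact key _ (K.x_off hg) (T.flip_special h)

/-- The scalar carried to the image under the third point. -/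
theorem Tight.exists_ratio {g : G} (hg : g ∈ off D x) (hge : ¬ Commute g e)
    (hgf : ¬ Commute g (x * e * x)) :
    ∃ c : F, c ^ 2 + c + 1 = 0 ∧ (x * e * x) * g * (x * e * x) ∈ off D x ∧
      uv ((x * e * x) * g * (x * e * x)) = c • uv g := by
  have K := T.feet
  have C := K.space.chart
  have L := C.lines
  have hF := K.card
  obtain ⟨hf, -, hfe, hfx, -, hfy⟩ := T.f_facts
  set f := x * e * x
  set g' := f * g * f
  have hg' : g' ∈ off D x := ⟨L.cj_mem hf.1 hg.1, fun h => hge (by
    have := (L.commute_flip hf.1).mp h.symm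
    rwa [hfx] at this)⟩
  set al : G → F := fun w => hermForm m F 2 (uv g) (rv w)
  set be : G → F := fun w => hermForm m F 2 (uv g') (rv w)
  have hzero : ∀ w ∈ perp2 D x e, (be w = 0 ↔ al w = 0) := fun w hw => by
    show hermForm m F 2 _ _ = 0 ↔ hermForm m F 2 _ _ = 0
    rw [← K.comm_iff hg' hw 0, ← K.comm_iff hg hw 0, K.lab_zero w hw]
    conv_lhs => rw [← L.flip_fix hf.1 (hfy w hw)]
    exact comm_flip_iff L hf.1
  have hne : ∀ w ∈ perp2 D x e, al w ≠ 0 → be w ≠ al w := by
    intro w hw h0 hab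
    set a := lab w (al w)
    have ha := K.lab_mem w hw (al w)
    have hga : Commute g a := (K.comm_iff hg hw _).mpr rfl
    have hg'a : Commute g' a := (K.comm_iff hg' hw _).mpr hab
    have hgfaf : Commute g (f * a * f) := (L.commute_flip hf.1).mp hg'a
    have haf : ¬ Commute a f := by
      intro h
      have h' := (comm_flip_iff L C.hx).mpr h
      rw [L.flip_fix C.hx (C.fib_nbr hw ha).2.2, show x * f * x = e from L.flip_flip C.hx e] at h'
      exact h0 (K.lab_inj w hw ((C.fib_e hw ha h'.symm).trans (K.lab_zero w hw).symm))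
    rw [← L.braid ha.1.1 hf.1 haf] at hgfaf
    have := (hga.mul_right hgfaf).mul_right hga
    rw [L.flip_flip ha.1.1] at this
    exact hgf this
  have hroot : ∀ w ∈ perp2 D x e, al w ≠ 0 → (be w / al w) ^ 2 + be w / al w + 1 = 0 :=
    fun w hw h0 => F4.root_of_ne hF (div_ne_zero (fun q => h0 ((hzero w hw).mp q)) h0)
      (fun q => hne w hw h0 ((div_eq_one_iff_eq h0).mp q))
  have link : ∀ w ∈ perp2 D x e, ∀ v ∈ perp2 D x e, al w ≠ 0 → al v ≠ 0 →
      be w / al w = be v / al v := by
    intro w hw v hv h1 h2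
    by_contra hne'
    set c₁ := be w / al w
    set c₂ := be v / al v
    have hb1 : be w = c₁ * al w := (div_mul_cancel₀ _ h1).symm
    have hb2 : be v = c₂ * al v := (div_mul_cancel₀ _ h2).symm
    have main : ∀ r ∈ perp2 D x e, ∀ A B : F, A ≠ 0 → B ≠ 0 →
        al r = A * al w + B * al v → be r = A * be w + B * be v → False := by
      intro r hr A B hA hB ha hb
      rw [hb1, hb2] at hb
      by_cases h3 : al r = 0
      · rw [(hzero r hr).mpr h3] at hb
        rw [h3] at ha
        have : A * al w * (c₁ - c₂) = 0 := by linear_combination c₂ * ha - hb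
        rcases mul_eq_zero.mp this with h | h
        · exact mul_ne_zero hA h1 h
        · exact hne' (sub_eq_zero.mp h)
      · have h3' := hroot r hr h3
        set c₃ := be r / al r
        have hb3 : be r = c₃ * al r := (div_mul_cancel₀ _ h3).symm
        have hc3 : c₃ = c₁ ∨ c₃ = c₂ := by
          by_contra hh
          push Not at hh
          have e1 := F4.two_roots hF (hroot w hw h1) h3' hh.1.symm
          exact hh.2 (e1.trans (F4.two_roots hF (hroot w hw h1) (hroot v hv h2) hne').symm)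
        rw [hb3, ha] at hb
        rcases hc3 with h | h <;> rw [h] at hb
        · have : B * al v * (c₁ - c₂) = 0 := by linear_combination hb
          rcases mul_eq_zero.mp this with h' | h'
          · exact mul_ne_zero hB h2 h'
          · exact hne' (sub_eq_zero.mp h')
        · have : A * al w * (c₁ - c₂) = 0 := by linear_combination -hb
          rcases mul_eq_zero.mp this with h' | h'
          · exact mul_ne_zero hA h1 h'
          · exact hne' (sub_eq_zero.mp h')
    have hwv : w ≠ v := by rintro rfl; exact hne' rfl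
    by_cases hc : Commute w v
    · have hn : v ∈ nbr D w := ⟨hv.1, hwv.symm, hc⟩
      obtain ⟨r, hr, hgr⟩ := L.exists_foot hw.1 hn hg.1
      have hrD := C.line_sub hw hv hc hr
      have hr0 : al r = 0 := (K.comm_iff hg hrD 0).mp (by rw [K.lab_zero r hrD]; exact hgr)
      obtain ⟨A, B, hA, hB, hAB⟩ := K.kap_line hw hv hwv hc hr (fun q => h1 (q ▸ hr0))
        (fun q => h2 (q ▸ hr0))
      exact main r hrD A B hA hB (K.space.herm_ext_left hrD hw hv hAB _)
        (K.space.herm_ext_left hrD hw hv hAB _)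
    · obtain ⟨hn1, hn2⟩ := K.third_nc hw hv hc
      have hrD := C.flip_mem hw hv
      exact main _ hrD _ _ (K.coord.kap_ne hw hrD hn1) (K.coord.kap_ne hv hrD hn2)
        (K.space.herm_hyp hw hv hc _) (K.space.herm_hyp hw hv hc _)
  obtain ⟨w₀, hw₀, h₀⟩ : ∃ w ∈ perp2 D x e, al w ≠ 0 := by
    by_contra! hall
    have hu : uv g = 0 := K.space.ext_rows fun w hw => by rw [herm_zero_left]; exact hall w hw
    rcases T.zero hg hu with rfl | rfl
    exacts [hge (Commute.refl _), hgf (Commute.refl _)]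
  refine ⟨be w₀ / al w₀, hroot w₀ hw₀ h₀, hg', K.space.ext_rows fun w hw => ?_⟩
  rw [herm_smul_left]
  show be w = _ * al w
  by_cases h : al w = 0
  · rw [h, mul_zero]; exact (hzero w hw).mpr h
  · rw [link w₀ hw₀ w hw h₀ h, div_mul_cancel₀ _ h]

/-- The last coordinate. -/
theorem Tight.exists_lam : ∃ lam : G → F, ∀ g ∈ off D x,
    (Commute g e → lam g = 0) ∧ (Commute g (x * e * x) → lam g = 1) ∧
    (¬ Commute g e → ¬ Commute g (x * e * x) → ∃ c : F, c ^ 2 + c + 1 = 0 ∧
      (x * e * x) * g * (x * e * x) ∈ off D x ∧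
      uv ((x * e * x) * g * (x * e * x)) = c • uv g ∧ lam g = c ^ 2) := by
  have : ∀ g : G, ∃ l : F, g ∈ off D x →
      (Commute g e → l = 0) ∧ (Commute g (x * e * x) → l = 1) ∧
      (¬ Commute g e → ¬ Commute g (x * e * x) → ∃ c : F, c ^ 2 + c + 1 = 0 ∧
        (x * e * x) * g * (x * e * x) ∈ off D x ∧
        uv ((x * e * x) * g * (x * e * x)) = c • uv g ∧ l = c ^ 2) := by
    intro g
    by_cases hg : g ∈ off D x
    swap
    · exact ⟨0, fun h => absurd h hg⟩
    have L := T.lines
    obtain ⟨hf, -, hfe, -, -, -⟩ := T.f_facts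
    have hboth : Commute g e → Commute g (x * e * x) → False := fun h1 h2 => hg.2 (by
      have := (h2.mul_right h1).mul_right h2
      rw [hfe] at this
      exact this.symm)
    by_cases he : Commute g e
    · exact ⟨0, fun _ => ⟨fun _ => rfl, fun h => (hboth he h).elim, fun h => absurd he h⟩⟩
    by_cases hf' : Commute g (x * e * x)
    · exact ⟨1, fun _ => ⟨fun h => absurd h he, fun _ => rfl, fun _ h => absurd hf' h⟩⟩
    obtain ⟨c, h1, h2, h3⟩ := T.exists_ratio hg he hf'
    exact ⟨c ^ 2, fun _ => ⟨fun h => absurd h he, fun h => absurd h hf',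
      fun _ _ => ⟨c, h1, h2, h3, rfl⟩⟩⟩
  choose lam h using this
  exact ⟨lam, h⟩

end CfsgLib.FischerO2
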