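import Cfsg.Agent.Lib.FischerO2.Main
import Cfsg.Agent.Lib.Coxeter.TypeA

/-!
When the members next to one member generate a solvable group the class is small.
-/

set_option autoImplicit false
set_option linter.style.haveILetI false

namespace CfsgLib.FischerO2

open Cfsg CfsgLib.ThreeTransp CfsgLib.ThreeTransp.StarPairs
open scoped commutatorElement

theorem cycle_comm :
    ⁅Equiv.swap (0 : Fin 5) 3 * (Equiv.swap 0 1 * Equiv.swap 1 2) * (Equiv.swap 0 3)⁻¹,
      Equiv.swap (0 : Fin 5) 1 * Equiv.swap 2 4 * (Equiv.swap 0 1 * Equiv.swap 1 2) *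
        (Equiv.swap 0 1 * Equiv.swap 2 4)⁻¹⁆ = Equiv.swap 0 1 * Equiv.swap 1 2 := by
  rw [commutatorElement_def]
  decide

theorem symp_one_key : ∀ u v : Fin 1 ⊕ Fin 1 → ZMod 2,
    u ≠ 0 → v ≠ 0 → sympForm 1 (ZMod 2) u v = 0 → u = v := by
  have key : ∀ a b c d : ZMod 2, ¬ (a = 0 ∧ b = 0) → ¬ (c = 0 ∧ d = 0) → b * c + a * d = 0 →
      a = c ∧ b = d := by decide
  intro u v hu hv h
  have hu' : ¬ (u (.inl 0) = 0 ∧ u (.inr 0) = 0) := fun hh => hu (funext fun i => by
    rcases i with i | i <;> fin_cases i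
    exacts [hh.1, hh.2])
  have hv' : ¬ (v (.inl 0) = 0 ∧ v (.inr 0) = 0) := fun hh => hv (funext fun i => by
    rcases i with i | i <;> fin_cases i
    exacts [hh.1, hh.2])
  obtain ⟨e1, e2⟩ := key _ _ _ _ hu' hv' (by
    simp [sympForm, dotProduct, Matrix.mulVec, Matrix.J, Matrix.fromBlocks] at h
    revert h
    generalize u (.inl 0) = a, u (.inr 0) = b, v (.inl 0) = c, v (.inr 0) = d
    revert a b c d
    decide)
  funext i
  rcases i with i | i <;> fin_cases i
  exacts [e1, e2]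

attribute [local instance] _root_.Classical.propDecidable

variable {G : Type*} [Group G] [Finite G] {D : Set G}

/-- Some member has two others next to it. -/
theorem nbr_not_subsingleton (hG : IsThreeTranspositionGroup D) (hprim : IsPrimitiveUnderConj D)
    (hw : ∃ a ∈ D, ∃ b ∈ D, a ≠ b ∧ Commute a b) {x : G} (hx : x ∈ D) :
    ∃ a ∈ nbr D x, ∃ b ∈ nbr D x, a ≠ b := by
  by_contra! h
  obtain ⟨hS, hc, -⟩ := id hG
  have hsub : ∀ y ∈ D, (nbr D y).Subsingleton := by
    intro y hy
    obtain ⟨g, rfl⟩ := hprim.1 x hx y hy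
    rw [nbr_image hc]
    exact Set.Subsingleton.image (fun a ha b hb => h a ha b hb) _
  set R : G → G → Prop := fun a b => a = b ∨ (a ∈ D ∧ b ∈ D ∧ Commute a b)
  have hR : IsInvariantEquiv D R :=
    { refl := fun a => Or.inl rfl
      symm := fun {a b} h => h.elim (fun e => Or.inl e.symm) fun h =>
        Or.inr ⟨h.2.1, h.1, h.2.2.symm⟩
      trans := fun {a b c} h h' => by
        by_cases hac : a = c
        · exact Or.inl hac
        rcases h with rfl | h
        · exact h'
        rcases h' with rfl | h'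
        · exact Or.inr h
        by_cases hab : a = b
        · exact Or.inr ⟨h.1, h'.2.1, hab ▸ h'.2.2⟩
        by_cases hbc : b = c
        · exact Or.inr ⟨h.1, h'.2.1, hbc ▸ h.2.2⟩
        exact absurd (hsub b h.2.1 ⟨h.1, hab, h.2.2.symm⟩ ⟨h'.2.1, fun e => hbc e.symm, h'.2.2⟩) hac
      map := fun g {a b} h => h.elim (fun e => Or.inl (by rw [e])) fun h =>
        Or.inr ⟨hc g a h.1, hc g b h.2.1, commute_conj.mpr h.2.2⟩ }
  obtain ⟨a, ha, b, hb, hab, hcomm⟩ := hw
  rcases eq_or_full_of_primitive hc hprim hR ha with h1 | h1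
  · exact hab (h1 b hb (Or.inr ⟨ha, hb, hcomm⟩)).symm
  · obtain ⟨hcls, hD2⟩ := class_of_primitive hG hprim
    obtain ⟨z, hz, hne⟩ := exists_not_commute hcls hD2 ha
    rcases h1 z hz with h2 | h2
    · exact hne (h2 ▸ Commute.refl _)
    · exact hne h2.2.2

/-- A solvable group generated by the members next to one has a noncentral 2- or 3-core. -/
theorem core_noncentral (hG : IsThreeTranspositionGroup D) (hprim : IsPrimitiveUnderConj D)
    (hw : ∃ a ∈ D, ∃ b ∈ D, a ≠ b ∧ Commute a b) {x : G} (hx : x ∈ D)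
    (hs : Group.IsSolvable (Subgroup.closure (nbr D x))) :
    ¬ pCore 2 (Subgroup.closure (nbr D x)) ≤ Subgroup.center _ ∨
      ¬ pCore 3 (Subgroup.closure (nbr D x)) ≤ Subgroup.center _ := by
  by_contra! h
  obtain ⟨a, ha, b, hb, hab⟩ := nbr_not_subsingleton hG hprim hw hx
  obtain ⟨-, hq, -⟩ := layer_structure (nbrD_class hG hprim hw hx)
    ⟨⟨a, Subgroup.subset_closure ha⟩, ha, ⟨b, Subgroup.subset_closure hb⟩, hb,
      fun e => hab (congrArg Subtype.val e)⟩ h.1 h.2
  haveI := hs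
  exact Layer.not_isSolvable_of_isQuasisimple hq inferInstance

/-- Four members in a chain generate a non-solvable group. -/
theorem not_solvable_of_chain {K : Type*} [Group K] {t : Fin 4 → K} (hsq : ∀ i, t i * t i = 1)
    (h3 : ∀ i j : Fin 4, (j : ℕ) + 1 = i ∨ (i : ℕ) + 1 = j → (t i * t j) ^ 3 = 1)
    (h2 : ∀ i j : Fin 4, i ≠ j → ¬ ((j : ℕ) + 1 = i ∨ (i : ℕ) + 1 = j) → (t i * t j) ^ 2 = 1)
    (hne : t 0 ≠ t 1) : ¬ Group.IsSolvable K := by
  intro hK
  obtain ⟨cs, hcs⟩ := CfsgLib.CoxeterA.exists_system 4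
  have hl : (CoxeterMatrix.A 4).IsLiftable t := by
    intro i j
    have hA : (CoxeterMatrix.A 4) i j = if i = j then 1
        else (if (j : ℕ) + 1 = i ∨ (i : ℕ) + 1 = j then 3 else 2) := rfl
    rw [hA]
    by_cases h : i = j
    · rw [if_pos h, pow_one, h, hsq]
    · rw [if_neg h]
      by_cases h' : (j : ℕ) + 1 = i ∨ (i : ℕ) + 1 = j
      · rw [if_pos h']; exact h3 i j h'
      · rw [if_neg h']; exact h2 i j h h'
  set φ := cs.lift ⟨t, hl⟩
  have hφ : ∀ i : Fin 4, φ (Equiv.swap i.castSucc i.succ) = t i := fun i => by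
    rw [← hcs i]; exact CoxeterSystem.lift_apply_simple cs hl i
  set c : Equiv.Perm (Fin 5) := Equiv.swap 0 1 * Equiv.swap 1 2
  have hmem : ∀ k, φ c ∈ derivedSeries K k := by
    have key : ∀ k, c ∈ derivedSeries (Equiv.Perm (Fin 5)) k := by
      intro k
      induction k with
      | zero => simp
      | succ k ih =>
        have hn := derivedSeries_normal (Equiv.Perm (Fin 5)) k
        have hu := hn.conj_mem c ih (Equiv.swap 0 3)
        have hv := hn.conj_mem c ih (Equiv.swap 0 1 * Equiv.swap 2 4)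
        rw [derivedSeries_succ, show c = _ from cycle_comm.symm]
        exact Subgroup.commutator_mem_commutator hu hv
    exact fun k => map_derivedSeries_le_derivedSeries φ k ⟨c, key k, rfl⟩
  obtain ⟨n, hn⟩ := (Group.isSolvable_def K).mp hK
  have h1 : φ c = 1 := Subgroup.mem_bot.mp (hn ▸ hmem n)
  rw [show c = Equiv.swap (0 : Fin 4).castSucc (0 : Fin 4).succ *
    Equiv.swap (1 : Fin 4).castSucc (1 : Fin 4).succ from rfl, map_mul, hφ, hφ] at h1
  refine hne ?_
  calc t 0 = t 0 * (t 1 * t 1) := by rw [hsq, mul_one]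
    _ = t 1 := by rw [← mul_assoc, h1, one_mul]

open CfsgLib.Classical.SympTrans (f_inl f_inr f_add_right) in
/-- The symplectic case. -/
theorem Symp.solvable (S : Symp D) (hZ : Subgroup.center G = ⊥) {x : G} (hx : x ∈ D)
    (hs : Group.IsSolvable (Subgroup.closure (nbr D x))) :
    Nonempty (G ≃* Matrix.symplecticGroup (Fin 2) (ZMod 2)) := by
  obtain ⟨m, vec, h0, hsurj, hcomm, -, hiso⟩ := S.iso_vec hZ
  have L := S.toLines
  match m with
  | 0 => exact absurd (funext fun i : Fin 0 ⊕ Fin 0 => i.elim (·.elim0) (·.elim0)) (h0 ⟨x, hx⟩)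
  | 1 =>
    exfalso
    obtain ⟨a, ha, b, hb, hab, hcm⟩ := L.wide
    have h := (hcomm ⟨a, ha⟩ ⟨b, hb⟩).mp hcm
    have hv := symp_one_key _ _ (h0 ⟨a, ha⟩) (h0 ⟨b, hb⟩) h
    obtain ⟨z, hz, haz, hbz⟩ := L.exists_sep ha hb hab
    refine hbz ((hcomm ⟨b, hb⟩ ⟨z, hz⟩).mpr ?_)
    rw [← hv]
    exact (hcomm ⟨a, ha⟩ ⟨z, hz⟩).mp haz
  | 2 => exact hiso
  | k + 3 =>
    exfalso
    set i0 : Fin (k + 3) := ⟨0, by omega⟩
    set i1 : Fin (k + 3) := ⟨1, by omega⟩
    set i2 : Fin (k + 3) := ⟨2, by omega⟩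
    have h01 : i0 ≠ i1 := by simp [i0, i1]
    have h02 : i0 ≠ i2 := by simp [i0, i2]
    have h12 : i1 ≠ i2 := by simp [i1, i2]
    set v : Fin 4 → (Fin (k + 3) ⊕ Fin (k + 3) → ZMod 2) :=
      ![Pi.single (.inl i1) 1, Pi.single (.inr i1) 1,
        Pi.single (.inl i1) 1 + Pi.single (.inl i2) 1, Pi.single (.inr i2) 1] with hv
    have hv0 : ∀ i, v i ≠ 0 := by
      intro i h
      fin_cases i
      · simpa [v] using congrFun h (.inl i1)
      · simpa [v] using congrFun h (.inr i1)
      · simpa [v, h12] using congrFun h (.inl i1)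
      · simpa [v] using congrFun h (.inr i2)
    choose t ht using fun i => hsurj (v i) (hv0 i)
    obtain ⟨a, ha⟩ := hsurj (Pi.single (.inl i0) 1) (fun h => by simpa using congrFun h (.inl i0))
    have hvx : ∀ i, sympForm (k + 3) (ZMod 2) (v i) (Pi.single (.inl i0) 1) = 0 := by
      intro i
      rw [f_inl]
      fin_cases i <;> simp [v, h01, h02]
    have hpos : ∀ i, v i ≠ Pi.single (.inl i0) 1 := by
      intro i h
      have := congrFun h (.inl i0)
      fin_cases i <;> simp [v, h01, h02] at this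
    have hω : ∀ i j : Fin 4, sympForm (k + 3) (ZMod 2) (v i) (v j) =
        if (j : ℕ) + 1 = i ∨ (i : ℕ) + 1 = j then 1 else 0 := by
      intro i j
      fin_cases i <;> fin_cases j <;>
        simp [v, f_inl, f_inr, f_add_right, h12, h12.symm, show (-1 : ZMod 2) = 1 from rfl,
          show (1 : ZMod 2) + 1 = 0 from rfl]
    obtain ⟨g, hg⟩ := L.prim.1 _ a.2 x hx
    set s : Fin 4 → G := fun i => g * (t i : G) * g⁻¹
    have hsn : ∀ i, s i ∈ nbr D x := fun i => by
      rw [← hg]
      refine nbr_conj L.closed g ⟨(t i).2, fun e => hpos i ?_, ((hcomm (t i) a).mpr ?_).symm⟩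
      · rw [← ht i, ← ha, show t i = a from Subtype.ext e]
      · rw [ht i, ha]; exact hvx i
    have hsc : ∀ i j, Commute (s i) (s j) ↔ ¬ ((j : ℕ) + 1 = i ∨ (i : ℕ) + 1 = j) := by
      intro i j
      rw [commute_conj, hcomm (t i) (t j), ht i, ht j, hω]
      split <;> simp_all
    refine not_solvable_of_chain (K := Subgroup.closure (nbr D x))
      (t := fun i => ⟨s i, Subgroup.subset_closure (hsn i)⟩)
      (fun i => Subtype.ext (L.sq (hsn i).1)) ?_ ?_ ?_ hs
    · intro i j hij
      refine Subtype.ext ?_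
      have hb := L.braid (hsn i).1 (hsn j).1 (fun hc => (hsc i j).mp hc hij)
      show (s i * s j) ^ 3 = 1
      calc (s i * s j) ^ 3 = (s i * s j * s i) * (s j * s i * s j) := by
            simp only [pow_succ, pow_zero, one_mul, mul_assoc]
        _ = (s i * s j * s i) * (s i * s j * s i) := by rw [hb]
        _ = s i * s j * (s i * s i) * s j * s i := by group
        _ = s i * (s j * s j) * s i := by rw [L.sq (hsn i).1]; group
        _ = 1 := by rw [L.sq (hsn j).1, mul_one, L.sq (hsn i).1]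
    · intro i j _ hij
      refine Subtype.ext ?_
      show (s i * s j) ^ 2 = 1
      rw [Commute.mul_pow ((hsc i j).mpr hij), pow_two, pow_two, L.sq (hsn i).1, L.sq (hsn j).1,
        one_mul]
    · intro e
      exact (hsc 0 1).mp (by rw [show s 0 = s 1 from congrArg Subtype.val e])
        (Or.inr rfl)

/-- The unitary case. -/
theorem Unit5.solvable (U : Unit5 D) (hZ : Subgroup.center G = ⊥) {x : G} (hx : x ∈ D)
    (hs : Group.IsSolvable (Subgroup.closure (nbr D x))) :
    ∃ (F : Type) (_ : Field F) (_ : Fintype F), Fintype.card F = 4 ∧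
      (Nonempty (G ≃* PSU 4 F 2) ∨ Nonempty (G ≃* PSU 5 F 2)) := by
  haveI : Fact (Nat.Prime 2) := ⟨Nat.prime_two⟩
  letI : Fintype (GaloisField 2 2) := Fintype.ofFinite _
  have hF : Fintype.card (GaloisField 2 2) = 4 := by
    rw [← Nat.card_eq_fintype_card, GaloisField.card 2 2 (by norm_num)]; norm_num
  refine ⟨GaloisField 2 2, inferInstance, inferInstance, hF, ?_⟩
  obtain ⟨hcls, hD2⟩ := class_of_primitive U.grp U.prim
  obtain ⟨e, he, hne⟩ := exists_not_commute hcls hD2 hx
  have C : Chart D x e := { toUnit5 := U, hx := hx, he := he, hxe := hne }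
  obtain ⟨lab, kap, K⟩ := C.exists_coord (F := GaloisField 2 2) hF
  obtain ⟨m, rv, S⟩ := K.exists_space
  obtain ⟨uv, Fe⟩ := S.exists_feet
  obtain ⟨T, hm, -, hsmall⟩ := Fe.tight fun hrank => Unit5.counts hF _ (C.sub_unit hrank) rfl
  obtain ⟨φ, P⟩ := T.exists_points hm
  obtain ⟨-, f, hf, hi⟩ := exists_hom_psu hF U (n := m + 2) (by omega) P
  rcases hsmall with hrank | hle
  · exfalso
    have U' := C.sub_unit hrank
    obtain ⟨x', e', C'⟩ := U'.exists_chart
    obtain ⟨lab', kap', m', rv', uv', T', hm'⟩ := C'.exists_tight hF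
    obtain ⟨φ', P'⟩ := T'.exists_points hm'
    obtain ⟨hnc, f', hf', -⟩ := exists_hom_psu hF U' (n := m' + 2) (by omega) P'
    obtain ⟨Kc⟩ := exists_conjF hF
    haveI := F4.charTwo hF
    haveI : IsSimpleGroup (PSU (m' + 2) (GaloisField 2 2) 2) :=
      Classical.Herm.isSimpleGroup Kc 2 (by omega) (fun h => by omega)
    haveI := hs
    have hle : Subgroup.closure (perp2 D x e) ≤ Subgroup.closure (nbr D x) :=
      Subgroup.closure_mono fun w hw => C.mem_nbr hw
    haveI : Group.IsSolvable (Subgroup.closure (perp2 D x e)) :=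
      Group.isSolvable_of_isSolvable_injective (Subgroup.inclusion_injective hle)
    haveI : Group.IsSolvable (PSU (m' + 2) (GaloisField 2 2) 2) := Group.isSolvable_of_surjective hf'
    exact hnc fun a b => IsSimpleGroup.comm_iff_isSolvable.mpr inferInstance a b
  · rcases (show m = 2 ∨ m = 3 by omega) with rfl | rfl
    · exact Or.inl ⟨MulEquiv.ofBijective f ⟨hi hZ, hf⟩⟩
    · exact Or.inr ⟨MulEquiv.ofBijective f ⟨hi hZ, hf⟩⟩

end CfsgLib.FischerO2
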